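/-
Maximality of the geometric subgroups of `SL_n`, for every `n` at least six.
-/
import Cfsg.Agent.Lib.Classical22.DecompCoords
import Cfsg.Agent.Lib.Classical22.DecompLineSix
import Cfsg.Agent.Lib.Classical22.TensorMaxFinal
import Cfsg.Agent.Lib.Classical22.TensorMaxTransport
import Cfsg.Agent.Lib.Transvec.LinSubfield
import Cfsg.Agent.Lib.Transvec.Linear
import Cfsg.Agent.Lib.Transvec.OrthOverSLEich
import Cfsg.Agent.Lib.Transvec.Symplectic
import Cfsg.Agent.Lib.Transvec.Unitary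

set_option autoImplicit false
set_option linter.all false

open Cfsg

namespace CfsgLib.SLGeometric

namespace Subspace


open CfsgLib.Transvec Matrix

theorem subspace_maximal {F : Type*} [Field F] [Fintype F] (n : ℕ) (hn : 6 ≤ n) (W : Submodule F (Fin n → F)) (hW0 : W ≠ ⊥) (hW1 : W ≠ ⊤) : Cfsg.Geo.IsMaximalIn (Cfsg.Geo.specialLinear (Fin n) F) (Cfsg.Geo.subspaceStabilizer W ⊓ Cfsg.Geo.specialLinear (Fin n) F) := by
  refine ⟨lt_of_le_not_ge inf_le_right fun hle => ?_, fun M hHM hMK => ?_⟩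
  · obtain ⟨g, hg, hg'⟩ := exists_transv_not_stab hW0 hW1
    exact hg' (hle hg).1
  by_cases hM : M ≤ Cfsg.Geo.subspaceStabilizer W
  · exact Or.inl (le_antisymm (le_inf hM hMK) hHM)
  right
  obtain ⟨g, hgM, hg⟩ := SetLike.not_le_iff_exists.mp hM
  obtain ⟨w, hw, hgw⟩ : ∃ w ∈ W, (g : Matrix (Fin n) (Fin n) F) *ᵥ w ∉ W := by
    by_contra h
    simp only [not_exists, not_and, not_not] at h
    exact hg (mem_subspaceStabilizer_of_maps h)
  obtain ⟨u, hu⟩ : ∃ u, u = (g : Matrix (Fin n) (Fin n) F) *ᵥ w := ⟨_, rfl⟩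
  rw [← hu] at hgw
  have hmem : ∀ v φ : Fin n → F, φ ⬝ᵥ v = 0 → (v ∈ W ∨ ∀ x ∈ W, φ ⬝ᵥ x = 0) → transv v φ ∈ M :=
    fun v φ hd h => hHM ⟨h.elim (transv_mem_stab_of_mem hd) (transv_mem_stab_of_ker hd),
      transv_mem_specialLinear v φ⟩
  have hupairs : ∀ φ : Fin n → F, φ ⬝ᵥ u = 0 → FullPair M u φ := by
    rw [hu]
    exact allPairs_conj hgM fun φ hφ a => hmem w _ (by rw [smul_dotProduct, hφ, smul_zero]) (Or.inl hw)
  refine le_antisymm hMK (specialLinear_le fun x φ hφ => ?_)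
  by_cases hx : x ∈ W
  · exact hmem x φ hφ (Or.inl hx)
  suffices hall : ∀ ψ : Fin n → F, ψ ⬝ᵥ x = 0 → FullPair M x ψ by
    simpa using hall φ hφ 1
  by_cases hcase : u ∈ W ⊔ Submodule.span F {x - u}
  · obtain ⟨w', hw', y, hy, hwy⟩ := Submodule.mem_sup.mp hcase
    obtain ⟨a, rfl⟩ := Submodule.mem_span_singleton.mp hy
    have ha : a ≠ 0 := fun h => hgw (by rw [← hwy, h, zero_smul, add_zero]; exact hw')
    obtain ⟨c, hc⟩ : ∃ c, c = (1 + a) / a := ⟨_, rfl⟩
    obtain ⟨d, hd⟩ : ∃ d, d = -(a⁻¹) • w' := ⟨_, rfl⟩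
    have hdW : d ∈ W := hd ▸ W.smul_mem _ hw'
    have hxe : x = c • u + d := by
      funext i
      have h := congrFun hwy i
      simp only [Pi.add_apply, Pi.smul_apply, Pi.sub_apply, smul_eq_mul] at h
      rw [hc, hd]
      simp only [Pi.add_apply, Pi.smul_apply, smul_eq_mul]
      field_simp
      linear_combination h
    have hc0 : c ≠ 0 := fun h => hx (by rw [hxe, h, zero_smul, zero_add]; exact hdW)
    obtain ⟨ψ, hψ, hψu⟩ := exists_functional (E := Submodule.span F {d}) (u := c • u) (fun h => by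
      obtain ⟨b, hb⟩ := Submodule.mem_span_singleton.mp h
      exact hgw ((Submodule.smul_mem_iff _ hc0).mp (hb ▸ W.smul_mem b hdW)))
    have hψd := hψ d (Submodule.mem_span_singleton_self d)
    have hcu : ∀ φ : Fin n → F, φ ⬝ᵥ (c • u) = 0 → FullPair M (c • u) φ := fun φ hφ => by
      rw [dotProduct_smul, smul_eq_mul, mul_eq_zero, or_iff_right hc0] at hφ
      exact fullPair_smul_left hφ (hupairs φ hφ) c
    have h := allPairs_conj (hmem d ψ hψd (Or.inl hdW)) hcu
    rwa [transv_mulVec hψd, hψu, one_smul, ← hxe] at h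
  · obtain ⟨ψ, hψ, hψu⟩ := exists_functional hcase
    have hd := hψ (x - u) (Submodule.mem_sup_right (Submodule.mem_span_singleton_self _))
    have h := allPairs_conj (hmem (x - u) ψ hd (Or.inr fun y hy => hψ y (Submodule.mem_sup_left hy))) hupairs
    rwa [transv_move hd hψu] at h

end Subspace

namespace Decomposition


open Matrix CfsgLib.Transvec CfsgLib.Classical22 CfsgLib.Classical22.Monomial CfsgLib.Classical22.DecompBlocks
open scoped MatrixGroups

theorem decomposition_maximal {F : Type*} [Field F] [Fintype F] (n : ℕ) (hn : 6 ≤ n) {t : ℕ} (m : ℕ) (D : Fin t → Submodule F (Fin n → F)) (hD : Cfsg.Geo.IsMDecomposition m D) (h1 : ¬ (m = 1 ∧ Fintype.card F ≤ 4)) (h2 : ¬ (m = 2 ∧ Fintype.card F = 2)) : Cfsg.Geo.IsMaximalIn (Cfsg.Geo.specialLinear (Fin n) F) (Cfsg.Geo.decompositionStabilizer D ⊓ Cfsg.Geo.specialLinear (Fin n) F) := by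
  classical
  obtain ⟨e, P, hP⟩ := DecompCoords.exists_coords hD
  obtain ⟨blk, hblkdef⟩ : ∃ blk : Fin n → Fin t, blk = fun l => (e.symm l).1 := ⟨_, rfl⟩
  rw [← hblkdef] at hP
  have hblk_e : ∀ (j : Fin t) (a : Fin m), blk (e (j, a)) = j := fun j a => by simp [hblkdef]
  have hnm : t * m = n := by simpa using Fintype.card_congr e
  have hm0 := hD.pos
  refine ⟨lt_of_le_not_ge inf_le_right fun hle => ?_, fun M hHM hMK => ?_⟩
  · have h2 := hD.two_le
    obtain ⟨i0, i1, h01⟩ : ∃ i0 i1 : Fin t, i0 ≠ i1 :=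
      ⟨⟨0, by omega⟩, ⟨1, by omega⟩, fun h => absurd (congrArg Fin.val h) (by simp)⟩
    obtain ⟨a, ha⟩ : ∃ a, a = e (i0, ⟨0, hm0⟩) := ⟨_, rfl⟩
    obtain ⟨b, hb⟩ : ∃ b, b = e (i1, ⟨0, hm0⟩) := ⟨_, rfl⟩
    have hab : a ≠ b := fun h => h01 (by rw [← hblk_e i0 ⟨0, hm0⟩, ← ha, h, hb, hblk_e])
    have hd := single_dotProduct_single (F := F) hab 1
    have hmem : P * transv (Pi.single a 1) (Pi.single b 1) * P⁻¹ ∈ Cfsg.Geo.decompositionStabilizer D := by
      refine (hle ?_).1
      rw [mem_specialLinear_iff, Units.val_mul, Units.val_mul, Matrix.det_units_conj]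
      exact (mem_specialLinear_iff _).mp (transv_mem_specialLinear _ _)
    obtain ⟨σ, hσ⟩ := (DecompCoords.mem_stabilizer_iff hD hP _).mp hmem
    have h1 := hσ i1 (Pi.single b 1) (inBlk_single (by rw [hb, hblk_e]) _)
    rw [show P⁻¹ * (P * transv (Pi.single a (1 : F)) (Pi.single b 1) * P⁻¹) * P =
        transv (Pi.single a (1 : F)) (Pi.single b 1) by group, transv_mulVec hd] at h1
    have hva : σ i1 = i0 := by
      by_contra h
      have := h1 a (by rw [ha, hblk_e]; exact Ne.symm h)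
      simp [hab] at this
    have hvb : σ i1 = i1 := by
      by_contra h
      have := h1 b (by rw [hb, hblk_e]; exact Ne.symm h)
      simp [hab.symm] at this
    exact h01 (hva.symm.trans hvb)
  by_cases hM : M ≤ Cfsg.Geo.decompositionStabilizer D
  · exact Or.inl (le_antisymm (le_inf hM hMK) hHM)
  right
  obtain ⟨g, hgM, hgH⟩ := SetLike.not_le_iff_exists.mp hM
  obtain ⟨N, hN⟩ : ∃ N : Subgroup (GL (Fin n) F), ∀ x, x ∈ N ↔ P * x * P⁻¹ ∈ M :=
    ⟨M.comap (MulAut.conj P).toMonoidHom, fun x => Iff.rfl⟩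
  have hH : ∀ x : GL (Fin n) F, (x : Matrix (Fin n) (Fin n) F).det = 1 → (∃ σ : Equiv.Perm (Fin t), ∀ i v,
      InBlk blk i v → InBlk blk (σ i) ((x : Matrix (Fin n) (Fin n) F) *ᵥ v)) → x ∈ N := by
    intro x hx hσ
    refine (hN x).mpr (hHM ⟨(DecompCoords.mem_stabilizer_iff hD hP _).mpr ?_, ?_⟩)
    · rw [show P⁻¹ * (P * x * P⁻¹) * P = x by group]; exact hσ
    · show _ ∈ Cfsg.Geo.specialLinear (Fin n) F
      rw [mem_specialLinear_iff, Units.val_mul, Units.val_mul, Matrix.det_units_conj, hx]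
  have hgN : P⁻¹ * g * P ∈ N := (hN _).mpr (by rw [show P * (P⁻¹ * g * P) * P⁻¹ = g by group]; exact hgM)
  have hgN' := mt (DecompCoords.mem_stabilizer_iff hD hP g).mpr hgH
  have hNle : N ≤ Cfsg.Geo.specialLinear (Fin n) F := fun x hx => by
    have := (mem_specialLinear_iff _).mp (hMK ((hN x).mp hx))
    rw [Units.val_mul, Units.val_mul, Matrix.det_units_conj] at this
    exact (mem_specialLinear_iff _).mpr this
  suffices hle : Cfsg.Geo.specialLinear (Fin n) F ≤ N by
    refine le_antisymm hMK fun x hx => ?_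
    have h3 : P⁻¹ * x * P ∈ N := hle (by
      rw [mem_specialLinear_iff, Units.val_mul, Units.val_mul, Matrix.det_units_conj']
      exact (mem_specialLinear_iff _).mp hx)
    have h4 := (hN _).mp h3
    rwa [show P * (P⁻¹ * x * P) * P⁻¹ = x by group] at h4
  by_cases hm1 : m = 1
  · subst hm1
    have hq : 5 ≤ Fintype.card F := by
      by_contra h
      exact h1 ⟨rfl, by omega⟩
    have hbij : Function.Bijective blk := by
      refine ⟨fun a b h => e.symm.injective (Prod.ext ?_ (Subsingleton.elim _ _)), fun j => ⟨_, hblk_e j 0⟩⟩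
      simpa [hblkdef] using h
    obtain ⟨b, hb⟩ : ∃ b : Fin n ≃ Fin t, ∀ l, b l = blk l := ⟨Equiv.ofBijective blk hbij, fun _ => rfl⟩
    have hiff : ∀ (j : Fin t) (v : Fin n → F), InBlk blk j v ↔ ∀ l, l ≠ b.symm j → v l = 0 := by
      intro j v
      constructor
      · intro h l hl; refine h l fun e => hl ?_; rw [← e, ← hb, Equiv.symm_apply_apply]
      · intro h l hl; refine h l fun e => hl ?_; rw [e, ← hb, Equiv.apply_symm_apply]
    refine DecompLineSix.le_of_not_isMono (fun σ d hd => hH _ hd ⟨(b.symm.trans σ).trans b, fun i v hv => ?_⟩) hq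
      (by simp; omega) hNle hgN fun hmono => hgN' ?_
    · rw [hiff] at hv ⊢
      intro l hl
      obtain ⟨k, rfl⟩ := σ.surjective l
      rw [mono_mulVec, hv k (fun e => hl (by simp [e])), mul_zero]
    · obtain ⟨σ, d, hx⟩ := hmono.exists_mono
      refine ⟨(b.symm.trans σ).trans b, fun i v hv => ?_⟩
      rw [hiff] at hv ⊢
      intro l hl
      obtain ⟨k, rfl⟩ := σ.surjective l
      rw [hx, mono_mulVec, hv k (fun e => hl (by simp [e])), mul_zero]
  refine DecompBlocks.le_of_not_block_perm hH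
    (fun j => ⟨e (j, ⟨0, hm0⟩), e (j, ⟨1, by omega⟩), by simp, hblk_e _ _, hblk_e _ _⟩) ?_ ?_ hgN hgN'
  · intro a b a' b' hab hab'
    simp only [hblkdef] at hab hab' ⊢
    obtain ⟨s1, hs1⟩ : ∃ s1, s1 = Equiv.swap (e.symm a).1 (e.symm a').1 := ⟨_, rfl⟩
    obtain ⟨σ, hσ⟩ : ∃ σ, σ = Equiv.swap (s1 (e.symm b).1) (e.symm b').1 * s1 := ⟨_, rfl⟩
    have hσa : σ (e.symm a).1 = (e.symm a').1 := by
      rw [hσ, Equiv.Perm.mul_apply, hs1, Equiv.swap_apply_left, Equiv.swap_apply_of_ne_of_ne ?_ hab']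
      intro h
      exact hab ((Equiv.swap (e.symm a).1 (e.symm a').1).injective ((Equiv.swap_apply_left _ _).trans h))
    have hσb : σ (e.symm b).1 = (e.symm b').1 := by rw [hσ, Equiv.Perm.mul_apply, Equiv.swap_apply_left]
    -- permutations inside the blocks
    obtain ⟨τ, hτ⟩ : ∃ τ : Fin t → Equiv.Perm (Fin m), τ = fun j =>
        if j = (e.symm a).1 then Equiv.swap (e.symm a).2 (e.symm a').2
        else if j = (e.symm b).1 then Equiv.swap (e.symm b).2 (e.symm b').2 else 1 := ⟨_, rfl⟩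
    refine ⟨(e.symm.trans ((Equiv.prodShear σ τ))).trans e, σ, ?_, ?_, fun l => ?_⟩
    · rw [Equiv.trans_apply, Equiv.trans_apply]
      show e (σ (e.symm a).1, τ (e.symm a).1 (e.symm a).2) = a'
      rw [hσa, hτ]
      simp
    · rw [Equiv.trans_apply, Equiv.trans_apply]
      show e (σ (e.symm b).1, τ (e.symm b).1 (e.symm b).2) = b'
      rw [hσb, hτ]
      simp [Ne.symm hab]
    · simp [Equiv.prodShear_apply]
  · by_cases h3 : 3 ≤ m
    · exact Or.inl fun j => ⟨e (j, ⟨0, by omega⟩), e (j, ⟨1, by omega⟩), e (j, ⟨2, by omega⟩),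
        by simp, by simp, by simp, hblk_e _ _, hblk_e _ _, hblk_e _ _⟩
    · have hm2 : m = 2 := by omega
      subst hm2
      refine Or.inr ⟨?_, by rw [Fintype.card_fin]; omega⟩
      have hq2 : 2 < Fintype.card F := by
        have h1' : 1 < Fintype.card F := Fintype.one_lt_card
        by_contra h
        exact h2 ⟨rfl, by omega⟩
      obtain ⟨x, hx⟩ := DecompLine.exists_notMem ({0, 1} : Finset F) (lt_of_le_of_lt Finset.card_le_two hq2)
      simp only [Finset.mem_insert, Finset.mem_singleton, not_or] at hx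
      exact ⟨x, hx.1, hx.2⟩

end Decomposition

namespace Tensor


open CfsgLib.Classical22.TensorMax

theorem tensor_maximal {F : Type*} [Field F] [Fintype F] (n : ℕ) (hn : 6 ≤ n) (n₁ n₂ : ℕ) (h1 : 2 ≤ n₁) (h12 : n₁ < n₂) (hex : ¬ (n₁ = 2 ∧ Fintype.card F = 2)) (e : Fin n ≃ Fin n₁ × Fin n₂) (P : Matrix.GeneralLinearGroup (Fin n) F) : Cfsg.Geo.IsMaximalIn (Cfsg.Geo.specialLinear (Fin n) F) (Cfsg.Geo.tensorProductSubgroup n₁ n₂ e P ⊓ Cfsg.Geo.specialLinear (Fin n) F) := by
  classical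
  have hq : (∃ t : F, t ≠ 0 ∧ t ≠ 1) ∨ 3 ≤ n₁ := by
    by_cases h : ∃ t : F, t ≠ 0 ∧ t ≠ 1
    · exact Or.inl h
    · right
      push Not at h
      by_contra h3
      refine hex ⟨by omega, le_antisymm ?_ Fintype.one_lt_card⟩
      calc Fintype.card F ≤ ({0, 1} : Finset F).card := Finset.card_le_card fun x _ => by
            by_cases hx : x = 0
            · simp [hx]
            · simp [h x hx]
        _ ≤ 2 := Finset.card_le_two
  have key := isMaximalIn_map (coordEquiv e P) (kronSL_maximal (F := F) h1 h12 hq)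
  rw [kronSL, map_specialLinear, Subgroup.map_inf _ _ _ (coordEquiv e P).injective, map_kronecker,
    map_specialLinear] at key
  exact key

end Tensor

namespace Subfield


open CfsgLib.Transvec Matrix
open scoped MatrixGroups

theorem subfield_maximal {F : Type*} [Field F] [Fintype F] (n : ℕ) (hn : 6 ≤ n) (F₀ : Subfield F) (r : ℕ) (hr : r.Prime) (hcard : Fintype.card F = Nat.card F₀ ^ r) (P : Matrix.GeneralLinearGroup (Fin n) F) : Cfsg.Geo.IsMaximalIn (Cfsg.Geo.specialLinear (Fin n) F) (Cfsg.Geo.subfieldSubgroup F₀ P ⊓ Cfsg.Geo.specialLinear (Fin n) F) := by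
  classical
  have hlt : F₀ < (⊤ : Subfield F) := by
    refine lt_top_iff_ne_top.mpr fun h => ?_
    have h1 : Nat.card F₀ = Fintype.card F := by
      rw [← Nat.card_eq_fintype_card]
      exact Nat.card_congr (Equiv.subtypeUnivEquiv fun x => by rw [h]; trivial)
    rw [h1] at hcard
    have h2 : 1 < Fintype.card F := Fintype.one_lt_card
    exact absurd ((Nat.pow_eq_self_iff h2).mp hcard.symm) hr.one_lt.ne'
  have hgen : ∀ R : Subfield F, F₀ < R → R = ⊤ := by
    intro R hR'
    letI : Algebra F₀ R := (Subfield.inclusion hR'.le).toAlgebra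
    haveI : IsScalarTower F₀ R F := IsScalarTower.of_algebraMap_eq (fun _ => rfl)
    have hfin : Module.finrank F₀ R * Module.finrank R F = r := by
      rw [Module.finrank_mul_finrank]
      have h1 := Module.natCard_eq_pow_finrank (K := F₀) (V := F)
      rw [Nat.card_eq_fintype_card, hcard] at h1
      exact (Nat.pow_right_injective (Nat.succ_le_of_lt Finite.one_lt_card) h1).symm
    rcases Nat.prime_mul_iff.mp (hfin ▸ hr) with ⟨-, h1⟩ | ⟨-, h1⟩
    · refine top_unique fun x _ => ?_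
      obtain ⟨c, hc⟩ := (finrank_eq_one_iff_of_nonzero' (1 : F) one_ne_zero).mp h1 x
      rw [← hc, Subfield.smul_def, smul_eq_mul, mul_one]
      exact c.2
    · refine absurd (fun x hx => ?_) hR'.not_ge
      obtain ⟨c, hc⟩ := (finrank_eq_one_iff_of_nonzero' (1 : R) one_ne_zero).mp h1 ⟨x, hx⟩
      have hc' : (c : F) * 1 = x := congrArg Subtype.val hc
      rw [← hc', mul_one]
      exact c.2
  obtain ⟨i, j, hij⟩ := Fintype.exists_pair_of_one_lt_card (show 1 < Fintype.card (Fin n) by simp; omega)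
  refine ⟨lt_of_le_not_ge inf_le_right fun hle => ?_, fun M hHM hMK => ?_⟩
  · obtain ⟨θ, -, hθ⟩ := SetLike.exists_of_lt hlt
    -- a transvection with a non-rational scalar, in the coordinates of `P`
    have hd : (Pi.single j θ : Fin n → F) ⬝ᵥ Pi.single i (1 : F) = 0 := single_dotProduct_single hij θ
    have hmem : P * transv (Pi.single i (1 : F)) (Pi.single j θ) * P⁻¹ ∈ Cfsg.Geo.subfieldSubgroup F₀ P := by
      refine (hle ?_).1
      rw [mem_specialLinear_iff, Units.val_mul, Units.val_mul, Matrix.det_units_conj]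
      exact (mem_specialLinear_iff _).mp (transv_mem_specialLinear _ _)
    obtain ⟨l, s, hls⟩ := lines_of_mem_subfieldSubgroup hmem (Pi.single j 1)
    rw [mul_mulVec, mul_mulVec, inv_mulVec_cancel, ← mulVec_smul] at hls
    have h1 := mulVec_injective P hls
    rw [transv_mulVec hd, coeVec_single] at h1
    have hj := congrFun h1 j
    have hi := congrFun h1 i
    simp [hij, hij.symm, coeVec] at hj hi
    refine hθ ?_
    have hsj : (s j : F) ≠ 0 := fun h => by rw [h, mul_zero] at hj; exact one_ne_zero hj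
    rw [hi, show l = ((s j : F))⁻¹ from eq_inv_of_mul_eq_one_left hj.symm]
    exact mul_mem (inv_mem (s j).2) (s i).2
  by_cases hM : M ≤ Cfsg.Geo.subfieldSubgroup F₀ P
  · exact Or.inl (le_antisymm (le_inf hM hMK) hHM)
  right
  obtain ⟨g, hgM, hgH⟩ := SetLike.not_le_iff_exists.mp hM
  obtain ⟨u, hu⟩ : ∃ u : Fin n → F₀, ∀ (l : F) r', (g : Matrix (Fin n) (Fin n) F) *ᵥ ((P : Matrix (Fin n) (Fin n) F) *ᵥ coeVec F₀ u) ≠
      l • ((P : Matrix (Fin n) (Fin n) F) *ᵥ coeVec F₀ r') := by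
    by_contra h
    simp only [not_exists, not_forall, not_not] at h
    exact hgH (mem_subfieldSubgroup_of_lines g h)
  let N := M.comap (MulAut.conj P).toMonoidHom
  have hN : ∀ x, x ∈ N ↔ P * x * P⁻¹ ∈ M := fun x => Iff.rfl
  have hrat : LinSubfield.Rational F₀ N := by
    intro v φ hd
    rw [hN]
    have hd' : coeVec F₀ φ ⬝ᵥ coeVec F₀ v = 0 := by rw [LinSubfield.cv_dot, hd]; rfl
    refine hHM ⟨?_, ?_⟩
    · have e : Matrix.GeneralLinearGroup.map (F₀.subtype : F₀ →+* F) (transv v φ) = transv (coeVec F₀ v) (coeVec F₀ φ) := by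
        apply Units.ext
        show ((transv v φ : Matrix (Fin n) (Fin n) F₀)).map (F₀.subtype : F₀ →+* F) = _
        rw [transv_val hd, transv_val hd']
        ext a b
        by_cases hab : a = b <;> simp [vecMulVec_apply, coeVec, hab]
      rw [← e]
      exact subfieldHom_mem _
    · show _ ∈ Cfsg.Geo.specialLinear (Fin n) F
      rw [mem_specialLinear_iff, Units.val_mul, Units.val_mul, Matrix.det_units_conj]
      exact (mem_specialLinear_iff _).mp (transv_mem_specialLinear _ _)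
  obtain ⟨g', hg'⟩ : ∃ g' : GL (Fin n) F, g' = P⁻¹ * g * P := ⟨_, rfl⟩
  have hg'N : g' ∈ N := by
    rw [hN, hg', show P * (P⁻¹ * g * P) * P⁻¹ = g by group]; exact hgM
  have hu0 : u ≠ 0 := fun h => hu 0 0 (by rw [h, coeVec_zero, mulVec_zero, mulVec_zero, zero_smul])
  obtain ⟨φ, hφ0, hφ, -⟩ := LinSubfield.exists_perp_pair (F₀ := F₀) (show 3 ≤ Fintype.card (Fin n) by simp; omega) u u
  rw [dotProduct_comm] at hφ
  have hd : coeVec F₀ φ ⬝ᵥ coeVec F₀ u = 0 := by rw [LinSubfield.cv_dot, hφ]; rfl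
  obtain ⟨a, ha, ha'⟩ := LinSubfield.exists_scal hrat (show 4 ≤ Fintype.card (Fin n) by simp; omega) hgen
    (u := (g' : Matrix (Fin n) (Fin n) F) *ᵥ coeVec F₀ u)
    (ψ := coeVec F₀ φ ᵥ* ((g'⁻¹ : GL (Fin n) F) : Matrix (Fin n) (Fin n) F))
    (fun l r' h => hu l r' (by
      have h1 := congrArg ((P : Matrix (Fin n) (Fin n) F) *ᵥ ·) h
      simp only [hg', mul_mulVec, mulVec_inv_cancel, mulVec_smul] at h1
      exact h1))
    (fun h => LinSubfield.cv_ne_zero hφ0 (by
      have h1 := congrArg (fun x => x ᵥ* (g' : Matrix (Fin n) (Fin n) F)) h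
      simpa [vecMul_vecMul] using h1))
    (by rw [vecMul_inv_dotProduct, hd])
    (fun c => by
      rw [← smul_vecMul, ← conj_transv g' (by rw [smul_dotProduct, hd, smul_zero])]
      exact N.mul_mem (N.mul_mem hg'N (LinSubfield.rat_smul hrat hφ c)) (N.inv_mem hg'N))
  have hle := LinSubfield.le_of_scal hrat (show 4 ≤ Fintype.card (Fin n) by simp; omega) hgen ha ha'
  refine le_antisymm hMK fun x hx => ?_
  have hx' : P⁻¹ * x * P ∈ N := hle (by
    rw [mem_specialLinear_iff, Units.val_mul, Units.val_mul, Matrix.det_units_conj']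
    exact (mem_specialLinear_iff _).mp hx)
  rwa [hN, show P * (P⁻¹ * x * P) * P⁻¹ = x by group] at hx'

end Subfield

namespace Symplectic


open CfsgLib.Transvec Matrix
open scoped MatrixGroups

variable {ι : Type} [Fintype ι] [DecidableEq ι] {F : Type*} [Field F] {f : (ι → F) → (ι → F) → F}

lemma sT_mem_inter (hf : Cfsg.Geo.IsSymplecticForm f) (v : ι → F) (c : F) :
    sT f v c ∈ Cfsg.Geo.similarityGroup f ⊓ Cfsg.Geo.specialLinear ι F :=
  ⟨⟨1, fun x y => by rw [Units.val_one, one_mul]; exact iso_sT hf v c x y⟩, transv_mem_specialLinear _ _⟩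

/-- If `g` carries every line-hyperplane flag `(v, v^⊥)` to a flag of the same kind then it is a similarity. -/
lemma mem_similarity (hf : Cfsg.Geo.IsSymplecticForm f) (g : GL ι F)
    (h : ∀ v, v ≠ 0 → ∃ a : F, ∀ x, f ((g : Matrix ι ι F) *ᵥ x) ((g : Matrix ι ι F) *ᵥ v) = a * f x v) :
    g ∈ Cfsg.Geo.similarityGroup f := by
  classical
  rcases subsingleton_or_nontrivial (ι → F) with hs | hs
  · exact ⟨1, fun u v => by rw [Subsingleton.elim u 0, Subsingleton.elim v 0]; simp [zero_left' hf]⟩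
  obtain ⟨v₀, hv₀⟩ := exists_ne (0 : ι → F)
  choose a ha using h
  have hane : ∀ v (hv : v ≠ 0), a v hv ≠ 0 := by
    intro v hv h0
    obtain ⟨x, hx⟩ := (hf.nondegenerate _ (mulVec_ne_zero g hv)).1
    have := ha v hv (((g⁻¹ : GL ι F) : Matrix ι ι F) *ᵥ x)
    rw [h0, zero_mul, mulVec_inv_cancel] at this
    exact hx this
  have key : ∀ v w (hv : v ≠ 0) (hw : w ≠ 0), f v w ≠ 0 → a v hv = a w hw := by
    intro v w hv hw hvw
    have h1 := ha w hw v
    have h2 := ha v hv w
    rw [hf.skew, h1, hf.skew w v] at h2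
    exact mul_right_cancel₀ hvw (by linear_combination h2)
  have hall : ∀ v (hv : v ≠ 0), a v hv = a v₀ hv₀ := by
    intro v hv
    obtain ⟨z, -, hz1, hz2⟩ := exists_avoid (⊤ : Submodule F (ι → F)) (φ := fun x => f x v) (ψ := fun x => f x v₀)
      (fun x y => add_left' hf x y v) (fun x y => add_left' hf x y v₀)
      (by obtain ⟨x, hx⟩ := (hf.nondegenerate v hv).1; exact ⟨x, trivial, hx⟩)
      (by obtain ⟨x, hx⟩ := (hf.nondegenerate v₀ hv₀).1; exact ⟨x, trivial, hx⟩)
    have hz : z ≠ 0 := fun h => hz1 (by rw [h, zero_left' hf])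
    exact ((key z v hz hv hz1).symm).trans (key z v₀ hz hv₀ hz2)
  refine ⟨Units.mk0 _ (hane v₀ hv₀), fun u v => ?_⟩
  by_cases hv : v = 0
  · simp [hv, zero_right' hf]
  · rw [ha v hv u, hall v hv, Units.val_mk0]

/-- The similarities of a symplectic form form a maximal subgroup of SL, in dimension at least three. -/
theorem similarity_maximal (hf : Cfsg.Geo.IsSymplecticForm f) (hdim : 3 ≤ Fintype.card ι) :
    Cfsg.Geo.IsMaximalIn (Cfsg.Geo.specialLinear ι F)
      (Cfsg.Geo.similarityGroup f ⊓ Cfsg.Geo.specialLinear ι F) := by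
  classical
  haveI : Nonempty ι := Fintype.card_pos_iff.mp (by omega)
  obtain ⟨u, hu⟩ := exists_ne (0 : ι → F)
  refine ⟨lt_of_le_not_ge inf_le_right fun hle => ?_, fun M hHM hMK => ?_⟩
  · -- a transvection that is not a similarity
    let φ : (ι → F) →ₗ[F] F := toBilin hf.bilinear u
    have hker : ¬ LinearMap.ker φ ≤ Submodule.span F {u} := by
      intro hk
      have h1 := Submodule.finrank_mono hk
      have h2 : Module.finrank F (Submodule.span F ({u} : Set (ι → F))) = 1 := finrank_span_singleton hu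
      have h3 := LinearMap.finrank_range_add_finrank_ker φ
      have h4 := Submodule.finrank_le (LinearMap.range φ)
      rw [Module.finrank_fintype_fun_eq_card] at h3
      rw [Module.finrank_self] at h4
      omega
    obtain ⟨w, hw, hwu⟩ := SetLike.not_le_iff_exists.mp hker
    have huw : f u w = 0 := LinearMap.mem_ker.mp hw
    have hd : fvec f w ⬝ᵥ u = 0 := by rw [fvec_dot hf, huw]
    obtain ⟨c, hc⟩ := (hle (transv_mem_specialLinear u (fvec f w))).1
    have happ : ∀ x, (transv u (fvec f w) : Matrix ι ι F) *ᵥ x = x + f x w • u := fun x => by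
      rw [transv_mulVec hd, fvec_dot hf]
    obtain ⟨y, hy⟩ := (hf.nondegenerate u hu).2
    obtain ⟨x, hx, hxw⟩ := exists_perp_ne hf (W := Submodule.span F ({u} : Set (ι → F))) hwu
    have hxu : f x u = 0 := hx u (Submodule.mem_span_singleton_self u)
    have h1 := hc u y
    have h2 := hc x y
    simp only [happ, add_left' hf, add_right' hf, smul_left' hf, smul_right' hf, hf.alternating, huw, hxu,
      mul_zero, zero_mul, add_zero] at h1 h2
    have hc1 : (c : F) = 1 := (mul_eq_right₀ hy).mp h1.symm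
    rw [hc1, one_mul] at h2
    exact mul_ne_zero hxw hy (by linear_combination h2)
  by_cases hM : M ≤ Cfsg.Geo.similarityGroup f
  · exact Or.inl (le_antisymm (le_inf hM hMK) hHM)
  right
  refine le_antisymm hMK (specialLinear_le ?_)
  obtain ⟨g, hgM, hg⟩ := SetLike.not_le_iff_exists.mp hM
  have hfull : ∀ v, Full f M v := fun v c => hHM (sT_mem_inter hf v c)
  -- some transvection outside the similarity group
  obtain ⟨v, hv, hnot⟩ : ∃ v, v ≠ 0 ∧
      ∀ a : F, ∃ x, f ((g : Matrix ι ι F) *ᵥ x) ((g : Matrix ι ι F) *ᵥ v) ≠ a * f x v := by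
    by_contra hcon
    simp only [not_exists, not_and, not_forall, not_exists, not_not] at hcon
    exact hg (mem_similarity hf g hcon)
  set p := (g : Matrix ι ι F) *ᵥ v with hp
  have hp0 : p ≠ 0 := mulVec_ne_zero g hv
  obtain ⟨w, hw⟩ := fvec_surjective hf (fvec f v ᵥ* ((g⁻¹ : GL ι F) : Matrix ι ι F))
  have hfw : ∀ x, f ((g : Matrix ι ι F) *ᵥ x) w = f x v := fun x => by
    rw [← fvec_dot hf, hw, vecMul_inv_dotProduct, fvec_dot hf]
  have hpw : f p w = 0 := by rw [hp, hfw, hf.alternating]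
  have hwp : ∀ a : F, w ≠ a • p := by
    intro a ha
    by_cases h0 : a = 0
    · obtain ⟨x, hx⟩ := (hf.nondegenerate v hv).1
      exact hx (by rw [← hfw, ha, h0, zero_smul, zero_right' hf])
    · obtain ⟨x, hx⟩ := hnot a⁻¹
      refine hx ?_
      rw [← hfw x, ha, smul_right' hf, ← mul_assoc, inv_mul_cancel₀ h0, one_mul]
  have hT : ∀ c : F, transv p (c • fvec f w) ∈ M := by
    intro c
    have h1 := M.mul_mem (M.mul_mem hgM (hfull v c)) (M.inv_mem hgM)
    have h2 : g * sT f v c * g⁻¹ = transv p (c • fvec f w) := by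
      rw [sT, conj_transv g (sT_dot hf v c), smul_vecMul, hw, hp]
    rwa [h2] at h1
  -- every functional vanishing on p
  have hPt : ∀ φ : ι → F, φ ⬝ᵥ p = 0 → transv p φ ∈ M := by
    intro φ hφ
    obtain ⟨w', rfl⟩ := fvec_surjective hf φ
    rw [fvec_dot hf] at hφ
    by_cases hw' : w' ∈ Submodule.span F ({p} : Set (ι → F))
    · obtain ⟨a, rfl⟩ := Submodule.mem_span_singleton.mp hw'
      have : fvec f (a • p) = a • fvec f p := funext fun j => smul_right' hf a _ p
      rw [this]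
      exact hfull p a
    · obtain ⟨h, hh, hi, hwe, hfix⟩ := exists_move_fix hf hfull (Submodule.span F ({p} : Set (ι → F)))
        (v := w) (b := w') (fun h => by
          obtain ⟨a, ha⟩ := Submodule.mem_span_singleton.mp h
          exact hwp a ha.symm) hw'
        (fun e he => by
          obtain ⟨a, rfl⟩ := Submodule.mem_span_singleton.mp he
          rw [smul_left' hf, smul_left' hf, hpw, hφ])
      have hhp : (h : Matrix ι ι F) *ᵥ p = p := hfix p (Submodule.mem_span_singleton_self p)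
      have h1 := M.mul_mem (M.mul_mem hh (hT 1)) (M.inv_mem hh)
      rw [one_smul, conj_transv h (by rw [fvec_dot hf, hpw]), hhp] at h1
      have h2 : fvec f w ᵥ* ((h⁻¹ : GL ι F) : Matrix ι ι F) = fvec f w' := funext fun j => by
        have h3 : (fvec f w ᵥ* ((h⁻¹ : GL ι F) : Matrix ι ι F)) ⬝ᵥ Pi.single j 1 = fvec f w' ⬝ᵥ Pi.single j 1 := by
          rw [← dotProduct_mulVec, fvec_dot hf, fvec_dot hf, ← hi, mulVec_inv_cancel, hwe]
        simpa using h3
      rwa [h2] at h1
  intro q φ hφ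
  by_cases hq : q = 0
  · subst hq
    have : transv (0 : ι → F) φ = 1 := gl_ext fun x => by rw [transv_mulVec hφ]; simp
    rw [this]; exact M.one_mem
  obtain ⟨h, hh, hi, he, -⟩ := exists_move_in hf (M := M) (W := ⊤) (fun x _ => hfull x)
    (fun z _ hz => by obtain ⟨x, hx⟩ := (hf.nondegenerate z hz).1; exact ⟨x, trivial, hx⟩)
    trivial trivial hp0 hq
  have hd : (φ ᵥ* (h : Matrix ι ι F)) ⬝ᵥ p = 0 := by rw [← dotProduct_mulVec, he, hφ]
  have h1 := M.mul_mem (M.mul_mem hh (hPt _ hd)) (M.inv_mem hh)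
  rwa [conj_transv h hd, he, vecMul_vecMul, ← Units.val_mul, mul_inv_cancel, Units.val_one, vecMul_one] at h1

theorem symplectic_maximal {F : Type*} [Field F] [Fintype F] (n : ℕ) (hn : 6 ≤ n) (f : (Fin n → F) → (Fin n → F) → F) (hf : Cfsg.Geo.IsSymplecticForm f) : Cfsg.Geo.IsMaximalIn (Cfsg.Geo.specialLinear (Fin n) F) (Cfsg.Geo.similarityGroup f ⊓ Cfsg.Geo.specialLinear (Fin n) F) := by
  exact similarity_maximal hf (by rw [Fintype.card_fin]; omega)

end Symplectic

namespace Unitary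


open CfsgLib.Transvec CfsgLib.Transvec.Unitary Matrix

theorem unitary_maximal {F : Type*} [Field F] [Fintype F] (n : ℕ) (hn : 6 ≤ n) (σ : F ≃+* F) (f : (Fin n → F) → (Fin n → F) → F) (hf : Cfsg.Geo.IsUnitaryForm σ f) : Cfsg.Geo.IsMaximalIn (Cfsg.Geo.specialLinear (Fin n) F) (Cfsg.Geo.similarityGroup f ⊓ Cfsg.Geo.specialLinear (Fin n) F) := by
  have hdim : 5 ≤ Fintype.card (Fin n) := by rw [Fintype.card_fin]; omega
  refine ⟨lt_of_le_not_ge inf_le_right fun hle => ?_, fun M hHM hMK => ?_⟩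
  · obtain ⟨v, hv, -, hvs⟩ := exists_iso_perp hf hdim 0
    obtain ⟨w, hwv, -, hw⟩ := exists_perp_two hf hdim v v (Submodule.span F {v})
      (le_trans (finrank_span_le_card _) (by simp))
    have hd : uvec f w ⬝ᵥ v = 0 := by rw [uvec_dot hf, (eq_zero_comm hf).mp hwv]
    obtain ⟨c, hc⟩ := (hle (transv_mem_specialLinear v (uvec f w))).1
    obtain ⟨x, hxv, hxw⟩ := exists_perp_pair hf hw
    have hv0 : v ≠ 0 := fun h0 => hvs (by rw [h0]; exact Submodule.zero_mem _)
    obtain ⟨y, hy⟩ := (hf.nondegenerate v hv0).2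
    have hyv : f y v ≠ 0 := fun h0 => hy ((eq_zero_comm hf).mp h0)
    have happ : ∀ z, (transv v (uvec f w) : Matrix (Fin n) (Fin n) F) *ᵥ z = z + f z w • v := fun z => by
      rw [transv_mulVec hd, uvec_dot hf]
    have hvw : f v w = 0 := (eq_zero_comm hf).mp hwv
    have h1 := hc y v
    rw [happ, happ, hvw, zero_smul, add_zero, hf.add_left, hf.smul_left, hv, mul_zero, add_zero] at h1
    have hc1 : (c : F) = 1 := (mul_eq_right₀ hyv).mp h1.symm
    have h2 := hc x y
    rw [happ, happ, hc1, one_mul, hf.add_left, hf.smul_left, Unitary.add_right' hf, Unitary.add_right' hf,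
      Unitary.smul_right' hf, Unitary.smul_right' hf, hv, hxv] at h2
    exact mul_ne_zero hxw hy (by linear_combination h2)
  by_cases hM : M ≤ Cfsg.Geo.similarityGroup f
  · exact Or.inl (le_antisymm (le_inf hM hMK) hHM)
  right
  obtain ⟨g, hgM, hg⟩ := SetLike.not_le_iff_exists.mp hM
  refine le_antisymm hMK (specialLinear_le (all_pairs_of_not_similarity hf (fun v hv c hc => hHM
    ⟨⟨1, fun x y => ?_⟩, transv_mem_specialLinear _ _⟩) hdim hgM hg))
  rw [Units.val_one, one_mul]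
  exact iso_uT hf hv hc x y

end Unitary

namespace Quad


open CfsgLib.Transvec CfsgLib.Transvec.OrthOverSL CfsgLib.Transvec.OrthOverSLEich Matrix
open scoped MatrixGroups

theorem quad_maximal {F : Type*} [Field F] [Fintype F] (n : ℕ) (hn : 6 ≤ n) (hodd : Odd (Fintype.card F)) (Q : (Fin n → F) → F) (hQ : Cfsg.Geo.IsNondegenerateQuadraticForm Q) : Cfsg.Geo.IsMaximalIn (Cfsg.Geo.specialLinear (Fin n) F) (Cfsg.Geo.quadSimilarityGroup Q ⊓ Cfsg.Geo.specialLinear (Fin n) F) := by
  classical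
  have h2 : (2 : F) ≠ 0 := fun h => by
    haveI : CharP F 2 := CharTwo.of_one_ne_zero_of_two_eq_zero one_ne_zero h
    have := FiniteField.even_card_iff_char_two.mp (ringChar.eq F 2)
    rw [Nat.odd_iff] at hodd
    omega
  have hbil := hQ.polar_bilinear
  obtain ⟨B, hBdef⟩ : ∃ B, B = toBilin hbil := ⟨_, rfl⟩
  have hBapp : ∀ x y, B x y = QuadraticMap.polar Q x y := fun x y => by rw [hBdef]; rfl
  have hBQ : ∀ x, B x x = 2 * Q x := fun x => by
    rw [hBapp, QuadraticMap.polar, ← two_smul F x, hQ.smul]; ring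
  have hB : IsSymForm B :=
    ⟨fun x y => by rw [hBapp, hBapp, QuadraticMap.polar_comm],
      fun v hv => by obtain ⟨x, hx⟩ := (hQ.nondegenerate v hv).1; exact ⟨x, by rw [hBapp]; exact hx⟩, h2⟩
  refine ⟨lt_of_le_not_ge inf_le_right fun hle => ?_, fun M hHM hMK => ?_⟩
  · obtain ⟨v, hv⟩ : ∃ v, Q v ≠ 0 := by
      by_contra hcon
      simp only [not_exists, not_not] at hcon
      have hz : ∀ x y, B x y = 0 := fun x y => by rw [hBapp, QuadraticMap.polar, hcon, hcon, hcon]; ring
      obtain ⟨x, hx⟩ := hB.nondeg (Pi.single ⟨0, by omega⟩ 1) (by simp)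
      exact hx (hz _ _)
    obtain ⟨z, hz, -, hzv⟩ := exists_sing_avoid hB (Submodule.span F {bvec B v}) (Submodule.span F {v}) (by
      have := finrank_span_one_le (bvec B v)
      have := finrank_span_one_le v
      simp only [Fintype.card_fin]
      omega)
    have hvz : B v z = 0 := by
      rw [hB.symm, ← bvec_dot]; exact hz _ (Submodule.mem_span_singleton_self _)
    have hd : bvec B z ⬝ᵥ v = 0 := by rw [bvec_dot, hvz]
    obtain ⟨c, hc⟩ := (hle (transv_mem_specialLinear v (bvec B z))).1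
    have happ : ∀ x, (transv v (bvec B z) : Matrix (Fin n) (Fin n) F) *ᵥ x = x + B x z • v := fun x => by
      rw [transv_mulVec hd, bvec_dot]
    have h1 := hc v
    rw [happ, hvz, zero_smul, add_zero] at h1
    have hc1 : (c : F) = 1 := ((mul_eq_right₀ hv).mp h1.symm)
    obtain ⟨x, hx1, hx2⟩ := exists_functional (E := Submodule.span F {bvec B v}) (u := bvec B z) (fun hm => hzv (by
      obtain ⟨k, hk⟩ := Submodule.mem_span_singleton.mp hm
      exact Submodule.mem_span_singleton.mpr ⟨k, bvec_injective hB (by rw [map_smul, hk])⟩))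
    have hxv : B x v = 0 := by
      rw [← bvec_dot, dotProduct_comm]; exact hx1 _ (Submodule.mem_span_singleton_self _)
    have hxz : B x z = 1 := by rw [← bvec_dot, dotProduct_comm, hx2]
    have h3 := hc x
    rw [happ, hc1, one_mul, hxz, one_smul] at h3
    have h4 : B (x + v) (x + v) = B x x := by rw [hBQ, hBQ, h3]
    simp only [map_add, LinearMap.add_apply, hxv, hB.symm v x, hBQ v] at h4
    exact mul_ne_zero h2 hv (by linear_combination h4)
  by_cases hM : M ≤ Cfsg.Geo.quadSimilarityGroup Q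
  · exact Or.inl (le_antisymm (le_inf hM hMK) hHM)
  right
  obtain ⟨g, hgM, hg⟩ := SetLike.not_le_iff_exists.mp hM
  have hE : ∀ a w, B a a = 0 → B a w = 0 → eX B a w ∈ M := fun a w ha hw => by
    refine hHM ⟨⟨1, fun x => ?_⟩, eX_mem_specialLinear⟩
    rw [Units.val_one, one_mul]
    have := eX_iso hB ha hw x x
    rw [hBQ, hBQ] at this
    exact mul_left_cancel₀ h2 this
  obtain ⟨T, hT⟩ : ∃ T, T = Matrix.toLin' ((g⁻¹ : GL (Fin n) F) : Matrix (Fin n) (Fin n) F) := ⟨_, rfl⟩
  obtain ⟨B', hB'def⟩ : ∃ B' : LinearMap.BilinForm F (Fin n → F), B' = LinearMap.compl₁₂ B T T := ⟨_, rfl⟩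
  have hB'app : ∀ x y, B' x y = B (((g⁻¹ : GL (Fin n) F) : Matrix _ _ F) *ᵥ x) (((g⁻¹ : GL (Fin n) F) : Matrix _ _ F) *ᵥ y) :=
    fun x y => by simp [hB'def, hT]
  have hB' : IsSymForm B' := by
    refine ⟨fun x y => by rw [hB'app, hB'app, hB.symm], fun v hv => ?_, h2⟩
    obtain ⟨x, hx⟩ := hB.nondeg _ (mulVec_ne_zero g⁻¹ hv)
    exact ⟨(g : Matrix _ _ F) *ᵥ x, by rw [hB'app, inv_mulVec_cancel]; exact hx⟩
  have hconj : ∀ w, bvec B w ᵥ* ((g⁻¹ : GL (Fin n) F) : Matrix _ _ F) = bvec B' ((g : Matrix _ _ F) *ᵥ w) := by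
    intro w
    funext j
    have h : (bvec B w ᵥ* ((g⁻¹ : GL (Fin n) F) : Matrix _ _ F)) ⬝ᵥ Pi.single j 1 =
        bvec B' ((g : Matrix _ _ F) *ᵥ w) ⬝ᵥ Pi.single j 1 := by
      rw [← dotProduct_mulVec, bvec_dot, bvec_dot, hB'app, inv_mulVec_cancel]
    simpa using h
  have hE' : ∀ a w, B' a a = 0 → B' a w = 0 → eX B' a w ∈ M := by
    intro a w ha haw
    obtain ⟨a0, rfl⟩ : ∃ a0 : Fin n → F, a = (g : Matrix (Fin n) (Fin n) F) *ᵥ a0 := ⟨_, (mulVec_inv_cancel g a).symm⟩
    obtain ⟨w0, rfl⟩ : ∃ w0 : Fin n → F, w = (g : Matrix (Fin n) (Fin n) F) *ᵥ w0 := ⟨_, (mulVec_inv_cancel g w).symm⟩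
    rw [hB'app, inv_mulVec_cancel] at ha
    rw [hB'app, inv_mulVec_cancel, inv_mulVec_cancel] at haw
    have h1 : bvec B (w0 + (B w0 w0 / 2) • a0) ⬝ᵥ a0 = 0 := by
      rw [bvec_dot, map_add, map_smul, haw, ha, smul_zero, add_zero]
    have h2' : (-bvec B a0) ⬝ᵥ w0 = 0 := by rw [neg_dotProduct, bvec_dot, hB.symm, haw, neg_zero]
    have e : g * eX B a0 w0 * g⁻¹ = eX B' ((g : Matrix _ _ F) *ᵥ a0) ((g : Matrix _ _ F) *ᵥ w0) := by
      rw [eX, eX, show g * (transv a0 (bvec B (w0 + (B w0 w0 / 2) • a0)) * transv w0 (-bvec B a0)) * g⁻¹ =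
        (g * transv a0 (bvec B (w0 + (B w0 w0 / 2) • a0)) * g⁻¹) * (g * transv w0 (-bvec B a0) * g⁻¹) by group,
        conj_transv _ h1, conj_transv _ h2', neg_vecMul, hconj, hconj, mulVec_add, mulVec_smul, hB'app,
        inv_mulVec_cancel]
    rw [← e]
    exact M.mul_mem (M.mul_mem hgM (hE a0 w0 ha haw)) (M.inv_mem hgM)
  have hne : ∀ l : F, ∃ x, bvec B' x ≠ l • bvec B x := by
    intro l
    by_contra hcon
    simp only [not_exists, not_not] at hcon
    have key : ∀ x, Q (((g⁻¹ : GL (Fin n) F) : Matrix _ _ F) *ᵥ x) = l * Q x := fun x => by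
      have h1 := congrArg (· ⬝ᵥ x) (hcon x)
      simp only [smul_dotProduct, bvec_dot, hB'app, hBQ, smul_eq_mul] at h1
      exact mul_left_cancel₀ h2 (by rw [h1]; ring)
    have hl : l ≠ 0 := by
      intro hl
      obtain ⟨i⟩ : Nonempty (Fin n) := ⟨⟨0, by omega⟩⟩
      obtain ⟨y, hy⟩ := hB'.nondeg (Pi.single i 1) (by simp)
      refine hy ?_
      rw [← bvec_dot, hcon, hl, zero_smul, zero_dotProduct]
    refine hg ((Cfsg.Geo.quadSimilarityGroup Q).inv_mem (x := g⁻¹) ⟨Units.mk0 l hl, fun x => key x⟩ |> fun h => ?_)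
    rwa [inv_inv] at h
  obtain ⟨v, z, hv, hz0, hvz, ht⟩ := exists_transv hB (by simp; omega) hB' hE hE' hne
  exact le_antisymm hMK (specialLinear_le (all_transv hB (by simp; omega) hE hv hz0 hvz ht))

end Quad

end CfsgLib.SLGeometric
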