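import Mathlib
/-! Certificate data for the stored Conway-Wales lattice. -/
set_option autoImplicit false
namespace CfsgLib.RuEven

def basis : List (List ℤ) := [
  [1, 0, 0, 0, 0, 0, 0, -1, 0, 0, 0, -1, 0, 0, 0, -1, 0, 0, 0, 0, 0, 0, -1, -1, 0, 0, 0, -1, -1, 0, 0, 0, 0, -1, -1, 0, 0, 0, 1, -1, 0, -1, 0, 1, -1, 1, 0, 0, -1, 0, -1, -1, 0, 1, 0, -2],
  [0, 1, 0, 0, 0, 0, 0, -1, 0, 0, 0, 0, 0, -1, -1, 0, 0, 0, 0, 0, -1, 0, -1, 0, 0, -1, -1, -1, 0, -1, -1, -1, 0, -1, -1, -1, -1, -1, 1, 0, -1, -1, 0, 1, -1, 1, -2, 1, -1, 0, -2, -1, -1, 0, -2, -1],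
  [0, 0, 1, 0, 0, 0, 0, -1, 0, 0, 0, -1, 0, -1, 0, 0, 0, 0, 0, -1, -1, -1, -1, -2, 0, -1, -1, 0, 0, -1, -1, 0, 0, 0, 0, 1, 0, -1, -1, 1, -1, 0, 0, 1, -1, 1, -2, 0, -1, 1, -2, -2, 0, 1, 1, 0],
  [0, 0, 0, 1, 0, 0, 0, -1, 0, 0, 0, 0, 0, 0, -1, -1, 0, 0, 0, -1, 0, -1, -1, 1, 0, -1, -1, 0, 0, 0, -1, 1, 0, 0, 0, 0, -1, 0, 1, 0, 0, 0, -1, 0, 0, 0, -2, -1, -1, 0, 1, -1, -2, 0, -1, -2],
  [0, 0, 0, 0, 1, 0, 0, -1, 0, 0, 0, 0, 0, -1, 0, -1, 0, 0, 0, -1, -1, -1, 0, -1, 0, -1, 0, 0, 0, 0, -1, -2, 0, -1, -1, 1, 0, -1, -2, 0, -1, -1, 0, 0, -1, 1, 1, -1, 0, -2, -2, -1, 0, 1, 1, -1],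
  [0, 0, 0, 0, 0, 1, 0, -1, 0, 0, 0, -1, 0, 0, -1, 0, 0, 0, 0, -1, -1, 0, -1, 1, 0, 0, -1, 0, 0, 0, -1, 0, 0, 0, -1, -1, -1, -1, 1, -1, -1, 0, 0, 0, -1, 1, -2, 1, -1, 0, -2, -1, -1, 1, -2, -2],
  [0, 0, 0, 0, 0, 0, 1, -1, 0, 0, 0, -1, 0, -1, -1, -1, 0, 0, 0, 0, -1, 0, 0, -1, 0, 0, 0, 0, -1, 0, -1, -2, 0, 0, 0, -1, -1, -1, 0, 1, -1, -1, -1, 0, -1, 0, 1, -1, 0, 0, -2, 1, -1, 1, 1, 0],
  [0, 0, 0, 0, 0, 0, 0, 2, 0, 0, 0, 0, 0, 0, 0, 0, 0, 0, 0, 0, -1, -1, -1, -1, 0, 0, 0, 0, 0, 0, 0, 0, 0, -1, 0, 1, 0, -1, -1, -2, 0, -1, -1, -2, -1, -2, -1, -2, -1, -1, -2, -2, 1, -1, -2, 0],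
  [0, 0, 0, 0, 0, 0, 0, 0, 1, 0, 0, -1, 0, -1, 0, -1, 0, 0, 0, 0, -1, -1, -1, -1, 0, 0, -1, -1, -1, -1, 0, -2, 0, 0, 0, 0, -1, -1, -1, 1, -1, 0, 0, 1, -1, 0, 1, 0, -1, -1, -2, 0, -1, -1, 0, 0],
  [0, 0, 0, 0, 0, 0, 0, 0, 0, 1, 0, -1, 0, -1, -1, 0, 0, 0, 0, 0, -1, -1, -1, 1, 0, 0, -1, -1, 0, 0, -1, 1, 0, -1, -1, -2, -1, 0, -1, -2, 0, 0, -1, 1, 0, 0, 1, -1, 0, 0, -1, -1, -2, -2, 1, -1],
  [0, 0, 0, 0, 0, 0, 0, 0, 0, 0, 1, -1, 0, 0, -1, -1, 0, 0, 0, 0, 0, 0, 0, -2, 0, -1, 0, -1, -1, 0, 0, -1, 0, 0, 0, 0, -1, -1, -1, -1, -1, 0, 0, 1, -1, 0, 1, -2, -1, -1, -1, -1, -1, -1, 1, -1],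
  [0, 0, 0, 0, 0, 0, 0, 0, 0, 0, 0, 2, 0, 0, 0, 0, 0, 0, 0, 0, -1, -1, -1, 1, 0, 0, 0, 0, 0, 0, 0, -2, 0, -1, 0, -1, 0, -1, 1, 0, -1, 0, 0, 1, 0, -1, 0, -1, -1, -1, -2, -2, 1, -1, -2, -2],
  [0, 0, 0, 0, 0, 0, 0, 0, 0, 0, 0, 0, 1, -1, -1, -1, 0, 0, 0, 0, -1, -1, -1, 1, 0, -1, 0, -1, 0, -1, -1, -2, 0, 0, -1, -1, -1, -1, 0, 0, 0, -1, 0, 1, -1, 0, -2, 1, -1, -1, -2, 0, -1, -1, -2, 0],
  [0, 0, 0, 0, 0, 0, 0, 0, 0, 0, 0, 0, 0, 2, 0, 0, 0, 0, 0, 0, -1, -1, -1, 1, 0, 0, 0, 0, 0, 0, 0, -2, 0, -1, 0, -1, 0, -1, 1, 0, -1, 0, 0, 1, 0, 1, -2, -1, -1, 1, 0, -2, -1, 1, 0, 0],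
  [0, 0, 0, 0, 0, 0, 0, 0, 0, 0, 0, 0, 0, 0, 2, 0, 0, 0, 0, 0, -1, -1, -1, 1, 0, 0, 0, 0, 0, 0, 0, -2, 0, -1, 0, -1, 0, -1, 1, 0, -1, 0, 0, -1, 0, 1, -2, 1, -1, -1, 0, 0, 1, 1, -2, 0],
  [0, 0, 0, 0, 0, 0, 0, 0, 0, 0, 0, 0, 0, 0, 0, 2, 0, 0, 0, 0, -1, -1, -1, 1, 0, 0, 0, 0, 0, 0, 0, -2, 0, -1, 0, -1, 0, -1, 1, 0, -1, 0, 0, 1, 0, 1, 0, 1, -1, 1, -2, -2, 1, 1, -2, -2],
  [0, 0, 0, 0, 0, 0, 0, 0, 0, 0, 0, 0, 0, 0, 0, 0, 1, 0, 0, -1, 0, -1, 0, 1, 0, 0, 0, 0, 0, 0, 0, -2, 0, 0, -1, 1, -1, -1, 0, -2, 0, -1, 0, -1, -1, -2, -2, -1, 0, -2, 0, -2, 1, -1, 1, 1],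
  [0, 0, 0, 0, 0, 0, 0, 0, 0, 0, 0, 0, 0, 0, 0, 0, 0, 1, 0, -1, -1, 0, 0, 1, 0, 0, 0, 0, 0, 0, 0, 0, 0, -1, -1, 0, 0, -1, 0, -1, 0, -1, 0, 1, 0, 1, -1, 0, -1, -2, -2, -1, -2, 1, -2, 1],
  [0, 0, 0, 0, 0, 0, 0, 0, 0, 0, 0, 0, 0, 0, 0, 0, 0, 0, 1, -1, 0, 0, -1, -1, 0, 0, 0, 0, 0, 0, 0, -2, 0, -1, 0, -1, -1, 0, 0, -1, -1, -1, -1, -1, 0, 0, -2, 0, -1, 0, -2, -1, 1, 0, -1, -2],
  [0, 0, 0, 0, 0, 0, 0, 0, 0, 0, 0, 0, 0, 0, 0, 0, 0, 0, 0, 2, 0, 0, 0, -2, 0, 0, 0, 0, 0, 0, 0, 0, 0, 0, 0, -2, 0, 0, -2, 0, -1, -1, -1, 1, -1, -1, 1, 1, -1, -1, -1, 1, 1, -1, -1, 1],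
  [0, 0, 0, 0, 0, 0, 0, 0, 0, 0, 0, 0, 0, 0, 0, 0, 0, 0, 0, 0, 2, 0, 0, -2, 0, 0, 0, 0, 0, 0, 0, 0, 0, 0, 0, -2, 0, 0, -2, 0, 0, 0, 0, -2, 0, -2, 0, 0, 0, -2, 0, 0, -2, 0, 0, 0],
  [0, 0, 0, 0, 0, 0, 0, 0, 0, 0, 0, 0, 0, 0, 0, 0, 0, 0, 0, 0, 0, 2, 0, -2, 0, 0, 0, 0, 0, 0, 0, 0, 0, 0, 0, -2, 0, 0, 0, -2, -1, -1, -1, -1, -1, 1, -1, -1, -1, -1, -1, 1, -1, -1, -1, -1],
  [0, 0, 0, 0, 0, 0, 0, 0, 0, 0, 0, 0, 0, 0, 0, 0, 0, 0, 0, 0, 0, 0, 2, -2, 0, 0, 0, 0, 0, 0, 0, 0, 0, 0, 0, 0, 0, 0, -2, -2, -1, -1, -1, 1, -1, -1, -1, -1, -1, 1, 1, -1, 1, -1, 1, 1],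
  [0, 0, 0, 0, 0, 0, 0, 0, 0, 0, 0, 0, 0, 0, 0, 0, 0, 0, 0, 0, 0, 0, 0, 4, 0, 0, 0, 0, 0, 0, 0, 0, 0, 0, 0, 0, 0, 0, 0, 0, 0, 0, 0, 0, 0, 0, 0, 0, 0, 0, 0, 0, 0, 0, 0, 0],
  [0, 0, 0, 0, 0, 0, 0, 0, 0, 0, 0, 0, 0, 0, 0, 0, 0, 0, 0, 0, 0, 0, 0, 0, 1, -1, -1, -1, -1, -1, -1, -1, 0, 0, 0, 0, 0, 0, 0, 0, -1, -1, -1, -1, -1, -1, 1, -1, 0, -2, -2, -2, 0, -2, -2, -2],
  [0, 0, 0, 0, 0, 0, 0, 0, 0, 0, 0, 0, 0, 0, 0, 0, 0, 0, 0, 0, 0, 0, 0, 0, 0, 2, 0, 0, 0, 0, 0, -2, 0, 0, 0, 0, 0, 0, -2, -2, -1, -1, -1, 1, -1, 1, -1, 1, -1, -1, 1, 1, -1, -1, 1, -1],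
  [0, 0, 0, 0, 0, 0, 0, 0, 0, 0, 0, 0, 0, 0, 0, 0, 0, 0, 0, 0, 0, 0, 0, 0, 0, 0, 2, 0, 0, 0, 0, -2, 0, 0, 0, -2, 0, 0, 0, -2, -1, -1, -1, 1, -1, 1, -1, 1, -1, -1, 1, -1, -1, -1, 1, 1],
  [0, 0, 0, 0, 0, 0, 0, 0, 0, 0, 0, 0, 0, 0, 0, 0, 0, 0, 0, 0, 0, 0, 0, 0, 0, 0, 0, 2, 0, 0, 0, -2, 0, 0, 0, 0, 0, 0, -2, -2, 0, 0, 0, 0, 0, 0, 0, 0, 0, -2, -2, 0, 0, 0, -2, -2],
  [0, 0, 0, 0, 0, 0, 0, 0, 0, 0, 0, 0, 0, 0, 0, 0, 0, 0, 0, 0, 0, 0, 0, 0, 0, 0, 0, 0, 2, 0, 0, -2, 0, 0, 0, 0, 0, 0, 0, 0, -1, -1, -1, 1, -1, 1, -1, 1, -1, -1, -1, -1, -1, 1, 1, 1],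
  [0, 0, 0, 0, 0, 0, 0, 0, 0, 0, 0, 0, 0, 0, 0, 0, 0, 0, 0, 0, 0, 0, 0, 0, 0, 0, 0, 0, 0, 2, 0, -2, 0, 0, 0, -2, 0, 0, -2, 0, 0, 0, 0, 0, 0, 0, 0, 0, 0, 0, -2, 0, 0, 0, -2, 0],
  [0, 0, 0, 0, 0, 0, 0, 0, 0, 0, 0, 0, 0, 0, 0, 0, 0, 0, 0, 0, 0, 0, 0, 0, 0, 0, 0, 0, 0, 0, 2, -2, 0, 0, 0, -2, 0, 0, -2, 0, -1, -1, -1, 1, -1, 1, -1, 1, -1, 1, -1, -1, 1, 1, 1, 1],
  [0, 0, 0, 0, 0, 0, 0, 0, 0, 0, 0, 0, 0, 0, 0, 0, 0, 0, 0, 0, 0, 0, 0, 0, 0, 0, 0, 0, 0, 0, 0, 4, 0, 0, 0, 0, 0, 0, 0, 0, 0, 0, 0, 0, 0, 0, 0, 0, 0, 0, 0, 0, 0, 0, 0, 0],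
  [0, 0, 0, 0, 0, 0, 0, 0, 0, 0, 0, 0, 0, 0, 0, 0, 0, 0, 0, 0, 0, 0, 0, 0, 0, 0, 0, 0, 0, 0, 0, 0, 1, -1, -1, 1, -1, -1, 1, -1, -1, -1, -1, 1, -1, -1, 1, 1, 0, -2, -2, -2, 0, -2, 0, 0],
  [0, 0, 0, 0, 0, 0, 0, 0, 0, 0, 0, 0, 0, 0, 0, 0, 0, 0, 0, 0, 0, 0, 0, 0, 0, 0, 0, 0, 0, 0, 0, 0, 0, 2, 0, -2, 0, 0, -2, -2, -1, -1, -1, 1, -1, 1, -1, 1, -1, 1, 1, 1, -1, 1, 1, -1],
  [0, 0, 0, 0, 0, 0, 0, 0, 0, 0, 0, 0, 0, 0, 0, 0, 0, 0, 0, 0, 0, 0, 0, 0, 0, 0, 0, 0, 0, 0, 0, 0, 0, 0, 2, -2, 0, 0, -2, -2, 0, 0, 0, 0, 0, 0, 0, 0, 0, -2, 0, -2, -2, 0, 0, -2],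
  [0, 0, 0, 0, 0, 0, 0, 0, 0, 0, 0, 0, 0, 0, 0, 0, 0, 0, 0, 0, 0, 0, 0, 0, 0, 0, 0, 0, 0, 0, 0, 0, 0, 0, 0, 4, 0, 0, 0, 0, 0, 0, 0, 0, 0, 0, 0, 0, 0, 0, 0, 0, 0, 0, 0, 0],
  [0, 0, 0, 0, 0, 0, 0, 0, 0, 0, 0, 0, 0, 0, 0, 0, 0, 0, 0, 0, 0, 0, 0, 0, 0, 0, 0, 0, 0, 0, 0, 0, 0, 0, 0, 0, 2, 0, -2, 0, -1, -1, -1, 1, -1, 1, -1, 1, -1, -1, -1, 1, -1, -1, 1, 1],
  [0, 0, 0, 0, 0, 0, 0, 0, 0, 0, 0, 0, 0, 0, 0, 0, 0, 0, 0, 0, 0, 0, 0, 0, 0, 0, 0, 0, 0, 0, 0, 0, 0, 0, 0, 0, 0, 2, 0, -2, -1, -1, -1, 1, -1, 1, -1, 1, -1, 1, -1, -1, -1, 1, -1, 1],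
  [0, 0, 0, 0, 0, 0, 0, 0, 0, 0, 0, 0, 0, 0, 0, 0, 0, 0, 0, 0, 0, 0, 0, 0, 0, 0, 0, 0, 0, 0, 0, 0, 0, 0, 0, 0, 0, 0, 4, 0, 0, 0, 0, 0, 0, 0, 0, 0, 0, 0, 0, 0, 0, 0, 0, 0],
  [0, 0, 0, 0, 0, 0, 0, 0, 0, 0, 0, 0, 0, 0, 0, 0, 0, 0, 0, 0, 0, 0, 0, 0, 0, 0, 0, 0, 0, 0, 0, 0, 0, 0, 0, 0, 0, 0, 0, 4, 0, 0, 0, 0, 0, 0, 0, 0, 0, 0, 0, 0, 0, 0, 0, 0],
  [0, 0, 0, 0, 0, 0, 0, 0, 0, 0, 0, 0, 0, 0, 0, 0, 0, 0, 0, 0, 0, 0, 0, 0, 0, 0, 0, 0, 0, 0, 0, 0, 0, 0, 0, 0, 0, 0, 0, 0, 2, 0, 0, -2, 0, -2, 0, -2, 0, 0, -2, -2, 0, 0, -2, -2],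
  [0, 0, 0, 0, 0, 0, 0, 0, 0, 0, 0, 0, 0, 0, 0, 0, 0, 0, 0, 0, 0, 0, 0, 0, 0, 0, 0, 0, 0, 0, 0, 0, 0, 0, 0, 0, 0, 0, 0, 0, 0, 2, 0, -2, 0, -2, -2, 0, 0, -2, -2, 0, -2, 0, -2, 0],
  [0, 0, 0, 0, 0, 0, 0, 0, 0, 0, 0, 0, 0, 0, 0, 0, 0, 0, 0, 0, 0, 0, 0, 0, 0, 0, 0, 0, 0, 0, 0, 0, 0, 0, 0, 0, 0, 0, 0, 0, 0, 0, 2, -2, 0, 0, -2, -2, 0, 0, -2, -2, -2, -2, 0, 0],
  [0, 0, 0, 0, 0, 0, 0, 0, 0, 0, 0, 0, 0, 0, 0, 0, 0, 0, 0, 0, 0, 0, 0, 0, 0, 0, 0, 0, 0, 0, 0, 0, 0, 0, 0, 0, 0, 0, 0, 0, 0, 0, 0, 4, 0, 0, 0, 0, 0, 0, 0, 0, 0, 0, 0, 0],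
  [0, 0, 0, 0, 0, 0, 0, 0, 0, 0, 0, 0, 0, 0, 0, 0, 0, 0, 0, 0, 0, 0, 0, 0, 0, 0, 0, 0, 0, 0, 0, 0, 0, 0, 0, 0, 0, 0, 0, 0, 0, 0, 0, 0, 2, -2, -2, -2, 0, -2, -2, 0, 0, -2, 0, -2],
  [0, 0, 0, 0, 0, 0, 0, 0, 0, 0, 0, 0, 0, 0, 0, 0, 0, 0, 0, 0, 0, 0, 0, 0, 0, 0, 0, 0, 0, 0, 0, 0, 0, 0, 0, 0, 0, 0, 0, 0, 0, 0, 0, 0, 0, 4, 0, 0, 0, 0, 0, 0, 0, 0, 0, 0],
  [0, 0, 0, 0, 0, 0, 0, 0, 0, 0, 0, 0, 0, 0, 0, 0, 0, 0, 0, 0, 0, 0, 0, 0, 0, 0, 0, 0, 0, 0, 0, 0, 0, 0, 0, 0, 0, 0, 0, 0, 0, 0, 0, 0, 0, 0, 4, 0, 0, 0, 0, 0, 0, 0, 0, 0],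
  [0, 0, 0, 0, 0, 0, 0, 0, 0, 0, 0, 0, 0, 0, 0, 0, 0, 0, 0, 0, 0, 0, 0, 0, 0, 0, 0, 0, 0, 0, 0, 0, 0, 0, 0, 0, 0, 0, 0, 0, 0, 0, 0, 0, 0, 0, 0, 4, 0, 0, 0, 0, 0, 0, 0, 0],
  [0, 0, 0, 0, 0, 0, 0, 0, 0, 0, 0, 0, 0, 0, 0, 0, 0, 0, 0, 0, 0, 0, 0, 0, 0, 0, 0, 0, 0, 0, 0, 0, 0, 0, 0, 0, 0, 0, 0, 0, 0, 0, 0, 0, 0, 0, 0, 0, 2, -2, -2, -2, -2, -2, -2, -2],
  [0, 0, 0, 0, 0, 0, 0, 0, 0, 0, 0, 0, 0, 0, 0, 0, 0, 0, 0, 0, 0, 0, 0, 0, 0, 0, 0, 0, 0, 0, 0, 0, 0, 0, 0, 0, 0, 0, 0, 0, 0, 0, 0, 0, 0, 0, 0, 0, 0, 4, 0, 0, 0, 0, 0, 0],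
  [0, 0, 0, 0, 0, 0, 0, 0, 0, 0, 0, 0, 0, 0, 0, 0, 0, 0, 0, 0, 0, 0, 0, 0, 0, 0, 0, 0, 0, 0, 0, 0, 0, 0, 0, 0, 0, 0, 0, 0, 0, 0, 0, 0, 0, 0, 0, 0, 0, 0, 4, 0, 0, 0, 0, 0],
  [0, 0, 0, 0, 0, 0, 0, 0, 0, 0, 0, 0, 0, 0, 0, 0, 0, 0, 0, 0, 0, 0, 0, 0, 0, 0, 0, 0, 0, 0, 0, 0, 0, 0, 0, 0, 0, 0, 0, 0, 0, 0, 0, 0, 0, 0, 0, 0, 0, 0, 0, 4, 0, 0, 0, 0],
  [0, 0, 0, 0, 0, 0, 0, 0, 0, 0, 0, 0, 0, 0, 0, 0, 0, 0, 0, 0, 0, 0, 0, 0, 0, 0, 0, 0, 0, 0, 0, 0, 0, 0, 0, 0, 0, 0, 0, 0, 0, 0, 0, 0, 0, 0, 0, 0, 0, 0, 0, 0, 4, 0, 0, 0],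
  [0, 0, 0, 0, 0, 0, 0, 0, 0, 0, 0, 0, 0, 0, 0, 0, 0, 0, 0, 0, 0, 0, 0, 0, 0, 0, 0, 0, 0, 0, 0, 0, 0, 0, 0, 0, 0, 0, 0, 0, 0, 0, 0, 0, 0, 0, 0, 0, 0, 0, 0, 0, 0, 4, 0, 0],
  [0, 0, 0, 0, 0, 0, 0, 0, 0, 0, 0, 0, 0, 0, 0, 0, 0, 0, 0, 0, 0, 0, 0, 0, 0, 0, 0, 0, 0, 0, 0, 0, 0, 0, 0, 0, 0, 0, 0, 0, 0, 0, 0, 0, 0, 0, 0, 0, 0, 0, 0, 0, 0, 0, 4, 0],
  [0, 0, 0, 0, 0, 0, 0, 0, 0, 0, 0, 0, 0, 0, 0, 0, 0, 0, 0, 0, 0, 0, 0, 0, 0, 0, 0, 0, 0, 0, 0, 0, 0, 0, 0, 0, 0, 0, 0, 0, 0, 0, 0, 0, 0, 0, 0, 0, 0, 0, 0, 0, 0, 0, 0, 4]]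

def certI : List (List (ℕ × ℤ)) := [
  [(1, Int.ofNat 1), (6, Int.ofNat 1), (7, Int.ofNat 1), (10, Int.ofNat 1), (11, Int.ofNat 1), (13, Int.ofNat 1), (14, Int.ofNat 2), (15, Int.ofNat 1), (20, Int.ofNat 4), (21, Int.ofNat 3), (22, Int.ofNat 4), (23, Int.ofNat 5), (25, Int.ofNat 1), (26, Int.ofNat 1), (27, Int.ofNat 1), (28, Int.ofNat 1), (30, Int.ofNat 1), (31, Int.ofNat 6), (32, Int.ofNat 1), (33, Int.ofNat 4), (34, Int.ofNat 1), (35, Int.ofNat 8), (36, Int.ofNat 2), (37, Int.ofNat 5), (38, Int.ofNat 8), (39, Int.ofNat 11), (40, Int.ofNat 16), (41, Int.ofNat 13), (42, Int.ofNat 12), (43, Int.ofNat 18), (44, Int.ofNat 13), (45, Int.ofNat 19), (46, Int.ofNat 26), (47, Int.ofNat 19), (48, Int.ofNat 15), (49, Int.ofNat 23), (50, Int.ofNat 39), (51, Int.ofNat 25), (52, Int.ofNat 25), (53, Int.ofNat 20), (54, Int.ofNat 24), (55, Int.ofNat 23)],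
  [(0, Int.negSucc 0), (6, Int.ofNat 1), (12, Int.ofNat 1), (13, Int.ofNat 1), (14, Int.ofNat 1), (20, Int.ofNat 2), (21, Int.ofNat 1), (22, Int.ofNat 1), (23, Int.ofNat 1), (24, Int.ofNat 1), (25, Int.ofNat 1), (26, Int.ofNat 1), (28, Int.ofNat 1), (29, Int.ofNat 1), (30, Int.ofNat 2), (31, Int.ofNat 5), (32, Int.ofNat 1), (33, Int.ofNat 1), (34, Int.ofNat 1), (35, Int.ofNat 5), (36, Int.ofNat 2), (37, Int.ofNat 2), (38, Int.ofNat 5), (39, Int.ofNat 4), (40, Int.ofNat 9), (41, Int.ofNat 7), (42, Int.ofNat 7), (43, Int.ofNat 10), (44, Int.ofNat 7), (45, Int.ofNat 10), (46, Int.ofNat 14), (47, Int.ofNat 9), (48, Int.ofNat 7), (49, Int.ofNat 13), (50, Int.ofNat 22), (51, Int.ofNat 13), (52, Int.ofNat 14), (53, Int.ofNat 11), (54, Int.ofNat 12), (55, Int.ofNat 10)],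
  [(3, Int.ofNat 1), (6, Int.ofNat 1), (7, Int.ofNat 1), (10, Int.ofNat 1), (11, Int.ofNat 1), (12, Int.ofNat 1), (13, Int.ofNat 1), (14, Int.ofNat 2), (15, Int.ofNat 2), (18, Int.ofNat 1), (19, Int.ofNat 1), (20, Int.ofNat 5), (21, Int.ofNat 4), (22, Int.ofNat 6), (23, Int.ofNat 7), (24, Int.ofNat 1), (25, Int.ofNat 2), (26, Int.ofNat 1), (27, Int.ofNat 1), (28, Int.ofNat 2), (29, Int.ofNat 1), (30, Int.ofNat 2), (31, Int.ofNat 9), (33, Int.ofNat 4), (35, Int.ofNat 11), (36, Int.ofNat 3), (37, Int.ofNat 5), (38, Int.ofNat 11), (39, Int.ofNat 12), (40, Int.ofNat 20), (41, Int.ofNat 17), (42, Int.ofNat 17), (43, Int.ofNat 24), (44, Int.ofNat 17), (45, Int.ofNat 25), (46, Int.ofNat 35), (47, Int.ofNat 25), (48, Int.ofNat 20), (49, Int.ofNat 30), (50, Int.ofNat 52), (51, Int.ofNat 32), (52, Int.ofNat 32), (53, Int.ofNat 28), (54, Int.ofNat 31), (55, Int.ofNat 30)],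
  [(2, Int.negSucc 0), (6, Int.ofNat 1), (14, Int.ofNat 1), (18, Int.ofNat 1), (20, Int.ofNat 1), (24, Int.ofNat 1), (28, Int.ofNat 1), (31, Int.ofNat 2), (33, Int.ofNat 1), (35, Int.ofNat 2), (36, Int.ofNat 1), (38, Int.ofNat 1), (39, Int.ofNat 1), (40, Int.ofNat 3), (41, Int.ofNat 3), (42, Int.ofNat 3), (43, Int.ofNat 5), (44, Int.ofNat 2), (45, Int.ofNat 4), (46, Int.ofNat 5), (47, Int.ofNat 3), (48, Int.ofNat 2), (49, Int.ofNat 5), (50, Int.ofNat 8), (51, Int.ofNat 4), (52, Int.ofNat 5), (53, Int.ofNat 3), (54, Int.ofNat 5), (55, Int.ofNat 4)],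
  [(5, Int.ofNat 1), (6, Int.ofNat 1), (7, Int.ofNat 1), (11, Int.ofNat 1), (12, Int.ofNat 1), (13, Int.ofNat 1), (14, Int.ofNat 2), (15, Int.ofNat 1), (18, Int.ofNat 1), (19, Int.ofNat 1), (20, Int.ofNat 5), (21, Int.ofNat 3), (22, Int.ofNat 5), (23, Int.ofNat 6), (24, Int.ofNat 1), (25, Int.ofNat 1), (26, Int.ofNat 1), (27, Int.ofNat 1), (28, Int.ofNat 1), (29, Int.ofNat 1), (30, Int.ofNat 3), (31, Int.ofNat 8), (32, Int.ofNat 1), (33, Int.ofNat 4), (34, Int.ofNat 1), (35, Int.ofNat 11), (36, Int.ofNat 3), (37, Int.ofNat 5), (38, Int.ofNat 11), (39, Int.ofNat 11), (40, Int.ofNat 19), (41, Int.ofNat 16), (42, Int.ofNat 16), (43, Int.ofNat 23), (44, Int.ofNat 16), (45, Int.ofNat 24), (46, Int.ofNat 33), (47, Int.ofNat 23), (48, Int.ofNat 19), (49, Int.ofNat 29), (50, Int.ofNat 50), (51, Int.ofNat 31), (52, Int.ofNat 30), (53, Int.ofNat 26), (54, Int.ofNat 30), (55, Int.ofNat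 28)],
  [(4, Int.negSucc 0), (6, Int.ofNat 1), (10, Int.ofNat 1), (11, Int.ofNat 1), (14, Int.ofNat 1), (18, Int.ofNat 1), (20, Int.ofNat 1), (22, Int.ofNat 1), (23, Int.ofNat 1), (28, Int.ofNat 1), (31, Int.ofNat 2), (33, Int.ofNat 1), (35, Int.ofNat 2), (36, Int.ofNat 2), (37, Int.ofNat 1), (38, Int.ofNat 2), (39, Int.ofNat 2), (40, Int.ofNat 5), (41, Int.ofNat 3), (42, Int.ofNat 4), (43, Int.ofNat 5), (44, Int.ofNat 3), (45, Int.ofNat 5), (46, Int.ofNat 7), (47, Int.ofNat 5), (48, Int.ofNat 5), (49, Int.ofNat 6), (50, Int.ofNat 12), (51, Int.ofNat 7), (52, Int.ofNat 7), (53, Int.ofNat 6), (54, Int.ofNat 7), (55, Int.ofNat 6)],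
  [(6, Int.ofNat 1), (7, Int.ofNat 1), (10, Int.ofNat 1), (11, Int.ofNat 1), (12, Int.ofNat 1), (13, Int.ofNat 1), (14, Int.ofNat 2), (15, Int.ofNat 1), (20, Int.ofNat 4), (21, Int.ofNat 3), (22, Int.ofNat 4), (23, Int.ofNat 5), (25, Int.ofNat 1), (27, Int.ofNat 1), (28, Int.ofNat 1), (30, Int.ofNat 2), (31, Int.ofNat 6), (33, Int.ofNat 3), (34, Int.ofNat 1), (35, Int.ofNat 8), (36, Int.ofNat 2), (37, Int.ofNat 4), (38, Int.ofNat 8), (39, Int.ofNat 9), (40, Int.ofNat 14), (41, Int.ofNat 11), (42, Int.ofNat 11), (43, Int.ofNat 16), (44, Int.ofNat 12), (45, Int.ofNat 17), (46, Int.ofNat 24), (47, Int.ofNat 18), (48, Int.ofNat 14), (49, Int.ofNat 21), (50, Int.ofNat 35), (51, Int.ofNat 22), (52, Int.ofNat 22), (53, Int.ofNat 18), (54, Int.ofNat 21), (55, Int.ofNat 21)],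
  [(6, Int.negSucc 1), (7, Int.negSucc 0), (11, Int.negSucc 0), (13, Int.negSucc 0), (14, Int.negSucc 0), (15, Int.negSucc 0), (20, Int.negSucc 2), (21, Int.negSucc 2), (22, Int.negSucc 1), (23, Int.negSucc 3), (28, Int.negSucc 0), (30, Int.negSucc 0), (31, Int.negSucc 3), (32, Int.ofNat 1), (33, Int.negSucc 1), (35, Int.negSucc 5), (37, Int.negSucc 2), (38, Int.negSucc 2), (39, Int.negSucc 4), (40, Int.negSucc 7), (41, Int.negSucc 6), (42, Int.negSucc 5), (43, Int.negSucc 10), (44, Int.negSucc 5), (45, Int.negSucc 9), (46, Int.negSucc 12), (47, Int.negSucc 10), (48, Int.negSucc 7), (49, Int.negSucc 10), (50, Int.negSucc 19), (51, Int.negSucc 12), (52, Int.negSucc 12), (53, Int.negSucc 7), (54, Int.negSucc 12), (55, Int.negSucc 11)],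
  [(9, Int.ofNat 1), (10, Int.ofNat 1), (11, Int.ofNat 1), (12, Int.ofNat 1), (13, Int.ofNat 1), (14, Int.ofNat 2), (15, Int.ofNat 1), (20, Int.ofNat 4), (21, Int.ofNat 3), (22, Int.ofNat 4), (23, Int.ofNat 4), (25, Int.ofNat 1), (26, Int.ofNat 1), (27, Int.ofNat 1), (28, Int.ofNat 1), (30, Int.ofNat 2), (31, Int.ofNat 6), (33, Int.ofNat 3), (34, Int.ofNat 1), (35, Int.ofNat 9), (36, Int.ofNat 2), (37, Int.ofNat 3), (38, Int.ofNat 8), (39, Int.ofNat 9), (40, Int.ofNat 13), (41, Int.ofNat 10), (42, Int.ofNat 10), (43, Int.ofNat 14), (44, Int.ofNat 11), (45, Int.ofNat 15), (46, Int.ofNat 22), (47, Int.ofNat 16), (48, Int.ofNat 14), (49, Int.ofNat 20), (50, Int.ofNat 32), (51, Int.ofNat 21), (52, Int.ofNat 22), (53, Int.ofNat 18), (54, Int.ofNat 19), (55, Int.ofNat 20)],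
  [(8, Int.negSucc 0), (10, Int.ofNat 1), (12, Int.ofNat 1), (14, Int.ofNat 1), (20, Int.ofNat 1), (25, Int.ofNat 1), (31, Int.ofNat 1), (32, Int.ofNat 1), (33, Int.ofNat 1), (34, Int.ofNat 2), (35, Int.ofNat 2), (36, Int.ofNat 1), (37, Int.ofNat 1), (38, Int.ofNat 3), (39, Int.ofNat 3), (40, Int.ofNat 3), (41, Int.ofNat 3), (42, Int.ofNat 2), (43, Int.ofNat 3), (44, Int.ofNat 3), (45, Int.ofNat 4), (46, Int.ofNat 6), (47, Int.ofNat 3), (48, Int.ofNat 3), (49, Int.ofNat 7), (50, Int.ofNat 8), (51, Int.ofNat 5), (52, Int.ofNat 7), (53, Int.ofNat 4), (54, Int.ofNat 5), (55, Int.ofNat 6)],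
  [(10, Int.ofNat 1), (11, Int.ofNat 1), (14, Int.ofNat 1), (20, Int.ofNat 1), (21, Int.ofNat 1), (22, Int.ofNat 2), (23, Int.ofNat 2), (24, Int.ofNat 1), (25, Int.ofNat 1), (26, Int.ofNat 1), (27, Int.ofNat 1), (28, Int.ofNat 1), (30, Int.ofNat 1), (31, Int.ofNat 4), (33, Int.ofNat 1), (35, Int.ofNat 3), (36, Int.ofNat 1), (37, Int.ofNat 1), (38, Int.ofNat 4), (39, Int.ofNat 4), (40, Int.ofNat 7), (41, Int.ofNat 5), (42, Int.ofNat 5), (43, Int.ofNat 7), (44, Int.ofNat 6), (45, Int.ofNat 8), (46, Int.ofNat 11), (47, Int.ofNat 9), (48, Int.ofNat 7), (49, Int.ofNat 11), (50, Int.ofNat 17), (51, Int.ofNat 11), (52, Int.ofNat 10), (53, Int.ofNat 10), (54, Int.ofNat 10), (55, Int.ofNat 11)],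
  [(10, Int.negSucc 1), (11, Int.negSucc 0), (14, Int.negSucc 0), (15, Int.negSucc 0), (20, Int.negSucc 0), (21, Int.negSucc 1), (22, Int.negSucc 1), (23, Int.negSucc 2), (25, Int.negSucc 0), (27, Int.negSucc 0), (28, Int.negSucc 0), (30, Int.ofNat 1), (31, Int.negSucc 2), (32, Int.ofNat 1), (33, Int.negSucc 0), (34, Int.ofNat 1), (35, Int.negSucc 1), (37, Int.negSucc 1), (38, Int.negSucc 1), (39, Int.negSucc 3), (40, Int.negSucc 5), (41, Int.negSucc 3), (42, Int.negSucc 3), (43, Int.negSucc 5), (44, Int.negSucc 3), (45, Int.negSucc 5), (46, Int.negSucc 7), (47, Int.negSucc 7), (48, Int.negSucc 5), (49, Int.negSucc 7), (50, Int.negSucc 12), (51, Int.negSucc 8), (52, Int.negSucc 7), (53, Int.negSucc 6), (54, Int.negSucc 8), (55, Int.negSucc 9)],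
  [(12, Int.ofNat 1), (13, Int.ofNat 1), (14, Int.ofNat 1), (20, Int.ofNat 2), (21, Int.ofNat 1), (22, Int.ofNat 1), (23, Int.ofNat 1), (24, Int.ofNat 1), (25, Int.ofNat 1), (26, Int.ofNat 1), (27, Int.ofNat 1), (28, Int.ofNat 1), (29, Int.ofNat 1), (30, Int.ofNat 2), (31, Int.ofNat 5), (33, Int.ofNat 1), (34, Int.ofNat 1), (35, Int.ofNat 5), (36, Int.ofNat 1), (37, Int.ofNat 1), (38, Int.ofNat 5), (39, Int.ofNat 4), (40, Int.ofNat 7), (41, Int.ofNat 6), (42, Int.ofNat 5), (43, Int.ofNat 8), (44, Int.ofNat 6), (45, Int.ofNat 8), (46, Int.ofNat 12), (47, Int.ofNat 7), (48, Int.ofNat 7), (49, Int.ofNat 12), (50, Int.ofNat 18), (51, Int.ofNat 11), (52, Int.ofNat 12), (53, Int.ofNat 9), (54, Int.ofNat 11), (55, Int.ofNat 10)],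
  [(12, Int.negSucc 1), (13, Int.negSucc 0), (14, Int.negSucc 0), (15, Int.negSucc 0), (20, Int.negSucc 1), (21, Int.negSucc 2), (22, Int.negSucc 2), (23, Int.negSucc 2), (25, Int.negSucc 0), (27, Int.negSucc 0), (29, Int.negSucc 0), (31, Int.negSucc 3), (32, Int.ofNat 1), (33, Int.negSucc 0), (35, Int.negSucc 4), (37, Int.negSucc 1), (38, Int.negSucc 3), (39, Int.negSucc 4), (40, Int.negSucc 5), (41, Int.negSucc 5), (42, Int.negSucc 4), (43, Int.negSucc 7), (44, Int.negSucc 5), (45, Int.negSucc 7), (46, Int.negSucc 12), (47, Int.negSucc 8), (48, Int.negSucc 7), (49, Int.negSucc 10), (50, Int.negSucc 16), (51, Int.negSucc 9), (52, Int.negSucc 11), (53, Int.negSucc 9), (54, Int.negSucc 12), (55, Int.negSucc 10)],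
  [(15, Int.ofNat 1), (20, Int.ofNat 1), (30, Int.ofNat 1), (31, Int.ofNat 1), (32, Int.ofNat 1), (33, Int.ofNat 1), (34, Int.ofNat 1), (35, Int.ofNat 2), (36, Int.ofNat 1), (37, Int.ofNat 1), (38, Int.ofNat 2), (39, Int.ofNat 2), (40, Int.ofNat 3), (41, Int.ofNat 2), (42, Int.ofNat 3), (43, Int.ofNat 3), (44, Int.ofNat 2), (45, Int.ofNat 3), (46, Int.ofNat 4), (47, Int.ofNat 2), (48, Int.ofNat 3), (49, Int.ofNat 4), (50, Int.ofNat 8), (51, Int.ofNat 6), (52, Int.ofNat 5), (53, Int.ofNat 4), (54, Int.ofNat 4), (55, Int.ofNat 4)],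
  [(14, Int.negSucc 0), (21, Int.negSucc 0), (22, Int.negSucc 0), (23, Int.negSucc 0), (30, Int.ofNat 1), (32, Int.ofNat 1), (34, Int.ofNat 1), (36, Int.ofNat 1), (38, Int.ofNat 1), (43, Int.negSucc 0), (46, Int.negSucc 0), (47, Int.negSucc 0), (48, Int.negSucc 0), (50, Int.ofNat 1), (54, Int.negSucc 0), (55, Int.negSucc 0)],
  [(17, Int.ofNat 1), (18, Int.ofNat 1), (19, Int.ofNat 1), (20, Int.ofNat 1), (23, Int.ofNat 1), (30, Int.ofNat 1), (31, Int.ofNat 1), (33, Int.ofNat 1), (35, Int.ofNat 2), (36, Int.ofNat 1), (38, Int.ofNat 3), (39, Int.ofNat 1), (40, Int.ofNat 3), (41, Int.ofNat 3), (42, Int.ofNat 3), (43, Int.ofNat 4), (44, Int.ofNat 3), (45, Int.ofNat 4), (46, Int.ofNat 6), (47, Int.ofNat 3), (48, Int.ofNat 4), (49, Int.ofNat 6), (50, Int.ofNat 10), (51, Int.ofNat 5), (52, Int.ofNat 6), (53, Int.ofNat 5), (54, Int.ofNat 5), (55, Int.ofNat 5)],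
  [(16, Int.negSucc 0), (18, Int.ofNat 1), (21, Int.negSucc 0), (32, Int.ofNat 1), (33, Int.ofNat 1), (36, Int.ofNat 1), (38, Int.ofNat 1), (40, Int.ofNat 2), (41, Int.ofNat 1), (42, Int.ofNat 1), (43, Int.ofNat 1), (45, Int.ofNat 1), (46, Int.ofNat 1), (48, Int.ofNat 2), (49, Int.ofNat 1), (50, Int.ofNat 4), (51, Int.ofNat 2), (52, Int.ofNat 2), (53, Int.ofNat 1), (54, Int.ofNat 2), (55, Int.ofNat 2)],
  [(18, Int.ofNat 1), (19, Int.ofNat 1), (22, Int.ofNat 1), (23, Int.ofNat 1), (30, Int.ofNat 1), (31, Int.ofNat 1), (32, Int.ofNat 1), (33, Int.ofNat 1), (34, Int.ofNat 1), (35, Int.ofNat 2), (36, Int.ofNat 1), (38, Int.ofNat 3), (39, Int.ofNat 2), (40, Int.ofNat 4), (41, Int.ofNat 3), (42, Int.ofNat 4), (43, Int.ofNat 4), (44, Int.ofNat 3), (45, Int.ofNat 5), (46, Int.ofNat 6), (47, Int.ofNat 4), (48, Int.ofNat 3), (49, Int.ofNat 5), (50, Int.ofNat 10), (51, Int.ofNat 6),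 (52, Int.ofNat 5), (53, Int.ofNat 6), (54, Int.ofNat 5), (55, Int.ofNat 5)],
  [(18, Int.negSucc 1), (19, Int.negSucc 0), (23, Int.negSucc 0), (31, Int.negSucc 0), (33, Int.negSucc 0), (34, Int.ofNat 1), (35, Int.negSucc 0), (36, Int.negSucc 0), (38, Int.negSucc 0), (39, Int.negSucc 0), (40, Int.negSucc 1), (41, Int.negSucc 2), (42, Int.negSucc 2), (43, Int.negSucc 3), (44, Int.negSucc 0), (45, Int.negSucc 2), (46, Int.negSucc 4), (47, Int.negSucc 1), (48, Int.negSucc 1), (49, Int.negSucc 2), (50, Int.negSucc 6), (51, Int.negSucc 2), (52, Int.negSucc 2), (53, Int.negSucc 2), (54, Int.negSucc 3), (55, Int.negSucc 2)],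
  [(21, Int.ofNat 1), (22, Int.ofNat 1), (23, Int.ofNat 1), (34, Int.ofNat 1), (35, Int.ofNat 1), (38, Int.ofNat 1), (39, Int.ofNat 1), (40, Int.ofNat 1), (41, Int.ofNat 1), (42, Int.ofNat 2), (43, Int.ofNat 2), (44, Int.ofNat 2), (45, Int.ofNat 2), (46, Int.ofNat 3), (47, Int.ofNat 3), (48, Int.ofNat 2), (49, Int.ofNat 3), (50, Int.ofNat 4), (51, Int.ofNat 3), (52, Int.ofNat 3), (53, Int.ofNat 3), (54, Int.ofNat 2), (55, Int.ofNat 3)],
  [(20, Int.negSucc 0), (22, Int.ofNat 1), (34, Int.ofNat 1), (38, Int.ofNat 1), (39, Int.ofNat 1), (40, Int.ofNat 1), (42, Int.ofNat 1), (46, Int.ofNat 1), (47, Int.ofNat 1), (48, Int.ofNat 1), (50, Int.ofNat 1), (51, Int.ofNat 2), (52, Int.ofNat 1), (53, Int.ofNat 1), (54, Int.ofNat 1), (55, Int.ofNat 1)],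
  [(22, Int.ofNat 1), (23, Int.ofNat 1), (38, Int.ofNat 1), (40, Int.ofNat 1), (44, Int.ofNat 1), (45, Int.ofNat 1), (46, Int.ofNat 1), (47, Int.ofNat 1), (50, Int.ofNat 1), (51, Int.ofNat 1), (53, Int.ofNat 1), (55, Int.ofNat 1)],
  [(22, Int.negSucc 1), (23, Int.negSucc 0), (38, Int.negSucc 0), (39, Int.negSucc 0), (40, Int.negSucc 0), (41, Int.negSucc 0), (42, Int.negSucc 0), (43, Int.negSucc 0), (44, Int.negSucc 0), (45, Int.negSucc 1), (46, Int.negSucc 1), (47, Int.negSucc 1), (48, Int.negSucc 0), (49, Int.negSucc 0), (50, Int.negSucc 1), (51, Int.negSucc 1), (52, Int.negSucc 0), (53, Int.negSucc 1), (54, Int.negSucc 0), (55, Int.negSucc 0)],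
  [(24, Int.ofNat 1), (25, Int.ofNat 1), (26, Int.ofNat 1), (28, Int.ofNat 1), (30, Int.ofNat 1), (31, Int.ofNat 2), (35, Int.ofNat 1), (38, Int.ofNat 1), (39, Int.ofNat 1), (40, Int.ofNat 3), (41, Int.ofNat 2), (42, Int.ofNat 3), (43, Int.ofNat 3), (44, Int.ofNat 3), (45, Int.ofNat 3), (46, Int.ofNat 5), (47, Int.ofNat 4), (48, Int.ofNat 3), (49, Int.ofNat 5), (50, Int.ofNat 8), (51, Int.ofNat 5), (52, Int.ofNat 5), (53, Int.ofNat 5), (54, Int.ofNat 4), (55, Int.ofNat 4)],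
  [(24, Int.negSucc 1), (25, Int.negSucc 0), (26, Int.negSucc 0), (27, Int.negSucc 0), (28, Int.negSucc 0), (29, Int.negSucc 0), (31, Int.negSucc 2), (35, Int.negSucc 0), (38, Int.negSucc 0), (39, Int.negSucc 1), (40, Int.negSucc 1), (41, Int.negSucc 2), (42, Int.negSucc 2), (43, Int.negSucc 3), (44, Int.negSucc 2), (45, Int.negSucc 3), (46, Int.negSucc 4), (47, Int.negSucc 3), (48, Int.negSucc 0), (49, Int.negSucc 5), (50, Int.negSucc 7), (51, Int.negSucc 3), (52, Int.negSucc 3), (53, Int.negSucc 4), (54, Int.negSucc 3), (55, Int.negSucc 3)],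
  [(27, Int.ofNat 1), (30, Int.ofNat 1), (31, Int.ofNat 1), (34, Int.ofNat 1), (35, Int.ofNat 1), (38, Int.ofNat 2), (39, Int.ofNat 1), (40, Int.ofNat 1), (48, Int.ofNat 1), (49, Int.ofNat 1), (50, Int.ofNat 2), (51, Int.ofNat 2), (52, Int.ofNat 1), (54, Int.ofNat 1), (55, Int.ofNat 2)],
  [(26, Int.negSucc 0), (30, Int.ofNat 1), (38, Int.ofNat 1), (39, Int.negSucc 0), (48, Int.ofNat 1), (50, Int.ofNat 1), (54, Int.ofNat 1)],
  [(29, Int.ofNat 1), (30, Int.ofNat 1), (31, Int.ofNat 1), (35, Int.ofNat 1), (38, Int.ofNat 1), (40, Int.ofNat 1), (48, Int.ofNat 1), (50, Int.ofNat 2), (51, Int.ofNat 1), (54, Int.ofNat 1), (55, Int.ofNat 1)],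
  [(28, Int.negSucc 0), (30, Int.ofNat 1), (34, Int.ofNat 1), (35, Int.ofNat 1), (38, Int.ofNat 1)],
  [(30, Int.ofNat 1), (31, Int.ofNat 1), (34, Int.ofNat 1), (35, Int.ofNat 1), (38, Int.ofNat 1), (40, Int.ofNat 1), (50, Int.ofNat 1), (51, Int.ofNat 1), (55, Int.ofNat 1)],
  [(30, Int.negSucc 1), (31, Int.negSucc 0), (35, Int.negSucc 0), (38, Int.negSucc 0), (40, Int.negSucc 0), (41, Int.negSucc 0), (42, Int.negSucc 0), (43, Int.negSucc 0), (44, Int.negSucc 0), (45, Int.negSucc 0), (46, Int.negSucc 1), (47, Int.negSucc 0), (48, Int.negSucc 0), (49, Int.negSucc 0), (50, Int.negSucc 2), (51, Int.negSucc 1), (52, Int.negSucc 0), (53, Int.negSucc 0), (54, Int.negSucc 0), (55, Int.negSucc 0)],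
  [(32, Int.ofNat 1), (33, Int.ofNat 1), (36, Int.ofNat 1), (38, Int.ofNat 1), (39, Int.ofNat 1), (40, Int.ofNat 2), (41, Int.ofNat 1), (42, Int.ofNat 1), (43, Int.ofNat 1), (44, Int.ofNat 2), (45, Int.ofNat 2), (46, Int.ofNat 2), (47, Int.ofNat 2), (48, Int.ofNat 2), (49, Int.ofNat 3), (50, Int.ofNat 5), (51, Int.ofNat 2), (52, Int.ofNat 3), (53, Int.ofNat 3), (54, Int.ofNat 2), (55, Int.ofNat 3)],
  [(32, Int.negSucc 1), (33, Int.negSucc 0), (36, Int.negSucc 0), (37, Int.negSucc 0), (39, Int.negSucc 1), (40, Int.negSucc 1), (41, Int.negSucc 2), (42, Int.negSucc 2), (43, Int.negSucc 2), (44, Int.negSucc 2), (45, Int.negSucc 3), (46, Int.negSucc 4), (47, Int.negSucc 2), (48, Int.negSucc 1), (49, Int.negSucc 4), (50, Int.negSucc 7), (51, Int.negSucc 3), (52, Int.negSucc 4), (53, Int.negSucc 4), (54, Int.negSucc 2), (55, Int.negSucc 2)],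
  [(34, Int.ofNat 1), (35, Int.ofNat 1), (38, Int.ofNat 1), (48, Int.ofNat 1), (49, Int.ofNat 1), (50, Int.ofNat 1), (51, Int.ofNat 1), (52, Int.ofNat 1), (54, Int.ofNat 1), (55, Int.ofNat 1)],
  [(34, Int.negSucc 1), (35, Int.negSucc 0), (38, Int.negSucc 0), (39, Int.negSucc 0), (49, Int.negSucc 0), (51, Int.negSucc 0), (52, Int.negSucc 0), (55, Int.negSucc 0)],
  [(37, Int.ofNat 1), (40, Int.ofNat 1), (48, Int.ofNat 1), (50, Int.ofNat 1), (51, Int.ofNat 1), (52, Int.ofNat 1), (54, Int.ofNat 1), (55, Int.ofNat 1)],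
  [(36, Int.negSucc 0), (41, Int.negSucc 0), (42, Int.negSucc 0), (43, Int.negSucc 0), (44, Int.negSucc 0), (45, Int.negSucc 0), (46, Int.negSucc 1), (47, Int.negSucc 0), (48, Int.negSucc 0), (49, Int.negSucc 1), (50, Int.negSucc 1), (51, Int.negSucc 0), (52, Int.negSucc 1), (53, Int.negSucc 1), (54, Int.negSucc 0), (55, Int.negSucc 0)],
  [(39, Int.ofNat 1)],
  [(38, Int.negSucc 0)],
  [(41, Int.ofNat 1), (42, Int.ofNat 1), (43, Int.ofNat 1), (44, Int.ofNat 1), (45, Int.ofNat 1), (46, Int.ofNat 2), (47, Int.ofNat 1), (49, Int.ofNat 1), (50, Int.ofNat 2), (52, Int.ofNat 1), (53, Int.ofNat 1), (54, Int.ofNat 1)],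
  [(40, Int.negSucc 0), (42, Int.ofNat 1), (44, Int.ofNat 1), (46, Int.ofNat 1), (48, Int.ofNat 1), (49, Int.ofNat 1), (50, Int.ofNat 1), (52, Int.ofNat 1), (53, Int.ofNat 1)],
  [(42, Int.ofNat 1), (43, Int.ofNat 1), (46, Int.ofNat 1), (50, Int.ofNat 1), (52, Int.ofNat 1)],
  [(42, Int.negSucc 1), (43, Int.negSucc 0), (46, Int.negSucc 0), (47, Int.negSucc 0), (50, Int.negSucc 0), (51, Int.negSucc 0), (52, Int.negSucc 0), (53, Int.negSucc 0)],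
  [(44, Int.ofNat 1), (45, Int.ofNat 1), (46, Int.ofNat 1), (48, Int.ofNat 1), (49, Int.ofNat 1), (50, Int.ofNat 1), (52, Int.ofNat 1), (53, Int.ofNat 1), (54, Int.ofNat 1), (55, Int.ofNat 1)],
  [(44, Int.negSucc 1), (45, Int.negSucc 0), (46, Int.negSucc 0), (47, Int.negSucc 0), (49, Int.negSucc 0), (50, Int.negSucc 0), (53, Int.negSucc 0), (55, Int.negSucc 0)],
  [(47, Int.ofNat 1)],
  [(46, Int.negSucc 0)],
  [(48, Int.ofNat 1), (49, Int.ofNat 1), (50, Int.ofNat 1), (52, Int.ofNat 1), (54, Int.ofNat 1)],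
  [(48, Int.negSucc 1), (49, Int.negSucc 0), (50, Int.negSucc 0), (51, Int.negSucc 0), (52, Int.negSucc 0), (53, Int.negSucc 0), (54, Int.negSucc 0), (55, Int.negSucc 0)],
  [(51, Int.ofNat 1)],
  [(50, Int.negSucc 0)],
  [(53, Int.ofNat 1)],
  [(52, Int.negSucc 0)],
  [(55, Int.ofNat 1)],
  [(54, Int.negSucc 0)]]

def certJ : List (List (ℕ × ℤ)) := [
  [(3, Int.ofNat 1), (5, Int.negSucc 0), (8, Int.ofNat 1), (15, Int.ofNat 1), (21, Int.ofNat 1), (22, Int.ofNat 1), (23, Int.ofNat 1), (24, Int.ofNat 1), (25, Int.ofNat 1), (26, Int.ofNat 1), (27, Int.ofNat 1), (28, Int.ofNat 1), (29, Int.ofNat 1), (30, Int.ofNat 1), (31, Int.ofNat 4), (35, Int.ofNat 2), (36, Int.ofNat 1), (38, Int.ofNat 3), (39, Int.ofNat 2), (40, Int.ofNat 4), (41, Int.ofNat 4), (42, Int.ofNat 5), (43, Int.ofNat 5), (44, Int.ofNat 4), (45, Int.ofNat 5), (46, Int.ofNat 8), (47, Int.ofNat 6), (48, Int.ofNat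 5), (49, Int.ofNat 8), (50, Int.ofNat 13), (51, Int.ofNat 8), (52, Int.ofNat 8), (53, Int.ofNat 8), (54, Int.ofNat 7), (55, Int.ofNat 7)],
  [(2, Int.negSucc 0), (5, Int.negSucc 0), (7, Int.negSucc 0), (11, Int.negSucc 0), (12, Int.negSucc 0), (13, Int.negSucc 0), (14, Int.negSucc 0), (19, Int.negSucc 0), (20, Int.negSucc 3), (21, Int.negSucc 2), (22, Int.negSucc 2), (23, Int.negSucc 4), (24, Int.ofNat 1), (25, Int.negSucc 0), (29, Int.negSucc 0), (30, Int.negSucc 0), (31, Int.negSucc 2), (32, Int.ofNat 1), (33, Int.negSucc 1), (35, Int.negSucc 6), (37, Int.negSucc 2), (38, Int.negSucc 5), (39, Int.negSucc 5), (40, Int.negSucc 8), (41, Int.negSucc 6), (42, Int.negSucc 5), (43, Int.negSucc 10), (44, Int.negSucc 8), (45, Int.negSucc 11), (46, Int.negSucc 16), (47, Int.negSucc 11), (48, Int.negSucc 9), (49, Int.negSucc 13), (50, Int.negSucc 22), (51, Int.negSucc 13), (52, Int.negSucc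 14), (53, Int.negSucc 11), (54, Int.negSucc 14), (55, Int.negSucc 13)],
  [(1, Int.ofNat 1), (5, Int.negSucc 0), (8, Int.ofNat 1), (13, Int.ofNat 1), (15, Int.ofNat 1), (16, Int.ofNat 1), (20, Int.ofNat 1), (21, Int.ofNat 1), (22, Int.ofNat 2), (23, Int.ofNat 2), (26, Int.ofNat 1), (27, Int.ofNat 1), (29, Int.ofNat 1), (31, Int.ofNat 4), (32, Int.negSucc 0), (33, Int.ofNat 1), (35, Int.ofNat 3), (37, Int.ofNat 2), (38, Int.ofNat 3), (39, Int.ofNat 4), (40, Int.ofNat 4), (41, Int.ofNat 4), (42, Int.ofNat 3), (43, Int.ofNat 4), (44, Int.ofNat 3), (45, Int.ofNat 5), (46, Int.ofNat 8), (47, Int.ofNat 5), (48, Int.ofNat 6), (49, Int.ofNat 6), (50, Int.ofNat 11), (51, Int.ofNat 8), (52, Int.ofNat 8), (53, Int.ofNat 6), (54, Int.ofNat 8), (55, Int.ofNat 6)],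
  [(0, Int.negSucc 0), (5, Int.negSucc 0), (7, Int.negSucc 0), (11, Int.negSucc 0), (12, Int.negSucc 0), (13, Int.negSucc 0), (14, Int.negSucc 0), (15, Int.negSucc 0), (16, Int.ofNat 1), (20, Int.negSucc 3), (21, Int.negSucc 1), (22, Int.negSucc 3), (23, Int.negSucc 3), (25, Int.negSucc 0), (27, Int.negSucc 0), (28, Int.negSucc 0), (30, Int.negSucc 0), (31, Int.negSucc 3), (33, Int.negSucc 2), (34, Int.negSucc 0), (35, Int.negSucc 6), (37, Int.negSucc 2), (38, Int.negSucc 5), (39, Int.negSucc 7), (40, Int.negSucc 9), (41, Int.negSucc 8), (42, Int.negSucc 7), (43, Int.negSucc 11), (44, Int.negSucc 9), (45, Int.negSucc 13), (46, Int.negSucc 18), (47, Int.negSucc 12), (48, Int.negSucc 10), (49, Int.negSucc 15), (50, Int.negSucc 26), (51, Int.negSucc 17), (52, Int.negSucc 17), (53, Int.negSucc 13), (54, Int.negSucc 16), (55, Int.negSucc 17)],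
  [(5, Int.negSucc 0), (6, Int.negSucc 0), (7, Int.negSucc 0), (11, Int.negSucc 0), (13, Int.negSucc 0), (14, Int.negSucc 0), (16, Int.ofNat 1), (20, Int.negSucc 2), (21, Int.negSucc 1), (22, Int.negSucc 1), (23, Int.negSucc 2), (28, Int.negSucc 0), (29, Int.negSucc 0), (30, Int.negSucc 0), (31, Int.negSucc 2), (32, Int.negSucc 0), (33, Int.negSucc 2), (35, Int.negSucc 5), (36, Int.negSucc 1), (37, Int.negSucc 2), (38, Int.negSucc 4), (39, Int.negSucc 4), (40, Int.negSucc 9), (41, Int.negSucc 7), (42, Int.negSucc 7), (43, Int.negSucc 11), (44, Int.negSucc 7), (45, Int.negSucc 11), (46, Int.negSucc 15), (47, Int.negSucc 11), (48, Int.negSucc 8), (49, Int.negSucc 13), (50, Int.negSucc 24), (51, Int.negSucc 14), (52, Int.negSucc 15), (53, Int.negSucc 11), (54, Int.negSucc 14), (55, Int.negSucc 13)],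
  [(5, Int.negSucc 0), (7, Int.negSucc 0), (8, Int.ofNat 1), (12, Int.negSucc 0), (14, Int.negSucc 0), (16, Int.ofNat 1), (20, Int.negSucc 1), (22, Int.negSucc 0), (23, Int.negSucc 0), (25, Int.negSucc 0), (30, Int.negSucc 0), (31, Int.negSucc 0), (32, Int.ofNat 1), (33, Int.negSucc 0), (35, Int.negSucc 2), (36, Int.ofNat 1), (37, Int.negSucc 0), (38, Int.negSucc 1), (39, Int.negSucc 1), (40, Int.negSucc 1), (41, Int.negSucc 1), (42, Int.negSucc 1), (43, Int.negSucc 3), (44, Int.negSucc 2), (45, Int.negSucc 2), (46, Int.negSucc 5), (47, Int.negSucc 2), (48, Int.negSucc 2), (49, Int.negSucc 3), (50, Int.negSucc 5), (51, Int.negSucc 3), (52, Int.negSucc 4), (53, Int.negSucc 2), (54, Int.negSucc 4), (55, Int.negSucc 4)],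
  [(4, Int.ofNat 1), (5, Int.negSucc 0), (8, Int.ofNat 1), (12, Int.negSucc 0), (14, Int.negSucc 0), (15, Int.ofNat 1), (23, Int.ofNat 1), (29, Int.negSucc 0), (32, Int.ofNat 1), (33, Int.ofNat 1), (35, Int.negSucc 0), (37, Int.ofNat 1), (38, Int.ofNat 1), (39, Int.ofNat 1), (40, Int.ofNat 2), (41, Int.ofNat 1), (42, Int.ofNat 2), (43, Int.ofNat 1), (44, Int.ofNat 2), (45, Int.ofNat 2), (46, Int.ofNat 1), (47, Int.ofNat 3), (49, Int.ofNat 1), (50, Int.ofNat 4), (51, Int.ofNat 3), (52, Int.ofNat 2), (53, Int.ofNat 2), (55, Int.ofNat 2)],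
  [(5, Int.ofNat 2), (7, Int.ofNat 1), (11, Int.ofNat 1), (14, Int.ofNat 1), (19, Int.ofNat 1), (20, Int.ofNat 2), (21, Int.ofNat 1), (22, Int.ofNat 3), (23, Int.ofNat 3), (26, Int.ofNat 1), (30, Int.ofNat 1), (31, Int.ofNat 2), (32, Int.negSucc 0), (33, Int.ofNat 1), (34, Int.ofNat 1), (35, Int.ofNat 5), (37, Int.ofNat 1), (38, Int.ofNat 4), (39, Int.ofNat 5), (40, Int.ofNat 7), (41, Int.ofNat 4), (42, Int.ofNat 5), (43, Int.ofNat 8), (44, Int.ofNat 5), (45, Int.ofNat 8), (46, Int.ofNat 11), (47, Int.ofNat 9), (48, Int.ofNat 8), (49, Int.ofNat 9), (50, Int.ofNat 16), (51, Int.ofNat 12), (52, Int.ofNat 9), (53, Int.ofNat 9), (54, Int.ofNat 11), (55, Int.ofNat 11)],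
  [(8, Int.ofNat 1), (11, Int.ofNat 1), (15, Int.ofNat 1), (20, Int.ofNat 1), (21, Int.ofNat 1), (22, Int.ofNat 2), (23, Int.ofNat 2), (24, Int.ofNat 1), (26, Int.ofNat 1), (27, Int.ofNat 1), (28, Int.ofNat 1), (30, Int.ofNat 1), (31, Int.ofNat 4), (33, Int.ofNat 1), (35, Int.ofNat 3), (37, Int.ofNat 2), (38, Int.ofNat 3), (39, Int.ofNat 4), (40, Int.ofNat 6), (41, Int.ofNat 5), (42, Int.ofNat 5), (43, Int.ofNat 6), (44, Int.ofNat 6), (45, Int.ofNat 8), (46, Int.ofNat 10), (47, Int.ofNat 8), (48, Int.ofNat 6), (49, Int.ofNat 9), (50, Int.ofNat 17), (51, Int.ofNat 11), (52, Int.ofNat 9), (53, Int.ofNat 9), (54, Int.ofNat 10), (55, Int.ofNat 10)],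
  [(8, Int.ofNat 1), (10, Int.negSucc 0), (12, Int.negSucc 0), (14, Int.negSucc 0), (20, Int.negSucc 0), (24, Int.ofNat 1), (25, Int.negSucc 0), (26, Int.ofNat 1), (29, Int.ofNat 1), (32, Int.ofNat 2), (34, Int.ofNat 1), (37, Int.negSucc 0), (42, Int.ofNat 1), (44, Int.ofNat 1), (45, Int.ofNat 1), (46, Int.negSucc 0), (47, Int.ofNat 1), (48, Int.negSucc 0), (49, Int.ofNat 1), (50, Int.ofNat 2), (51, Int.ofNat 2), (53, Int.ofNat 2), (55, Int.ofNat 1)],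
  [(8, Int.ofNat 1), (9, Int.ofNat 1), (11, Int.ofNat 1), (12, Int.negSucc 0), (20, Int.ofNat 1), (22, Int.ofNat 1), (23, Int.ofNat 1), (24, Int.ofNat 1), (26, Int.ofNat 2), (27, Int.ofNat 1), (28, Int.ofNat 1), (30, Int.ofNat 1), (31, Int.ofNat 3), (33, Int.ofNat 1), (35, Int.ofNat 3), (38, Int.ofNat 3), (39, Int.ofNat 3), (40, Int.ofNat 4), (41, Int.ofNat 3), (42, Int.ofNat 4), (43, Int.ofNat 4), (44, Int.ofNat 4), (45, Int.ofNat 5), (46, Int.ofNat 6), (47, Int.ofNat 6), (48, Int.ofNat 4), (49, Int.ofNat 7), (50, Int.ofNat 11), (51, Int.ofNat 8), (52, Int.ofNat 7), (53, Int.ofNat 7), (54, Int.ofNat 5), (55, Int.ofNat 7)],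
  [(8, Int.negSucc 1), (11, Int.negSucc 0), (13, Int.negSucc 0), (15, Int.negSucc 0), (20, Int.negSucc 2), (21, Int.negSucc 1), (22, Int.negSucc 1), (23, Int.negSucc 2), (26, Int.negSucc 0), (27, Int.negSucc 0), (28, Int.negSucc 0), (29, Int.negSucc 1), (31, Int.negSucc 4), (32, Int.ofNat 1), (33, Int.negSucc 0), (34, Int.ofNat 1), (35, Int.negSucc 4), (37, Int.negSucc 1), (38, Int.negSucc 3), (39, Int.negSucc 2), (40, Int.negSucc 6), (41, Int.negSucc 3), (42, Int.negSucc 3), (43, Int.negSucc 6), (44, Int.negSucc 4), (45, Int.negSucc 7), (46, Int.negSucc 8), (47, Int.negSucc 7), (48, Int.negSucc 5), (49, Int.negSucc 8), (50, Int.negSucc 15), (51, Int.negSucc 9), (52, Int.negSucc 9), (53, Int.negSucc 7), (54, Int.negSucc 10), (55, Int.negSucc 8)],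
  [(12, Int.negSucc 0), (13, Int.negSucc 0), (14, Int.negSucc 0), (20, Int.negSucc 1), (21, Int.negSucc 0), (22, Int.negSucc 0), (23, Int.negSucc 0), (24, Int.ofNat 1), (26, Int.ofNat 1), (29, Int.negSucc 0), (31, Int.negSucc 0), (32, Int.ofNat 1), (33, Int.negSucc 0), (35, Int.negSucc 2), (37, Int.negSucc 0), (38, Int.negSucc 1), (39, Int.negSucc 0), (40, Int.negSucc 1), (41, Int.negSucc 0), (43, Int.negSucc 1), (44, Int.negSucc 1), (45, Int.negSucc 1), (46, Int.negSucc 3), (47, Int.negSucc 1), (48, Int.negSucc 2), (49, Int.negSucc 2), (50, Int.negSucc 3), (51, Int.negSucc 1), (52, Int.negSucc 3), (53, Int.negSucc 0), (54, Int.negSucc 3), (55, Int.negSucc 2)],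
  [(15, Int.negSucc 0), (20, Int.negSucc 0), (29, Int.negSucc 0), (31, Int.negSucc 0), (32, Int.ofNat 1), (34, Int.ofNat 1), (35, Int.negSucc 0), (36, Int.ofNat 1), (39, Int.ofNat 1), (41, Int.ofNat 1), (42, Int.ofNat 1), (46, Int.ofNat 1), (48, Int.ofNat 1), (49, Int.ofNat 2), (50, Int.ofNat 1), (51, Int.ofNat 1), (52, Int.ofNat 2), (53, Int.ofNat 2)],
  [(12, Int.ofNat 2), (13, Int.ofNat 1), (14, Int.ofNat 1), (15, Int.ofNat 1), (20, Int.ofNat 2), (21, Int.ofNat 3), (22, Int.ofNat 3), (23, Int.ofNat 3), (25, Int.ofNat 1), (27, Int.ofNat 1), (30, Int.ofNat 1), (31, Int.ofNat 4), (32, Int.ofNat 1), (33, Int.ofNat 2), (34, Int.ofNat 2), (35, Int.ofNat 6), (36, Int.ofNat 2), (37, Int.ofNat 3), (38, Int.ofNat 6), (39, Int.ofNat 8), (40, Int.ofNat 10), (41, Int.ofNat 9), (42, Int.ofNat 8), (43, Int.ofNat 11), (44, Int.ofNat 8), (45, Int.ofNat 12), (46, Int.ofNat 18), (47, Int.ofNat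 11), (48, Int.ofNat 10), (49, Int.ofNat 16), (50, Int.ofNat 26), (51, Int.ofNat 16), (52, Int.ofNat 17), (53, Int.ofNat 14), (54, Int.ofNat 16), (55, Int.ofNat 15)],
  [(13, Int.ofNat 1), (21, Int.ofNat 1), (22, Int.ofNat 1), (23, Int.ofNat 1), (29, Int.negSucc 0), (32, Int.ofNat 1), (33, Int.ofNat 1), (34, Int.ofNat 1), (35, Int.ofNat 1), (36, Int.ofNat 1), (37, Int.ofNat 1), (38, Int.ofNat 1), (39, Int.ofNat 3), (40, Int.ofNat 3), (41, Int.ofNat 3), (42, Int.ofNat 3), (43, Int.ofNat 3), (44, Int.ofNat 3), (45, Int.ofNat 4), (46, Int.ofNat 6), (47, Int.ofNat 4), (48, Int.ofNat 4), (49, Int.ofNat 5), (50, Int.ofNat 8), (51, Int.ofNat 6), (52, Int.ofNat 6), (53, Int.ofNat 5), (54, Int.ofNat 4), (55, Int.ofNat 5)],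
  [(16, Int.ofNat 1), (19, Int.ofNat 1), (21, Int.ofNat 1), (23, Int.ofNat 1), (29, Int.negSucc 0), (32, Int.negSucc 0), (33, Int.negSucc 0), (37, Int.negSucc 0), (43, Int.ofNat 1), (44, Int.negSucc 0), (47, Int.ofNat 1), (48, Int.ofNat 1), (49, Int.ofNat 1), (53, Int.ofNat 1)],
  [(16, Int.ofNat 1), (18, Int.negSucc 0), (21, Int.ofNat 1), (33, Int.negSucc 0), (34, Int.ofNat 1), (39, Int.ofNat 1), (40, Int.negSucc 0), (49, Int.ofNat 1), (53, Int.ofNat 1), (55, Int.negSucc 0)],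
  [(16, Int.ofNat 1), (17, Int.ofNat 1), (19, Int.ofNat 1), (29, Int.negSucc 0), (32, Int.ofNat 1), (33, Int.ofNat 1), (34, Int.ofNat 2), (35, Int.ofNat 1), (36, Int.ofNat 1), (37, Int.ofNat 1), (38, Int.ofNat 2), (39, Int.ofNat 3), (40, Int.ofNat 3), (41, Int.ofNat 3), (42, Int.ofNat 3), (43, Int.ofNat 3), (44, Int.ofNat 2), (45, Int.ofNat 4), (46, Int.ofNat 5), (47, Int.ofNat 3), (48, Int.ofNat 3), (49, Int.ofNat 6), (50, Int.ofNat 8), (51, Int.ofNat 6), (52, Int.ofNat 6), (53, Int.ofNat 4), (54, Int.ofNat 4), (55, Int.ofNat 4)],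
  [(16, Int.negSucc 1), (19, Int.negSucc 0), (21, Int.negSucc 1), (23, Int.negSucc 0), (31, Int.negSucc 0), (32, Int.ofNat 2), (33, Int.ofNat 1), (35, Int.negSucc 0), (36, Int.negSucc 0), (38, Int.negSucc 0), (39, Int.negSucc 0), (40, Int.negSucc 0), (41, Int.negSucc 1), (43, Int.negSucc 2), (44, Int.negSucc 0), (45, Int.negSucc 1), (46, Int.negSucc 2), (47, Int.negSucc 1), (48, Int.negSucc 1), (49, Int.negSucc 3), (50, Int.negSucc 2), (51, Int.negSucc 0), (52, Int.negSucc 1), (53, Int.negSucc 1), (54, Int.negSucc 2), (55, Int.negSucc 0)],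
  [(21, Int.negSucc 0), (22, Int.negSucc 0), (23, Int.negSucc 0), (32, Int.ofNat 2), (33, Int.ofNat 1), (34, Int.ofNat 1), (37, Int.ofNat 1), (39, Int.ofNat 1), (40, Int.ofNat 2), (41, Int.ofNat 1), (42, Int.ofNat 1), (43, Int.ofNat 1), (44, Int.ofNat 1), (45, Int.ofNat 2), (46, Int.ofNat 1), (47, Int.ofNat 1), (49, Int.ofNat 2), (50, Int.ofNat 4), (51, Int.ofNat 3), (52, Int.ofNat 2), (53, Int.ofNat 1), (54, Int.ofNat 2), (55, Int.ofNat 2)],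
  [(21, Int.negSucc 0), (23, Int.negSucc 0), (32, Int.ofNat 2), (33, Int.ofNat 1), (34, Int.ofNat 1), (36, Int.ofNat 1), (38, Int.ofNat 1), (39, Int.ofNat 1), (40, Int.ofNat 2), (41, Int.ofNat 1), (42, Int.ofNat 2), (43, Int.ofNat 1), (44, Int.ofNat 1), (45, Int.ofNat 2), (46, Int.ofNat 2), (47, Int.ofNat 1), (49, Int.ofNat 2), (50, Int.ofNat 4), (51, Int.ofNat 3), (52, Int.ofNat 2), (53, Int.ofNat 2), (54, Int.ofNat 1), (55, Int.ofNat 2)],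
  [(20, Int.ofNat 1), (21, Int.negSucc 0), (36, Int.negSucc 0), (37, Int.negSucc 0), (39, Int.negSucc 0), (40, Int.negSucc 1), (41, Int.negSucc 1), (42, Int.negSucc 0), (43, Int.negSucc 1), (44, Int.negSucc 1), (45, Int.negSucc 1), (46, Int.negSucc 2), (47, Int.negSucc 1), (48, Int.negSucc 0), (49, Int.negSucc 1), (50, Int.negSucc 4), (51, Int.negSucc 1), (52, Int.negSucc 1), (53, Int.negSucc 1), (54, Int.negSucc 2), (55, Int.negSucc 1)],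
  [(21, Int.ofNat 2), (23, Int.ofNat 1), (35, Int.ofNat 1), (39, Int.ofNat 1), (40, Int.ofNat 1), (41, Int.ofNat 1), (42, Int.ofNat 1), (43, Int.ofNat 2), (44, Int.ofNat 1), (45, Int.ofNat 1), (46, Int.ofNat 2), (47, Int.ofNat 2), (48, Int.ofNat 1), (49, Int.ofNat 2), (50, Int.ofNat 3), (51, Int.ofNat 1), (52, Int.ofNat 2), (53, Int.ofNat 2), (54, Int.ofNat 2), (55, Int.ofNat 2)],
  [(24, Int.ofNat 1), (26, Int.ofNat 1), (27, Int.ofNat 1), (30, Int.ofNat 1), (31, Int.ofNat 2), (35, Int.ofNat 1), (38, Int.ofNat 1), (39, Int.ofNat 1), (40, Int.ofNat 2), (41, Int.ofNat 1), (42, Int.ofNat 2), (43, Int.ofNat 2), (44, Int.ofNat 2), (45, Int.ofNat 2), (46, Int.ofNat 3), (47, Int.ofNat 3), (48, Int.ofNat 2), (49, Int.ofNat 3), (50, Int.ofNat 6), (51, Int.ofNat 4), (52, Int.ofNat 2), (53, Int.ofNat 3), (54, Int.ofNat 3), (55, Int.ofNat 4)],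
  [(26, Int.negSucc 0), (29, Int.negSucc 0), (31, Int.negSucc 0), (35, Int.negSucc 0), (36, Int.negSucc 0), (37, Int.negSucc 0), (38, Int.negSucc 0), (39, Int.negSucc 0), (40, Int.negSucc 1), (41, Int.negSucc 1), (42, Int.negSucc 0), (43, Int.negSucc 1), (44, Int.negSucc 1), (45, Int.negSucc 1), (46, Int.negSucc 2), (47, Int.negSucc 1), (48, Int.negSucc 1), (49, Int.negSucc 2), (50, Int.negSucc 4), (51, Int.negSucc 2), (52, Int.negSucc 2), (53, Int.negSucc 2), (54, Int.negSucc 2), (55, Int.negSucc 1)],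
  [(25, Int.ofNat 1), (29, Int.negSucc 0), (32, Int.ofNat 2), (33, Int.ofNat 1), (34, Int.ofNat 1), (36, Int.ofNat 1), (38, Int.ofNat 1), (39, Int.ofNat 2), (40, Int.ofNat 2), (41, Int.ofNat 2), (42, Int.ofNat 3), (43, Int.ofNat 2), (44, Int.ofNat 2), (45, Int.ofNat 3), (46, Int.ofNat 4), (47, Int.ofNat 2), (48, Int.ofNat 2), (49, Int.ofNat 5), (50, Int.ofNat 6), (51, Int.ofNat 4), (52, Int.ofNat 5), (53, Int.ofNat 5), (54, Int.ofNat 2), (55, Int.ofNat 4)],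
  [(24, Int.negSucc 1), (25, Int.negSucc 0), (26, Int.negSucc 0), (27, Int.negSucc 0), (28, Int.negSucc 0), (29, Int.negSucc 1), (30, Int.negSucc 0), (31, Int.negSucc 3), (35, Int.negSucc 1), (36, Int.negSucc 0), (37, Int.negSucc 0), (38, Int.negSucc 2), (39, Int.negSucc 1), (40, Int.negSucc 3), (41, Int.negSucc 3), (42, Int.negSucc 3), (43, Int.negSucc 4), (44, Int.negSucc 3), (45, Int.negSucc 4), (46, Int.negSucc 6), (47, Int.negSucc 4), (48, Int.negSucc 2), (49, Int.negSucc 7), (50, Int.negSucc 11), (51, Int.negSucc 6), (52, Int.negSucc 6), (53, Int.negSucc 6), (54, Int.negSucc 6), (55, Int.negSucc 5)],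
  [(29, Int.negSucc 0), (30, Int.negSucc 0), (31, Int.negSucc 0), (35, Int.negSucc 0), (38, Int.negSucc 0), (40, Int.negSucc 0), (41, Int.negSucc 0), (43, Int.negSucc 0), (44, Int.negSucc 0), (45, Int.negSucc 0), (46, Int.negSucc 0), (47, Int.negSucc 0), (49, Int.negSucc 0), (50, Int.negSucc 1), (51, Int.negSucc 0), (54, Int.negSucc 0), (55, Int.negSucc 0)],
  [(29, Int.negSucc 0), (31, Int.negSucc 0), (32, Int.ofNat 2), (33, Int.ofNat 1), (34, Int.ofNat 1), (37, Int.ofNat 1), (39, Int.ofNat 2), (40, Int.ofNat 2), (41, Int.ofNat 2), (42, Int.ofNat 2), (43, Int.ofNat 2), (44, Int.ofNat 2), (45, Int.ofNat 3), (46, Int.ofNat 3), (47, Int.ofNat 2), (48, Int.ofNat 1), (49, Int.ofNat 3), (50, Int.ofNat 5), (51, Int.ofNat 4), (52, Int.ofNat 3), (53, Int.ofNat 3), (54, Int.ofNat 2), (55, Int.ofNat 3)],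
  [(28, Int.ofNat 1), (29, Int.negSucc 0), (32, Int.ofNat 2), (33, Int.ofNat 1), (34, Int.ofNat 1), (37, Int.ofNat 1), (39, Int.ofNat 2), (40, Int.ofNat 2), (41, Int.ofNat 2), (42, Int.ofNat 3), (43, Int.ofNat 2), (44, Int.ofNat 2), (45, Int.ofNat 3), (46, Int.ofNat 4), (47, Int.ofNat 2), (48, Int.ofNat 2), (49, Int.ofNat 4), (50, Int.ofNat 6), (51, Int.ofNat 5), (52, Int.ofNat 5), (53, Int.ofNat 4), (54, Int.ofNat 2), (55, Int.ofNat 3)],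
  [(29, Int.ofNat 2), (31, Int.ofNat 1), (35, Int.ofNat 1), (38, Int.ofNat 1), (50, Int.ofNat 1), (54, Int.ofNat 1)],
  [(32, Int.negSucc 0), (33, Int.negSucc 0), (37, Int.negSucc 0), (39, Int.negSucc 0), (40, Int.negSucc 1), (41, Int.negSucc 1), (42, Int.negSucc 0), (43, Int.negSucc 1), (44, Int.negSucc 0), (45, Int.negSucc 1), (46, Int.negSucc 1), (47, Int.negSucc 0), (49, Int.negSucc 1), (50, Int.negSucc 2), (51, Int.negSucc 1), (52, Int.negSucc 1), (53, Int.negSucc 0), (54, Int.negSucc 1), (55, Int.negSucc 0)],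
  [(32, Int.ofNat 2), (33, Int.ofNat 1), (39, Int.ofNat 1), (40, Int.ofNat 1), (41, Int.ofNat 1), (42, Int.ofNat 2), (43, Int.ofNat 1), (44, Int.ofNat 1), (45, Int.ofNat 2), (46, Int.ofNat 2), (47, Int.ofNat 1), (49, Int.ofNat 2), (50, Int.ofNat 3), (51, Int.ofNat 2), (52, Int.ofNat 2), (53, Int.ofNat 2), (54, Int.ofNat 1), (55, Int.ofNat 1)],
  [(32, Int.ofNat 2), (33, Int.ofNat 2), (34, Int.ofNat 1), (35, Int.ofNat 1), (38, Int.ofNat 1), (39, Int.ofNat 2), (40, Int.ofNat 2), (41, Int.ofNat 2), (42, Int.ofNat 2), (43, Int.ofNat 2), (44, Int.ofNat 2), (45, Int.ofNat 3), (46, Int.ofNat 3), (47, Int.ofNat 2), (48, Int.ofNat 2), (49, Int.ofNat 4), (50, Int.ofNat 6), (51, Int.ofNat 4), (52, Int.ofNat 4), (53, Int.ofNat 3), (54, Int.ofNat 3), (55, Int.ofNat 4)],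
  [(32, Int.negSucc 3), (33, Int.negSucc 1), (34, Int.negSucc 1), (35, Int.negSucc 0), (36, Int.negSucc 1), (37, Int.negSucc 1), (38, Int.negSucc 1), (39, Int.negSucc 3), (40, Int.negSucc 4), (41, Int.negSucc 4), (42, Int.negSucc 4), (43, Int.negSucc 4), (44, Int.negSucc 4), (45, Int.negSucc 6), (46, Int.negSucc 7), (47, Int.negSucc 4), (48, Int.negSucc 2), (49, Int.negSucc 8), (50, Int.negSucc 13), (51, Int.negSucc 8), (52, Int.negSucc 8), (53, Int.negSucc 7), (54, Int.negSucc 5), (55, Int.negSucc 6)],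
  [(36, Int.negSucc 0), (38, Int.negSucc 0), (40, Int.negSucc 0), (41, Int.negSucc 0), (43, Int.negSucc 0), (44, Int.negSucc 0), (45, Int.negSucc 0), (46, Int.negSucc 0), (47, Int.negSucc 0), (48, Int.negSucc 0), (49, Int.negSucc 1), (50, Int.negSucc 1), (51, Int.negSucc 0), (52, Int.negSucc 0), (53, Int.negSucc 0), (54, Int.negSucc 0), (55, Int.negSucc 0)],
  [(37, Int.negSucc 0), (39, Int.negSucc 0), (40, Int.negSucc 0), (41, Int.negSucc 0), (43, Int.negSucc 0), (44, Int.negSucc 0), (45, Int.negSucc 0), (46, Int.negSucc 0), (47, Int.negSucc 0), (49, Int.negSucc 0), (50, Int.negSucc 1), (51, Int.negSucc 0), (52, Int.negSucc 0), (54, Int.negSucc 0), (55, Int.negSucc 0)],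
  [(36, Int.ofNat 2), (38, Int.ofNat 1), (40, Int.ofNat 1), (41, Int.ofNat 1), (42, Int.ofNat 1), (43, Int.ofNat 1), (44, Int.ofNat 1), (45, Int.ofNat 1), (46, Int.ofNat 2), (47, Int.ofNat 1), (48, Int.ofNat 1), (49, Int.ofNat 2), (50, Int.ofNat 3), (51, Int.ofNat 1), (52, Int.ofNat 2), (53, Int.ofNat 2), (54, Int.ofNat 1), (55, Int.ofNat 1)],
  [(37, Int.ofNat 2), (39, Int.ofNat 1), (40, Int.ofNat 1), (41, Int.ofNat 1), (42, Int.ofNat 1), (43, Int.ofNat 1), (44, Int.ofNat 1), (45, Int.ofNat 1), (46, Int.ofNat 2), (47, Int.ofNat 1), (48, Int.ofNat 1), (49, Int.ofNat 1), (50, Int.ofNat 3), (51, Int.ofNat 2), (52, Int.ofNat 2), (53, Int.ofNat 1), (54, Int.ofNat 2), (55, Int.ofNat 1)],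
  [(40, Int.ofNat 1), (43, Int.ofNat 1), (47, Int.ofNat 1), (48, Int.ofNat 1), (50, Int.ofNat 1), (51, Int.ofNat 1), (54, Int.ofNat 1), (55, Int.ofNat 1)],
  [(40, Int.ofNat 1), (42, Int.negSucc 0), (44, Int.negSucc 0), (46, Int.negSucc 0), (49, Int.negSucc 0), (52, Int.negSucc 0), (53, Int.negSucc 0), (54, Int.ofNat 1)],
  [(40, Int.ofNat 1), (41, Int.ofNat 1), (43, Int.ofNat 1), (44, Int.negSucc 0), (48, Int.ofNat 1), (50, Int.ofNat 1), (51, Int.ofNat 1), (52, Int.ofNat 1), (54, Int.ofNat 2), (55, Int.ofNat 1)],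
  [(40, Int.negSucc 1), (43, Int.negSucc 0), (45, Int.negSucc 0), (47, Int.negSucc 0), (50, Int.negSucc 0), (51, Int.negSucc 0), (54, Int.negSucc 0), (55, Int.negSucc 0)],
  [(44, Int.negSucc 0), (45, Int.negSucc 0), (46, Int.negSucc 0), (49, Int.negSucc 0), (53, Int.negSucc 0)],
  [(47, Int.negSucc 0)],
  [(44, Int.ofNat 2), (45, Int.ofNat 1), (46, Int.ofNat 1), (47, Int.ofNat 1), (49, Int.ofNat 1), (50, Int.ofNat 1), (53, Int.ofNat 1), (55, Int.ofNat 1)],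
  [(45, Int.ofNat 1)],
  [(48, Int.ofNat 1), (50, Int.ofNat 1), (51, Int.ofNat 1), (54, Int.ofNat 1), (55, Int.ofNat 1)],
  [(50, Int.negSucc 0)],
  [(49, Int.ofNat 1)],
  [(48, Int.negSucc 1), (49, Int.negSucc 0), (50, Int.negSucc 0), (51, Int.negSucc 0), (52, Int.negSucc 0), (53, Int.negSucc 0), (54, Int.negSucc 0), (55, Int.negSucc 0)],
  [(54, Int.negSucc 0)],
  [(55, Int.negSucc 0)],
  [(52, Int.ofNat 1)],
  [(53, Int.ofNat 1)]]

def certK : List (List (ℕ × ℤ)) := [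
  [(3, Int.ofNat 1), (5, Int.ofNat 1), (7, Int.ofNat 1), (11, Int.ofNat 1), (14, Int.ofNat 1), (18, Int.ofNat 1), (19, Int.ofNat 2), (20, Int.ofNat 2), (21, Int.ofNat 2), (22, Int.ofNat 3), (23, Int.ofNat 4), (26, Int.ofNat 1), (30, Int.ofNat 1), (31, Int.ofNat 2), (33, Int.ofNat 2), (35, Int.ofNat 6), (36, Int.ofNat 2), (37, Int.ofNat 2), (38, Int.ofNat 5), (39, Int.ofNat 6), (40, Int.ofNat 9), (41, Int.ofNat 8), (42, Int.ofNat 9), (43, Int.ofNat 12), (44, Int.ofNat 9), (45, Int.ofNat 13), (46, Int.ofNat 18), (47, Int.ofNat 13), (48, Int.ofNat 10), (49, Int.ofNat 15), (50, Int.ofNat 25), (51, Int.ofNat 16), (52, Int.ofNat 15), (53, Int.ofNat 15), (54, Int.ofNat 15), (55, Int.ofNat 14)],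
  [(3, Int.ofNat 1), (4, Int.negSucc 0), (8, Int.ofNat 1), (10, Int.ofNat 1), (11, Int.ofNat 1), (14, Int.ofNat 1), (15, Int.ofNat 1), (17, Int.negSucc 0), (18, Int.ofNat 1), (20, Int.ofNat 1), (21, Int.ofNat 2), (22, Int.ofNat 3), (23, Int.ofNat 3), (24, Int.ofNat 1), (25, Int.ofNat 1), (26, Int.ofNat 2), (27, Int.ofNat 2), (28, Int.ofNat 2), (29, Int.ofNat 1), (31, Int.ofNat 6), (32, Int.ofNat 1), (33, Int.ofNat 1), (34, Int.negSucc 0), (35, Int.ofNat 4), (36, Int.ofNat 3), (37, Int.ofNat 2), (38, Int.ofNat 4), (39, Int.ofNat 6), (40, Int.ofNat 11), (41, Int.ofNat 8), (42, Int.ofNat 11), (43, Int.ofNat 12), (44, Int.ofNat 10), (45, Int.ofNat 13), (46, Int.ofNat 19), (47, Int.ofNat 15), (48, Int.ofNat 11), (49, Int.ofNat 17), (50, Int.ofNat 30), (51, Int.ofNat 19), (52, Int.ofNat 17), (53, Int.ofNat 19), (54, Int.ofNat 16), (55, Int.ofNat 17)],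
  [(3, Int.ofNat 1), (6, Int.ofNat 1), (7, Int.ofNat 1), (8, Int.ofNat 1), (11, Int.ofNat 1), (13, Int.ofNat 1), (14, Int.ofNat 1), (15, Int.ofNat 1), (16, Int.ofNat 1), (17, Int.negSucc 0), (18, Int.ofNat 1), (19, Int.ofNat 2), (20, Int.ofNat 3), (21, Int.ofNat 4), (22, Int.ofNat 4), (23, Int.ofNat 6), (24, Int.ofNat 1), (25, Int.ofNat 1), (26, Int.ofNat 2), (27, Int.ofNat 1), (28, Int.ofNat 2), (29, Int.ofNat 1), (30, Int.ofNat 1), (31, Int.ofNat 8), (32, Int.ofNat 1), (33, Int.ofNat 3), (34, Int.ofNat 1), (35, Int.ofNat 9), (36, Int.ofNat 3), (37, Int.ofNat 4), (38, Int.ofNat 9), (39, Int.ofNat 11), (40, Int.ofNat 17), (41, Int.ofNat 15), (42, Int.ofNat 17), (43, Int.ofNat 22), (44, Int.ofNat 16), (45, Int.ofNat 23), (46, Int.ofNat 31), (47, Int.ofNat 24), (48, Int.ofNat 16), (49, Int.ofNat 28), (50, Int.ofNat 46), (51, Int.ofNat 29), (52, Int.ofNat 28), (53, Int.ofNat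 27), (54, Int.ofNat 25), (55, Int.ofNat 25)],
  [(3, Int.ofNat 1), (7, Int.ofNat 1), (10, Int.ofNat 1), (11, Int.ofNat 1), (14, Int.ofNat 1), (15, Int.ofNat 1), (16, Int.ofNat 1), (18, Int.ofNat 1), (19, Int.ofNat 1), (20, Int.ofNat 2), (21, Int.ofNat 3), (22, Int.ofNat 3), (23, Int.ofNat 4), (25, Int.ofNat 1), (26, Int.ofNat 1), (28, Int.ofNat 1), (31, Int.ofNat 4), (33, Int.ofNat 2), (35, Int.ofNat 5), (36, Int.ofNat 2), (37, Int.ofNat 3), (38, Int.ofNat 5), (39, Int.ofNat 8), (40, Int.ofNat 11), (41, Int.ofNat 10), (42, Int.ofNat 11), (43, Int.ofNat 15), (44, Int.ofNat 10), (45, Int.ofNat 15), (46, Int.ofNat 21), (47, Int.ofNat 16), (48, Int.ofNat 12), (49, Int.ofNat 18), (50, Int.ofNat 30), (51, Int.ofNat 20), (52, Int.ofNat 19), (53, Int.ofNat 18), (54, Int.ofNat 18), (55, Int.ofNat 17)],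
  [(1, Int.ofNat 1), (3, Int.ofNat 1), (7, Int.ofNat 1), (8, Int.ofNat 1), (11, Int.ofNat 1), (13, Int.ofNat 1), (14, Int.ofNat 1), (15, Int.ofNat 1), (16, Int.ofNat 1), (17, Int.negSucc 0), (19, Int.ofNat 1), (20, Int.ofNat 3), (21, Int.ofNat 4), (22, Int.ofNat 4), (23, Int.ofNat 5), (25, Int.ofNat 1), (26, Int.ofNat 2), (27, Int.ofNat 2), (28, Int.ofNat 1), (29, Int.ofNat 1), (30, Int.ofNat 1), (31, Int.ofNat 7), (32, Int.ofNat 1), (33, Int.ofNat 3), (34, Int.ofNat 2), (35, Int.ofNat 9), (36, Int.ofNat 3), (37, Int.ofNat 4), (38, Int.ofNat 9), (39, Int.ofNat 12), (40, Int.ofNat 15), (41, Int.ofNat 13), (42, Int.ofNat 13), (43, Int.ofNat 18), (44, Int.ofNat 15), (45, Int.ofNat 20), (46, Int.ofNat 28), (47, Int.ofNat 20), (48, Int.ofNat 15), (49, Int.ofNat 26), (50, Int.ofNat 40), (51, Int.ofNat 26), (52, Int.ofNat 26), (53, Int.ofNat 24), (54, Int.ofNat 23), (55, Int.ofNat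 24)],
  [(0, Int.negSucc 0), (3, Int.ofNat 1), (10, Int.ofNat 1), (14, Int.ofNat 1), (17, Int.negSucc 0), (18, Int.ofNat 1), (21, Int.ofNat 1), (22, Int.ofNat 1), (23, Int.ofNat 1), (25, Int.ofNat 1), (26, Int.ofNat 1), (31, Int.ofNat 2), (32, Int.ofNat 1), (34, Int.negSucc 0), (35, Int.ofNat 1), (36, Int.ofNat 2), (37, Int.ofNat 1), (38, Int.ofNat 1), (39, Int.ofNat 2), (40, Int.ofNat 5), (41, Int.ofNat 3), (42, Int.ofNat 6), (43, Int.ofNat 6), (44, Int.ofNat 4), (45, Int.ofNat 5), (46, Int.ofNat 9), (47, Int.ofNat 7), (48, Int.ofNat 4), (49, Int.ofNat 6), (50, Int.ofNat 12), (51, Int.ofNat 8), (52, Int.ofNat 7), (53, Int.ofNat 9), (54, Int.ofNat 5), (55, Int.ofNat 6)],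
  [(2, Int.negSucc 0), (3, Int.ofNat 1), (8, Int.ofNat 1), (10, Int.ofNat 1), (11, Int.ofNat 1), (14, Int.ofNat 1), (15, Int.ofNat 1), (17, Int.negSucc 0), (20, Int.ofNat 1), (21, Int.ofNat 2), (22, Int.ofNat 2), (23, Int.ofNat 2), (26, Int.ofNat 1), (27, Int.ofNat 2), (28, Int.ofNat 1), (31, Int.ofNat 4), (32, Int.ofNat 1), (33, Int.ofNat 1), (35, Int.ofNat 3), (36, Int.ofNat 2), (37, Int.ofNat 2), (38, Int.ofNat 3), (39, Int.ofNat 5), (40, Int.ofNat 8), (41, Int.ofNat 5), (42, Int.ofNat 6), (43, Int.ofNat 8), (44, Int.ofNat 7), (45, Int.ofNat 9), (46, Int.ofNat 11), (47, Int.ofNat 10), (48, Int.ofNat 7), (49, Int.ofNat 12), (50, Int.ofNat 19), (51, Int.ofNat 12), (52, Int.ofNat 11), (53, Int.ofNat 12), (54, Int.ofNat 11), (55, Int.ofNat 13)],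
  [(3, Int.negSucc 1), (7, Int.negSucc 0), (14, Int.negSucc 0), (15, Int.negSucc 0), (16, Int.ofNat 1), (17, Int.negSucc 0), (18, Int.ofNat 1), (20, Int.negSucc 1), (21, Int.negSucc 1), (22, Int.negSucc 1), (23, Int.negSucc 1), (25, Int.negSucc 0), (26, Int.negSucc 0), (30, Int.negSucc 0), (31, Int.negSucc 0), (32, Int.ofNat 1), (33, Int.negSucc 0), (34, Int.ofNat 1), (35, Int.negSucc 2), (36, Int.ofNat 1), (37, Int.negSucc 0), (38, Int.negSucc 1), (39, Int.negSucc 2), (40, Int.negSucc 2), (41, Int.negSucc 3), (42, Int.negSucc 3), (43, Int.negSucc 4), (44, Int.negSucc 2), (45, Int.negSucc 3), (46, Int.negSucc 8), (47, Int.negSucc 5), (48, Int.negSucc 5), (49, Int.negSucc 5), (50, Int.negSucc 8), (51, Int.negSucc 6), (52, Int.negSucc 8), (53, Int.negSucc 5), (54, Int.negSucc 8), (55, Int.negSucc 6)],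
  [(8, Int.ofNat 1), (11, Int.ofNat 1), (13, Int.ofNat 1), (16, Int.ofNat 1), (17, Int.negSucc 0), (18, Int.ofNat 1), (19, Int.ofNat 1), (20, Int.ofNat 1), (21, Int.ofNat 2), (22, Int.ofNat 2), (23, Int.ofNat 3), (24, Int.ofNat 1), (26, Int.ofNat 1), (27, Int.ofNat 2), (28, Int.ofNat 1), (29, Int.ofNat 1), (31, Int.ofNat 5), (32, Int.ofNat 1), (33, Int.ofNat 1), (34, Int.ofNat 1), (35, Int.ofNat 4), (36, Int.ofNat 2), (37, Int.ofNat 2), (38, Int.ofNat 5), (39, Int.ofNat 6), (40, Int.ofNat 9), (41, Int.ofNat 7), (42, Int.ofNat 7), (43, Int.ofNat 10), (44, Int.ofNat 8), (45, Int.ofNat 12), (46, Int.ofNat 14), (47, Int.ofNat 12), (48, Int.ofNat 8), (49, Int.ofNat 15), (50, Int.ofNat 24), (51, Int.ofNat 15), (52, Int.ofNat 13), (53, Int.ofNat 14), (54, Int.ofNat 13), (55, Int.ofNat 14)],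
  [(8, Int.ofNat 1), (10, Int.ofNat 1), (11, Int.ofNat 1), (12, Int.negSucc 0), (16, Int.ofNat 1), (17, Int.negSucc 0), (18, Int.ofNat 1), (21, Int.ofNat 1), (22, Int.ofNat 1), (23, Int.ofNat 2), (26, Int.ofNat 1), (28, Int.ofNat 1), (30, Int.negSucc 0), (31, Int.ofNat 2), (35, Int.ofNat 1), (36, Int.ofNat 2), (37, Int.ofNat 1), (38, Int.ofNat 1), (39, Int.ofNat 2), (40, Int.ofNat 5), (41, Int.ofNat 3), (42, Int.ofNat 3), (43, Int.ofNat 5), (44, Int.ofNat 4), (45, Int.ofNat 6), (46, Int.ofNat 6), (47, Int.ofNat 7), (48, Int.ofNat 5), (49, Int.ofNat 7), (50, Int.ofNat 11), (51, Int.ofNat 8), (52, Int.ofNat 6), (53, Int.ofNat 8), (54, Int.ofNat 5), (55, Int.ofNat 7)],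
  [(10, Int.ofNat 1), (11, Int.ofNat 1), (14, Int.ofNat 1), (19, Int.ofNat 1), (20, Int.ofNat 1), (21, Int.ofNat 1), (22, Int.ofNat 1), (23, Int.ofNat 2), (27, Int.ofNat 1), (28, Int.ofNat 1), (31, Int.ofNat 2), (32, Int.ofNat 1), (33, Int.ofNat 1), (34, Int.ofNat 1), (35, Int.ofNat 3), (36, Int.ofNat 1), (37, Int.ofNat 2), (38, Int.ofNat 3), (39, Int.ofNat 4), (40, Int.ofNat 6), (41, Int.ofNat 4), (42, Int.ofNat 4), (43, Int.ofNat 6), (44, Int.ofNat 5), (45, Int.ofNat 7), (46, Int.ofNat 8), (47, Int.ofNat 7), (48, Int.ofNat 6), (49, Int.ofNat 10), (50, Int.ofNat 15), (51, Int.ofNat 10), (52, Int.ofNat 9), (53, Int.ofNat 8), (54, Int.ofNat 9), (55, Int.ofNat 9)],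
  [(15, Int.ofNat 1), (16, Int.ofNat 1), (17, Int.negSucc 0), (18, Int.ofNat 1), (21, Int.ofNat 1), (22, Int.ofNat 1), (23, Int.ofNat 1), (27, Int.ofNat 1), (31, Int.ofNat 2), (32, Int.ofNat 1), (33, Int.ofNat 1), (35, Int.ofNat 1), (36, Int.ofNat 2), (37, Int.ofNat 1), (38, Int.ofNat 2), (39, Int.ofNat 3), (40, Int.ofNat 5), (41, Int.ofNat 4), (42, Int.ofNat 4), (43, Int.ofNat 6), (44, Int.ofNat 4), (45, Int.ofNat 6), (46, Int.ofNat 8), (47, Int.ofNat 6), (48, Int.ofNat 4), (49, Int.ofNat 7), (50, Int.ofNat 13), (51, Int.ofNat 8), (52, Int.ofNat 6), (53, Int.ofNat 7), (54, Int.ofNat 6), (55, Int.ofNat 7)],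
  [(8, Int.ofNat 1), (9, Int.ofNat 1), (10, Int.ofNat 1), (11, Int.ofNat 2), (13, Int.ofNat 1), (14, Int.ofNat 1), (15, Int.ofNat 1), (16, Int.ofNat 1), (17, Int.negSucc 0), (18, Int.ofNat 1), (20, Int.ofNat 3), (21, Int.ofNat 4), (22, Int.ofNat 4), (23, Int.ofNat 5), (24, Int.ofNat 1), (25, Int.ofNat 1), (26, Int.ofNat 2), (27, Int.ofNat 3), (28, Int.ofNat 2), (29, Int.ofNat 1), (30, Int.ofNat 1), (31, Int.ofNat 9), (32, Int.ofNat 1), (33, Int.ofNat 3), (34, Int.ofNat 1), (35, Int.ofNat 9), (36, Int.ofNat 3), (37, Int.ofNat 4), (38, Int.ofNat 9), (39, Int.ofNat 12), (40, Int.ofNat 17), (41, Int.ofNat 13), (42, Int.ofNat 15), (43, Int.ofNat 19), (44, Int.ofNat 15), (45, Int.ofNat 21), (46, Int.ofNat 28), (47, Int.ofNat 23), (48, Int.ofNat 16), (49, Int.ofNat 27), (50, Int.ofNat 45), (51, Int.ofNat 29), (52, Int.ofNat 27), (53, Int.ofNat 26), (54, Int.ofNat 24), (55, Int.ofNat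 27)],
  [(8, Int.negSucc 1), (11, Int.negSucc 0), (13, Int.negSucc 0), (15, Int.negSucc 0), (16, Int.ofNat 1), (17, Int.negSucc 0), (18, Int.ofNat 1), (20, Int.negSucc 2), (21, Int.negSucc 1), (22, Int.negSucc 1), (23, Int.negSucc 2), (26, Int.negSucc 0), (28, Int.negSucc 0), (29, Int.negSucc 0), (31, Int.negSucc 2), (32, Int.ofNat 1), (33, Int.negSucc 0), (35, Int.negSucc 4), (36, Int.ofNat 1), (37, Int.negSucc 1), (38, Int.negSucc 2), (39, Int.negSucc 2), (40, Int.negSucc 5), (41, Int.negSucc 2), (42, Int.negSucc 1), (43, Int.negSucc 3), (44, Int.negSucc 3), (45, Int.negSucc 5), (46, Int.negSucc 5), (47, Int.negSucc 5), (48, Int.negSucc 6), (49, Int.negSucc 7), (50, Int.negSucc 12), (51, Int.negSucc 8), (52, Int.negSucc 9), (53, Int.negSucc 5), (54, Int.negSucc 9), (55, Int.negSucc 8)],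
  [(10, Int.negSucc 1), (11, Int.negSucc 0), (14, Int.negSucc 0), (15, Int.negSucc 0), (16, Int.ofNat 1), (17, Int.negSucc 0), (18, Int.ofNat 1), (20, Int.negSucc 1), (21, Int.negSucc 0), (22, Int.negSucc 0), (23, Int.negSucc 1), (25, Int.negSucc 0), (28, Int.negSucc 0), (31, Int.negSucc 1), (32, Int.ofNat 1), (33, Int.negSucc 0), (35, Int.negSucc 2), (36, Int.ofNat 1), (37, Int.negSucc 1), (38, Int.negSucc 1), (39, Int.negSucc 2), (40, Int.negSucc 4), (41, Int.negSucc 1), (42, Int.negSucc 0), (43, Int.negSucc 2), (44, Int.negSucc 2), (45, Int.negSucc 3), (46, Int.negSucc 3), (47, Int.negSucc 4), (48, Int.negSucc 5), (49, Int.negSucc 5), (50, Int.negSucc 8), (51, Int.negSucc 6), (52, Int.negSucc 6), (53, Int.negSucc 3), (54, Int.negSucc 7), (55, Int.negSucc 7)],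
  [(11, Int.negSucc 0), (16, Int.ofNat 1), (17, Int.negSucc 0), (18, Int.ofNat 1), (20, Int.negSucc 0), (27, Int.ofNat 1), (31, Int.ofNat 1), (32, Int.ofNat 1), (35, Int.negSucc 0), (36, Int.ofNat 2), (38, Int.ofNat 1), (39, Int.ofNat 1), (40, Int.ofNat 1), (41, Int.ofNat 2), (42, Int.ofNat 2), (43, Int.ofNat 2), (44, Int.ofNat 2), (45, Int.ofNat 2), (46, Int.ofNat 4), (47, Int.ofNat 2), (49, Int.ofNat 3), (50, Int.ofNat 5), (51, Int.ofNat 2), (52, Int.ofNat 1), (53, Int.ofNat 3), (55, Int.ofNat 1)],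
  [(16, Int.ofNat 1), (21, Int.ofNat 1), (27, Int.ofNat 1), (31, Int.ofNat 1), (32, Int.ofNat 1), (34, Int.ofNat 1), (35, Int.ofNat 1), (36, Int.ofNat 1), (37, Int.ofNat 1), (38, Int.ofNat 1), (39, Int.ofNat 3), (40, Int.ofNat 3), (41, Int.ofNat 2), (42, Int.ofNat 3), (43, Int.ofNat 4), (44, Int.ofNat 3), (45, Int.ofNat 4), (46, Int.ofNat 5), (47, Int.ofNat 4), (48, Int.ofNat 2), (49, Int.ofNat 6), (50, Int.ofNat 8), (51, Int.ofNat 5), (52, Int.ofNat 5), (53, Int.ofNat 5), (54, Int.ofNat 4), (55, Int.ofNat 4)],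
  [(17, Int.negSucc 0), (19, Int.negSucc 0), (20, Int.negSucc 0), (23, Int.negSucc 0), (32, Int.ofNat 1), (35, Int.negSucc 0), (36, Int.ofNat 1), (38, Int.negSucc 0), (42, Int.ofNat 1), (44, Int.ofNat 1), (46, Int.ofNat 1), (47, Int.ofNat 1), (48, Int.negSucc 0), (49, Int.negSucc 0), (50, Int.ofNat 1), (53, Int.ofNat 1), (54, Int.negSucc 1)],
  [(18, Int.ofNat 1), (19, Int.ofNat 1), (22, Int.ofNat 1), (23, Int.ofNat 1), (27, Int.ofNat 1), (31, Int.ofNat 1), (35, Int.ofNat 1), (36, Int.ofNat 1), (38, Int.ofNat 2), (39, Int.ofNat 1), (40, Int.ofNat 2), (41, Int.ofNat 2), (42, Int.ofNat 3), (43, Int.ofNat 3), (44, Int.ofNat 2), (45, Int.ofNat 3), (46, Int.ofNat 4), (47, Int.ofNat 3), (48, Int.ofNat 2), (49, Int.ofNat 4), (50, Int.ofNat 7), (51, Int.ofNat 4), (52, Int.ofNat 3), (53, Int.ofNat 4), (54, Int.ofNat 3), (55, Int.ofNat 3)],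
  [(19, Int.ofNat 1), (23, Int.ofNat 1), (34, Int.ofNat 1), (35, Int.ofNat 1), (38, Int.ofNat 1), (40, Int.ofNat 1), (44, Int.ofNat 1), (45, Int.ofNat 1), (47, Int.ofNat 1), (48, Int.ofNat 1), (49, Int.ofNat 2), (50, Int.ofNat 2), (51, Int.ofNat 1), (52, Int.ofNat 1), (53, Int.ofNat 1), (54, Int.ofNat 1), (55, Int.ofNat 2)],
  [(17, Int.ofNat 2), (19, Int.ofNat 2), (20, Int.ofNat 1), (23, Int.ofNat 1), (33, Int.ofNat 1), (34, Int.ofNat 2), (35, Int.ofNat 3), (37, Int.ofNat 1), (38, Int.ofNat 3), (39, Int.ofNat 2), (40, Int.ofNat 3), (41, Int.ofNat 3), (42, Int.ofNat 2), (43, Int.ofNat 3), (44, Int.ofNat 2), (45, Int.ofNat 4), (46, Int.ofNat 4), (47, Int.ofNat 2), (48, Int.ofNat 3), (49, Int.ofNat 6), (50, Int.ofNat 8), (51, Int.ofNat 5), (52, Int.ofNat 7), (53, Int.ofNat 3), (54, Int.ofNat 6), (55, Int.ofNat 4)],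
  [(16, Int.negSucc 1), (21, Int.negSucc 0), (31, Int.negSucc 0), (34, Int.negSucc 0), (36, Int.negSucc 0), (37, Int.negSucc 0), (38, Int.negSucc 0), (39, Int.negSucc 2), (40, Int.negSucc 1), (41, Int.negSucc 2), (42, Int.negSucc 0), (43, Int.negSucc 2), (44, Int.negSucc 1), (45, Int.negSucc 3), (46, Int.negSucc 4), (47, Int.negSucc 2), (48, Int.negSucc 0), (49, Int.negSucc 4), (50, Int.negSucc 4), (51, Int.negSucc 2), (52, Int.negSucc 2), (53, Int.negSucc 2), (54, Int.negSucc 2), (55, Int.negSucc 1)],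
  [(18, Int.negSucc 1), (22, Int.negSucc 0), (23, Int.negSucc 0), (31, Int.negSucc 0), (33, Int.negSucc 0), (34, Int.ofNat 1), (36, Int.negSucc 0), (38, Int.negSucc 0), (39, Int.negSucc 0), (40, Int.negSucc 1), (41, Int.negSucc 2), (42, Int.negSucc 1), (43, Int.negSucc 2), (44, Int.negSucc 0), (45, Int.negSucc 2), (46, Int.negSucc 4), (47, Int.negSucc 1), (48, Int.negSucc 1), (49, Int.negSucc 1), (50, Int.negSucc 5), (51, Int.negSucc 2), (52, Int.negSucc 2), (53, Int.negSucc 2), (54, Int.negSucc 2), (55, Int.negSucc 2)],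
  [(19, Int.negSucc 1), (23, Int.negSucc 0), (35, Int.negSucc 0), (38, Int.negSucc 0), (40, Int.negSucc 0), (41, Int.negSucc 0), (42, Int.negSucc 0), (43, Int.negSucc 0), (44, Int.negSucc 0), (45, Int.negSucc 1), (46, Int.negSucc 0), (47, Int.negSucc 0), (48, Int.negSucc 0), (49, Int.negSucc 1), (50, Int.negSucc 2), (51, Int.negSucc 0), (52, Int.negSucc 0), (53, Int.negSucc 1), (54, Int.negSucc 1), (55, Int.negSucc 0)],
  [(24, Int.ofNat 1), (26, Int.ofNat 1), (27, Int.ofNat 1), (28, Int.ofNat 1), (29, Int.ofNat 1), (31, Int.ofNat 2), (35, Int.ofNat 1), (38, Int.ofNat 1), (39, Int.ofNat 1), (40, Int.ofNat 2), (41, Int.ofNat 1), (42, Int.ofNat 1), (43, Int.ofNat 2), (44, Int.ofNat 2), (45, Int.ofNat 2), (46, Int.ofNat 2), (47, Int.ofNat 2), (48, Int.ofNat 2), (49, Int.ofNat 4), (50, Int.ofNat 6), (51, Int.ofNat 4), (52, Int.ofNat 3), (53, Int.ofNat 3), (54, Int.ofNat 3), (55,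 Int.ofNat 3)],
  [(27, Int.ofNat 1), (28, Int.negSucc 0), (34, Int.ofNat 1), (35, Int.ofNat 1), (38, Int.ofNat 1), (39, Int.ofNat 1), (40, Int.negSucc 0), (41, Int.negSucc 0), (43, Int.negSucc 0), (45, Int.negSucc 0), (46, Int.negSucc 0), (50, Int.negSucc 0), (55, Int.ofNat 1)],
  [(27, Int.ofNat 1), (30, Int.ofNat 1), (31, Int.ofNat 1), (35, Int.ofNat 1), (38, Int.ofNat 1), (42, Int.ofNat 1), (44, Int.ofNat 1), (46, Int.ofNat 1), (47, Int.ofNat 1), (48, Int.ofNat 1), (49, Int.ofNat 1), (50, Int.ofNat 2), (51, Int.ofNat 1), (52, Int.ofNat 1), (53, Int.ofNat 1), (54, Int.ofNat 1), (55, Int.ofNat 1)],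
  [(27, Int.ofNat 1), (31, Int.ofNat 1), (34, Int.ofNat 1), (35, Int.ofNat 1), (38, Int.ofNat 1), (39, Int.ofNat 1), (49, Int.ofNat 1), (50, Int.ofNat 1), (51, Int.ofNat 1), (52, Int.ofNat 1), (55, Int.ofNat 1)],
  [(25, Int.ofNat 1), (27, Int.ofNat 1), (31, Int.ofNat 1), (38, Int.ofNat 1), (39, Int.ofNat 1), (42, Int.ofNat 1), (44, Int.ofNat 1), (46, Int.ofNat 1), (47, Int.ofNat 1), (49, Int.ofNat 1), (50, Int.ofNat 1), (52, Int.ofNat 1), (53, Int.ofNat 1), (55, Int.ofNat 1)],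
  [(24, Int.negSucc 1), (25, Int.negSucc 0), (26, Int.negSucc 0), (28, Int.negSucc 0), (29, Int.negSucc 0), (30, Int.negSucc 0), (31, Int.negSucc 2), (34, Int.ofNat 1), (35, Int.negSucc 0), (38, Int.negSucc 0), (39, Int.negSucc 0), (40, Int.negSucc 2), (41, Int.negSucc 2), (42, Int.negSucc 2), (43, Int.negSucc 3), (44, Int.negSucc 2), (45, Int.negSucc 3), (46, Int.negSucc 4), (47, Int.negSucc 3), (48, Int.negSucc 1), (49, Int.negSucc 4), (50, Int.negSucc 7), (51, Int.negSucc 4), (52, Int.negSucc 3), (53, Int.negSucc 4), (54, Int.negSucc 4), (55, Int.negSucc 3)],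
  [(26, Int.negSucc 0), (27, Int.ofNat 1), (34, Int.ofNat 1), (38, Int.ofNat 1), (40, Int.negSucc 0), (41, Int.negSucc 0), (43, Int.negSucc 0), (45, Int.negSucc 0), (46, Int.negSucc 0), (48, Int.negSucc 0), (50, Int.negSucc 0), (51, Int.negSucc 0), (52, Int.negSucc 0), (53, Int.negSucc 0), (54, Int.negSucc 0)],
  [(27, Int.negSucc 1), (31, Int.negSucc 0), (38, Int.negSucc 0), (39, Int.negSucc 0), (49, Int.negSucc 0), (50, Int.negSucc 0), (54, Int.negSucc 0), (55, Int.negSucc 0)],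
  [(32, Int.ofNat 1), (36, Int.ofNat 1), (37, Int.ofNat 1), (39, Int.ofNat 1), (40, Int.ofNat 2), (41, Int.ofNat 1), (42, Int.ofNat 1), (43, Int.ofNat 1), (44, Int.ofNat 2), (45, Int.ofNat 2), (46, Int.ofNat 2), (47, Int.ofNat 2), (48, Int.ofNat 2), (49, Int.ofNat 3), (50, Int.ofNat 5), (51, Int.ofNat 3), (52, Int.ofNat 3), (53, Int.ofNat 3), (54, Int.ofNat 2), (55, Int.ofNat 2)],
  [(34, Int.ofNat 1), (35, Int.ofNat 1), (36, Int.negSucc 0), (40, Int.negSucc 0), (41, Int.negSucc 0), (43, Int.negSucc 0), (45, Int.negSucc 0), (46, Int.negSucc 0), (48, Int.negSucc 0), (49, Int.negSucc 0), (50, Int.negSucc 1), (52, Int.negSucc 0), (53, Int.negSucc 0), (54, Int.negSucc 0)],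
  [(34, Int.ofNat 1), (35, Int.ofNat 1), (38, Int.ofNat 1), (51, Int.ofNat 1), (52, Int.ofNat 1)],
  [(39, Int.ofNat 1)],
  [(33, Int.ofNat 1), (34, Int.ofNat 1), (35, Int.ofNat 1), (38, Int.ofNat 1), (39, Int.ofNat 1), (42, Int.ofNat 1), (44, Int.ofNat 1), (46, Int.ofNat 1), (47, Int.ofNat 1), (48, Int.ofNat 1), (49, Int.ofNat 1), (50, Int.ofNat 1), (51, Int.ofNat 1), (52, Int.ofNat 2), (53, Int.ofNat 1), (55, Int.ofNat 2)],
  [(32, Int.negSucc 1), (33, Int.negSucc 0), (34, Int.negSucc 0), (36, Int.negSucc 0), (37, Int.negSucc 0), (38, Int.negSucc 0), (39, Int.negSucc 1), (40, Int.negSucc 2), (41, Int.negSucc 2), (42, Int.negSucc 1), (43, Int.negSucc 2), (44, Int.negSucc 1), (45, Int.negSucc 3), (46, Int.negSucc 3), (47, Int.negSucc 1), (48, Int.negSucc 1), (49, Int.negSucc 4), (50, Int.negSucc 6), (51, Int.negSucc 4), (52, Int.negSucc 4), (53, Int.negSucc 3), (54, Int.negSucc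 3), (55, Int.negSucc 3)],
  [(34, Int.negSucc 1), (35, Int.negSucc 0), (38, Int.negSucc 0), (39, Int.negSucc 0), (49, Int.negSucc 0), (51, Int.negSucc 0), (52, Int.negSucc 0), (55, Int.negSucc 0)],
  [(35, Int.negSucc 0)],
  [(40, Int.ofNat 1), (43, Int.ofNat 1), (45, Int.ofNat 1), (50, Int.ofNat 1), (51, Int.ofNat 1)],
  [(40, Int.ofNat 1), (42, Int.ofNat 1), (43, Int.ofNat 1), (44, Int.negSucc 0), (49, Int.negSucc 0), (50, Int.ofNat 1), (51, Int.ofNat 1), (52, Int.ofNat 1)],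
  [(42, Int.ofNat 1), (43, Int.ofNat 1), (46, Int.ofNat 1), (48, Int.ofNat 1), (50, Int.ofNat 1), (51, Int.ofNat 1), (52, Int.ofNat 1), (53, Int.ofNat 1)],
  [(47, Int.ofNat 1)],
  [(40, Int.ofNat 1), (41, Int.ofNat 1), (42, Int.ofNat 1), (43, Int.ofNat 2), (45, Int.ofNat 1), (46, Int.ofNat 1), (47, Int.ofNat 1), (48, Int.ofNat 1), (49, Int.ofNat 1), (50, Int.ofNat 2), (51, Int.ofNat 2), (52, Int.ofNat 2), (53, Int.ofNat 1), (54, Int.ofNat 1), (55, Int.ofNat 1)],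
  [(40, Int.negSucc 1), (43, Int.negSucc 0), (45, Int.negSucc 0), (47, Int.negSucc 0), (50, Int.negSucc 0), (51, Int.negSucc 0), (54, Int.negSucc 0), (55, Int.negSucc 0)],
  [(42, Int.negSucc 1), (43, Int.negSucc 0), (46, Int.negSucc 0), (47, Int.negSucc 0), (50, Int.negSucc 0), (51, Int.negSucc 0), (52, Int.negSucc 0), (53, Int.negSucc 0)],
  [(43, Int.negSucc 0)],
  [(48, Int.ofNat 1), (50, Int.ofNat 1), (51, Int.ofNat 1), (52, Int.ofNat 1), (53, Int.ofNat 1)],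
  [(52, Int.negSucc 0)],
  [(54, Int.ofNat 1)],
  [(55, Int.ofNat 1)],
  [(49, Int.ofNat 1)],
  [(48, Int.negSucc 1), (49, Int.negSucc 0), (50, Int.negSucc 0), (51, Int.negSucc 0), (52, Int.negSucc 0), (53, Int.negSucc 0), (54, Int.negSucc 0), (55, Int.negSucc 0)],
  [(50, Int.negSucc 0)],
  [(51, Int.negSucc 0)]]

def certS : List (List (ℕ × ℤ)) := [
  [(0, Int.negSucc 0), (11, Int.negSucc 0), (15, Int.negSucc 0), (20, Int.negSucc 0), (21, Int.negSucc 0), (22, Int.negSucc 1), (23, Int.negSucc 1), (31, Int.negSucc 0), (33, Int.negSucc 1), (34, Int.negSucc 0), (35, Int.negSucc 2), (37, Int.negSucc 0), (38, Int.negSucc 1), (39, Int.negSucc 3), (40, Int.negSucc 3), (41, Int.negSucc 2), (42, Int.negSucc 2), (43, Int.negSucc 3), (44, Int.negSucc 2), (45, Int.negSucc 4), (46, Int.negSucc 5), (47, Int.negSucc 4), (48, Int.negSucc 3), (49, Int.negSucc 4), (50, Int.negSucc 8), (51,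 Int.negSucc 6), (52, Int.negSucc 5), (53, Int.negSucc 4), (54, Int.negSucc 5), (55, Int.negSucc 6)],
  [(1, Int.negSucc 0), (13, Int.negSucc 0), (14, Int.negSucc 0), (20, Int.negSucc 1), (21, Int.negSucc 0), (22, Int.negSucc 1), (23, Int.negSucc 1), (31, Int.negSucc 0), (33, Int.negSucc 1), (34, Int.negSucc 0), (35, Int.negSucc 3), (36, Int.negSucc 0), (37, Int.negSucc 1), (38, Int.negSucc 2), (39, Int.negSucc 3), (40, Int.negSucc 4), (41, Int.negSucc 3), (42, Int.negSucc 3), (43, Int.negSucc 5), (44, Int.negSucc 3), (45, Int.negSucc 5), (46, Int.negSucc 8), (47, Int.negSucc 5), (48, Int.negSucc 4), (49, Int.negSucc 6), (50, Int.negSucc 10), (51, Int.negSucc 7), (52, Int.negSucc 8), (53, Int.negSucc 5), (54, Int.negSucc 6), (55, Int.negSucc 6)],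
  [(2, Int.negSucc 0), (11, Int.negSucc 0), (13, Int.negSucc 0), (19, Int.negSucc 0), (20, Int.negSucc 1), (21, Int.negSucc 1), (22, Int.negSucc 1), (23, Int.negSucc 3), (31, Int.negSucc 0), (33, Int.negSucc 0), (35, Int.negSucc 2), (37, Int.negSucc 1), (38, Int.negSucc 2), (39, Int.negSucc 2), (40, Int.negSucc 4), (41, Int.negSucc 3), (42, Int.negSucc 3), (43, Int.negSucc 5), (44, Int.negSucc 3), (45, Int.negSucc 6), (46, Int.negSucc 7), (47, Int.negSucc 6), (48, Int.negSucc 4), (49, Int.negSucc 6), (50, Int.negSucc 11), (51, Int.negSucc 7), (52, Int.negSucc 7), (53, Int.negSucc 6), (54, Int.negSucc 7), (55, Int.negSucc 6)],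
  [(3, Int.negSucc 0), (14, Int.negSucc 0), (15, Int.negSucc 0), (19, Int.negSucc 0), (20, Int.negSucc 0), (21, Int.negSucc 1), (22, Int.negSucc 1), (23, Int.negSucc 1), (31, Int.negSucc 0), (33, Int.negSucc 0), (35, Int.negSucc 2), (36, Int.negSucc 0), (37, Int.negSucc 0), (38, Int.negSucc 1), (39, Int.negSucc 2), (40, Int.negSucc 4), (41, Int.negSucc 3), (42, Int.negSucc 3), (43, Int.negSucc 5), (44, Int.negSucc 3), (45, Int.negSucc 5), (46, Int.negSucc 7), (47, Int.negSucc 5), (48, Int.negSucc 4), (49, Int.negSucc 6), (50, Int.negSucc 11), (51, Int.negSucc 6), (52, Int.negSucc 6), (53, Int.negSucc 6), (54, Int.negSucc 7), (55, Int.negSucc 6)],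
  [(4, Int.negSucc 0), (13, Int.negSucc 0), (15, Int.negSucc 0), (19, Int.negSucc 0), (20, Int.negSucc 1), (21, Int.negSucc 1), (22, Int.negSucc 0), (23, Int.negSucc 2), (31, Int.negSucc 0), (33, Int.negSucc 1), (34, Int.negSucc 0), (35, Int.negSucc 3), (37, Int.negSucc 1), (38, Int.negSucc 3), (39, Int.negSucc 3), (40, Int.negSucc 4), (41, Int.negSucc 3), (42, Int.negSucc 3), (43, Int.negSucc 5), (44, Int.negSucc 3), (45, Int.negSucc 5), (46, Int.negSucc 7), (47, Int.negSucc 5), (48, Int.negSucc 4), (49, Int.negSucc 6), (50, Int.negSucc 11), (51, Int.negSucc 7), (52, Int.negSucc 8), (53, Int.negSucc 5), (54, Int.negSucc 7), (55, Int.negSucc 7)],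
  [(5, Int.negSucc 0), (11, Int.negSucc 0), (14, Int.negSucc 0), (19, Int.negSucc 0), (20, Int.negSucc 1), (21, Int.negSucc 0), (22, Int.negSucc 1), (23, Int.negSucc 1), (31, Int.negSucc 0), (33, Int.negSucc 0), (34, Int.negSucc 0), (35, Int.negSucc 3), (36, Int.negSucc 0), (37, Int.negSucc 1), (38, Int.negSucc 2), (39, Int.negSucc 3), (40, Int.negSucc 4), (41, Int.negSucc 3), (42, Int.negSucc 3), (43, Int.negSucc 5), (44, Int.negSucc 3), (45, Int.negSucc 6), (46, Int.negSucc 7), (47, Int.negSucc 5), (48, Int.negSucc 4), (49, Int.negSucc 7), (50, Int.negSucc 11), (51, Int.negSucc 7), (52, Int.negSucc 7), (53, Int.negSucc 6), (54, Int.negSucc 7), (55, Int.negSucc 6)],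
  [(6, Int.negSucc 0), (11, Int.negSucc 0), (13, Int.negSucc 0), (14, Int.negSucc 0), (15, Int.negSucc 0), (20, Int.negSucc 2), (21, Int.negSucc 1), (22, Int.negSucc 1), (23, Int.negSucc 2), (31, Int.negSucc 1), (33, Int.negSucc 1), (35, Int.negSucc 4), (36, Int.negSucc 0), (37, Int.negSucc 2), (38, Int.negSucc 2), (39, Int.negSucc 3), (40, Int.negSucc 6), (41, Int.negSucc 4), (42, Int.negSucc 4), (43, Int.negSucc 7), (44, Int.negSucc 4), (45, Int.negSucc 7), (46, Int.negSucc 10), (47, Int.negSucc 7), (48, Int.negSucc 6), (49, Int.negSucc 8), (50, Int.negSucc 15), (51, Int.negSucc 10), (52, Int.negSucc 10), (53, Int.negSucc 7), (54, Int.negSucc 10), (55, Int.negSucc 9)],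
  [(7, Int.negSucc 0), (20, Int.negSucc 0), (21, Int.negSucc 0), (22, Int.negSucc 0), (23, Int.negSucc 1), (33, Int.negSucc 0), (35, Int.negSucc 0), (37, Int.negSucc 0), (38, Int.negSucc 1), (39, Int.negSucc 2), (40, Int.negSucc 1), (41, Int.negSucc 1), (42, Int.negSucc 1), (43, Int.negSucc 2), (44, Int.negSucc 1), (45, Int.negSucc 2), (46, Int.negSucc 3), (47, Int.negSucc 2), (48, Int.negSucc 1), (49, Int.negSucc 2), (50, Int.negSucc 4), (51, Int.negSucc 2), (52, Int.negSucc 3), (53, Int.negSucc 2), (54, Int.negSucc 2), (55, Int.negSucc 2)],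
  [(8, Int.ofNat 1), (26, Int.ofNat 1), (27, Int.ofNat 1), (28, Int.ofNat 1), (29, Int.ofNat 1), (31, Int.ofNat 3), (35, Int.ofNat 1), (38, Int.ofNat 1), (39, Int.ofNat 1), (40, Int.ofNat 2), (41, Int.ofNat 1), (42, Int.ofNat 1), (43, Int.ofNat 1), (44, Int.ofNat 2), (45, Int.ofNat 2), (46, Int.ofNat 2), (47, Int.ofNat 2), (48, Int.ofNat 2), (49, Int.ofNat 4), (50, Int.ofNat 6), (51, Int.ofNat 3), (52, Int.ofNat 3), (53, Int.ofNat 3), (54, Int.ofNat 3), (55, Int.ofNat 3)],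
  [(9, Int.ofNat 1), (26, Int.ofNat 1), (27, Int.ofNat 1), (30, Int.ofNat 1), (31, Int.ofNat 1), (35, Int.ofNat 1), (38, Int.ofNat 1), (39, Int.ofNat 1), (40, Int.ofNat 1), (41, Int.ofNat 1), (42, Int.ofNat 2), (43, Int.ofNat 1), (44, Int.ofNat 1), (45, Int.ofNat 1), (46, Int.ofNat 2), (47, Int.ofNat 2), (48, Int.ofNat 1), (49, Int.ofNat 2), (50, Int.ofNat 4), (51, Int.ofNat 3), (52, Int.ofNat 3), (53, Int.ofNat 3), (54, Int.ofNat 1), (55, Int.ofNat 2)],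
  [(10, Int.ofNat 1), (25, Int.ofNat 1), (27, Int.ofNat 1), (28, Int.ofNat 1), (31, Int.ofNat 2), (38, Int.ofNat 1), (39, Int.ofNat 1), (40, Int.ofNat 2), (41, Int.ofNat 1), (42, Int.ofNat 1), (43, Int.ofNat 1), (44, Int.ofNat 2), (45, Int.ofNat 2), (46, Int.ofNat 2), (47, Int.ofNat 3), (48, Int.ofNat 2), (49, Int.ofNat 4), (50, Int.ofNat 5), (51, Int.ofNat 3), (52, Int.ofNat 3), (53, Int.ofNat 3), (54, Int.ofNat 2), (55, Int.ofNat 4)],
  [(11, Int.ofNat 1), (31, Int.ofNat 1), (40, Int.ofNat 1), (45, Int.ofNat 1), (47, Int.ofNat 1), (48, Int.ofNat 1), (49, Int.ofNat 1), (50, Int.ofNat 2), (51, Int.ofNat 2), (53, Int.ofNat 1), (54, Int.ofNat 2), (55, Int.ofNat 2)],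
  [(12, Int.ofNat 1), (25, Int.ofNat 1), (27, Int.ofNat 1), (29, Int.ofNat 1), (30, Int.ofNat 1), (31, Int.ofNat 3), (35, Int.ofNat 1), (38, Int.ofNat 2), (39, Int.ofNat 1), (40, Int.ofNat 1), (41, Int.ofNat 2), (42, Int.ofNat 1), (43, Int.ofNat 1), (44, Int.ofNat 2), (45, Int.ofNat 2), (46, Int.ofNat 4), (47, Int.ofNat 1), (48, Int.ofNat 2), (49, Int.ofNat 4), (50, Int.ofNat 6), (51, Int.ofNat 2), (52, Int.ofNat 3), (53, Int.ofNat 3), (54, Int.ofNat 4), (55, Int.ofNat 3)],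
  [(13, Int.ofNat 1), (31, Int.ofNat 1), (40, Int.ofNat 1), (46, Int.ofNat 1), (47, Int.ofNat 1), (48, Int.ofNat 1), (50, Int.ofNat 1), (51, Int.ofNat 2), (52, Int.ofNat 1), (54, Int.ofNat 1), (55, Int.ofNat 1)],
  [(14, Int.ofNat 1), (31, Int.ofNat 1), (40, Int.ofNat 1), (43, Int.ofNat 1), (46, Int.ofNat 1), (48, Int.ofNat 1), (49, Int.ofNat 1), (50, Int.ofNat 1), (51, Int.ofNat 1), (54, Int.ofNat 2), (55, Int.ofNat 1)],
  [(15, Int.ofNat 1), (31, Int.ofNat 1), (40, Int.ofNat 1), (48, Int.ofNat 1), (50, Int.ofNat 2), (51, Int.ofNat 2), (54, Int.ofNat 2), (55, Int.ofNat 2)],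
  [(16, Int.ofNat 1), (31, Int.ofNat 1), (41, Int.ofNat 1), (43, Int.ofNat 1), (44, Int.ofNat 1), (45, Int.ofNat 2), (46, Int.ofNat 2), (47, Int.ofNat 1), (49, Int.ofNat 2), (50, Int.ofNat 1), (51, Int.ofNat 1), (53, Int.ofNat 1)],
  [(17, Int.ofNat 1), (41, Int.ofNat 1), (46, Int.ofNat 1), (48, Int.ofNat 1), (49, Int.ofNat 2), (50, Int.ofNat 2), (51, Int.ofNat 1), (52, Int.ofNat 2), (54, Int.ofNat 2)],
  [(18, Int.ofNat 1), (31, Int.ofNat 1), (40, Int.ofNat 1), (41, Int.ofNat 1), (42, Int.ofNat 1), (43, Int.ofNat 2), (45, Int.ofNat 1), (46, Int.ofNat 2), (47, Int.ofNat 1), (48, Int.ofNat 1), (49, Int.ofNat 1), (50, Int.ofNat 3), (51, Int.ofNat 2), (52, Int.ofNat 1), (53, Int.ofNat 1), (54, Int.ofNat 2), (55, Int.ofNat 2)],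
  [(19, Int.ofNat 1), (40, Int.ofNat 1), (41, Int.ofNat 1), (42, Int.ofNat 1), (43, Int.ofNat 1), (44, Int.ofNat 1), (45, Int.ofNat 2), (46, Int.ofNat 1), (47, Int.ofNat 1), (48, Int.ofNat 1), (49, Int.ofNat 2), (50, Int.ofNat 3), (51, Int.ofNat 1), (52, Int.ofNat 1), (53, Int.ofNat 2), (54, Int.ofNat 2), (55, Int.ofNat 1)],
  [(20, Int.ofNat 1), (43, Int.ofNat 1), (45, Int.ofNat 1), (49, Int.ofNat 1), (52, Int.ofNat 1)],
  [(21, Int.ofNat 1), (40, Int.ofNat 1), (41, Int.ofNat 1), (42, Int.ofNat 1), (43, Int.ofNat 2), (44, Int.ofNat 1), (45, Int.ofNat 1), (46, Int.ofNat 2), (47, Int.ofNat 2), (48, Int.ofNat 1), (49, Int.ofNat 2), (50, Int.ofNat 3), (51, Int.ofNat 1), (52, Int.ofNat 2), (53, Int.ofNat 2), (54, Int.ofNat 2), (55, Int.ofNat 2)],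
  [(22, Int.ofNat 1), (40, Int.ofNat 1), (41, Int.ofNat 1), (42, Int.ofNat 1), (43, Int.ofNat 1), (44, Int.ofNat 1), (45, Int.ofNat 2), (46, Int.ofNat 2), (47, Int.ofNat 2), (48, Int.ofNat 1), (49, Int.ofNat 1), (50, Int.ofNat 2), (51, Int.ofNat 2), (52, Int.ofNat 1), (53, Int.ofNat 2), (54, Int.ofNat 1), (55, Int.ofNat 1)],
  [(23, Int.ofNat 1)],
  [(24, Int.negSucc 0)],
  [(25, Int.negSucc 0), (38, Int.negSucc 0), (39, Int.negSucc 0)],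
  [(26, Int.negSucc 0), (35, Int.negSucc 0), (39, Int.negSucc 0)],
  [(27, Int.negSucc 0), (38, Int.negSucc 0), (39, Int.negSucc 0)],
  [(28, Int.negSucc 0)],
  [(29, Int.negSucc 0), (35, Int.negSucc 0), (38, Int.negSucc 0)],
  [(30, Int.negSucc 0), (35, Int.negSucc 0), (38, Int.negSucc 0)],
  [(31, Int.negSucc 0)],
  [(32, Int.ofNat 1), (40, Int.ofNat 1), (41, Int.ofNat 1), (42, Int.ofNat 1), (43, Int.ofNat 1), (44, Int.ofNat 1), (45, Int.ofNat 2), (46, Int.ofNat 1), (47, Int.ofNat 1), (49, Int.ofNat 2), (50, Int.ofNat 3), (51, Int.ofNat 2), (52, Int.ofNat 1), (53, Int.ofNat 2), (54, Int.ofNat 1), (55, Int.ofNat 1)],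
  [(33, Int.ofNat 1), (40, Int.ofNat 1), (41, Int.ofNat 1), (42, Int.ofNat 1), (43, Int.ofNat 1), (44, Int.ofNat 1), (45, Int.ofNat 1), (46, Int.ofNat 2), (47, Int.ofNat 1), (48, Int.ofNat 1), (49, Int.ofNat 1), (50, Int.ofNat 2), (51, Int.ofNat 1), (52, Int.ofNat 2), (53, Int.ofNat 1), (54, Int.ofNat 1), (55, Int.ofNat 2)],
  [(34, Int.ofNat 1), (49, Int.ofNat 1), (51, Int.ofNat 1), (52, Int.ofNat 1), (55, Int.ofNat 1)],
  [(35, Int.ofNat 1)],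
  [(36, Int.ofNat 1), (40, Int.ofNat 1), (41, Int.ofNat 1), (42, Int.ofNat 1), (43, Int.ofNat 1), (44, Int.ofNat 1), (45, Int.ofNat 1), (46, Int.ofNat 2), (47, Int.ofNat 1), (48, Int.ofNat 1), (49, Int.ofNat 2), (50, Int.ofNat 3), (51, Int.ofNat 1), (52, Int.ofNat 2), (53, Int.ofNat 2), (54, Int.ofNat 1), (55, Int.ofNat 1)],
  [(37, Int.ofNat 1), (40, Int.ofNat 1), (41, Int.ofNat 1), (42, Int.ofNat 1), (43, Int.ofNat 1), (44, Int.ofNat 1), (45, Int.ofNat 1), (46, Int.ofNat 2), (47, Int.ofNat 1), (48, Int.ofNat 1), (49, Int.ofNat 1), (50, Int.ofNat 3), (51, Int.ofNat 2), (52, Int.ofNat 2), (53, Int.ofNat 1), (54, Int.ofNat 2), (55, Int.ofNat 1)],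
  [(38, Int.ofNat 1)],
  [(39, Int.ofNat 1)],
  [(40, Int.negSucc 0)],
  [(41, Int.negSucc 0)],
  [(42, Int.negSucc 0)],
  [(43, Int.negSucc 0)],
  [(44, Int.negSucc 0)],
  [(45, Int.negSucc 0)],
  [(46, Int.negSucc 0)],
  [(47, Int.negSucc 0)],
  [(48, Int.negSucc 0)],
  [(49, Int.negSucc 0)],
  [(50, Int.negSucc 0)],
  [(51, Int.negSucc 0)],
  [(52, Int.negSucc 0)],
  [(53, Int.negSucc 0)],
  [(54, Int.negSucc 0)],
  [(55, Int.negSucc 0)]]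

def certT : List (List (ℕ × ℤ)) := [
  [(3, Int.negSucc 0), (7, Int.negSucc 0), (14, Int.negSucc 0), (15, Int.negSucc 0), (19, Int.negSucc 0), (20, Int.negSucc 1), (21, Int.negSucc 1), (22, Int.negSucc 1), (23, Int.negSucc 2), (25, Int.negSucc 0), (26, Int.negSucc 0), (31, Int.negSucc 1), (33, Int.negSucc 1), (35, Int.negSucc 3), (36, Int.negSucc 0), (37, Int.negSucc 0), (38, Int.negSucc 3), (39, Int.negSucc 4), (40, Int.negSucc 6), (41, Int.negSucc 5), (42, Int.negSucc 6), (43, Int.negSucc 9), (44, Int.negSucc 5), (45, Int.negSucc 8), (46, Int.negSucc 12), (47, Int.negSucc 9), (48, Int.negSucc 6), (49, Int.negSucc 10), (50, Int.negSucc 16), (51, Int.negSucc 10), (52, Int.negSucc 11), (53, Int.negSucc 10), (54, Int.negSucc 10), (55, Int.negSucc 10)],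
  [(5, Int.negSucc 0), (6, Int.negSucc 0), (7, Int.negSucc 0), (11, Int.negSucc 0), (12, Int.negSucc 0), (13, Int.negSucc 0), (14, Int.negSucc 1), (15, Int.negSucc 0), (17, Int.negSucc 0), (18, Int.negSucc 0), (19, Int.negSucc 1), (20, Int.negSucc 4), (21, Int.negSucc 3), (22, Int.negSucc 4), (23, Int.negSucc 6), (25, Int.negSucc 0), (26, Int.negSucc 0), (27, Int.negSucc 0), (28, Int.negSucc 0), (29, Int.negSucc 0), (30, Int.negSucc 0), (31, Int.negSucc 6), (32, Int.negSucc 0), (33, Int.negSucc 4), (34, Int.negSucc 1), (35, Int.negSucc 11), (36, Int.negSucc 2), (37, Int.negSucc 4), (38, Int.negSucc 11), (39, Int.negSucc 12), (40, Int.negSucc 18), (41, Int.negSucc 16), (42, Int.negSucc 16), (43, Int.negSucc 23), (44, Int.negSucc 16), (45, Int.negSucc 24), (46, Int.negSucc 34), (47, Int.negSucc 23), (48, Int.negSucc 18), (49, Int.negSucc 30), (50, Int.negSucc 50), (51, Int.negSucc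 30), (52, Int.negSucc 32), (53, Int.negSucc 26), (54, Int.negSucc 30), (55, Int.negSucc 28)],
  [(3, Int.negSucc 0), (5, Int.negSucc 0), (7, Int.negSucc 0), (11, Int.negSucc 0), (12, Int.negSucc 0), (13, Int.negSucc 0), (14, Int.negSucc 1), (15, Int.negSucc 1), (17, Int.negSucc 0), (18, Int.negSucc 0), (19, Int.negSucc 1), (20, Int.negSucc 4), (21, Int.negSucc 4), (22, Int.negSucc 5), (23, Int.negSucc 6), (25, Int.negSucc 0), (26, Int.negSucc 0), (29, Int.negSucc 0), (30, Int.negSucc 1), (31, Int.negSucc 5), (32, Int.negSucc 0), (33, Int.negSucc 4), (34, Int.negSucc 1), (35, Int.negSucc 12), (36, Int.negSucc 2), (37, Int.negSucc 4), (38, Int.negSucc 11), (39, Int.negSucc 13), (40, Int.negSucc 19), (41, Int.negSucc 16), (42, Int.negSucc 17), (43, Int.negSucc 24), (44, Int.negSucc 16), (45, Int.negSucc 24), (46, Int.negSucc 35), (47, Int.negSucc 24), (48, Int.negSucc 20), (49,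 Int.negSucc 30), (50, Int.negSucc 51), (51, Int.negSucc 33), (52, Int.negSucc 33), (53, Int.negSucc 28), (54, Int.negSucc 32), (55, Int.negSucc 30)],
  [(6, Int.negSucc 0), (7, Int.negSucc 0), (11, Int.negSucc 0), (13, Int.negSucc 0), (14, Int.negSucc 0), (17, Int.negSucc 0), (18, Int.negSucc 0), (19, Int.negSucc 0), (20, Int.negSucc 2), (21, Int.negSucc 1), (22, Int.negSucc 2), (23, Int.negSucc 3), (28, Int.negSucc 0), (31, Int.negSucc 2), (33, Int.negSucc 2), (34, Int.negSucc 0), (35, Int.negSucc 5), (36, Int.negSucc 0), (37, Int.negSucc 2), (38, Int.negSucc 5), (39, Int.negSucc 6), (40, Int.negSucc 9), (41, Int.negSucc 8), (42, Int.negSucc 7), (43, Int.negSucc 12), (44, Int.negSucc 8), (45, Int.negSucc 13), (46, Int.negSucc 17), (47, Int.negSucc 13), (48, Int.negSucc 9), (49, Int.negSucc 15), (50, Int.negSucc 25), (51, Int.negSucc 15), (52, Int.negSucc 16), (53, Int.negSucc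 12), (54, Int.negSucc 15), (55, Int.negSucc 14)],
  [(5, Int.negSucc 0), (7, Int.negSucc 0), (11, Int.negSucc 0), (12, Int.negSucc 0), (13, Int.negSucc 0), (14, Int.negSucc 0), (15, Int.negSucc 0), (17, Int.negSucc 0), (19, Int.negSucc 0), (20, Int.negSucc 3), (21, Int.negSucc 2), (22, Int.negSucc 3), (23, Int.negSucc 4), (25, Int.negSucc 0), (26, Int.negSucc 0), (29, Int.negSucc 0), (30, Int.negSucc 1), (31, Int.negSucc 4), (32, Int.negSucc 0), (33, Int.negSucc 3), (34, Int.negSucc 1), (35, Int.negSucc 9), (36, Int.negSucc 1), (37, Int.negSucc 3), (38, Int.negSucc 8), (39, Int.negSucc 10), (40, Int.negSucc 13), (41, Int.negSucc 13), (42, Int.negSucc 12), (43, Int.negSucc 17), (44, Int.negSucc 12), (45, Int.negSucc 18), (46, Int.negSucc 26), (47, Int.negSucc 17), (48, Int.negSucc 14), (49, Int.negSucc 23), (50, Int.negSucc 38), (51, Int.negSucc 24), (52, Int.negSucc 25),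 (53, Int.negSucc 20), (54, Int.negSucc 23), (55, Int.negSucc 21)],
  [(3, Int.negSucc 0), (6, Int.negSucc 0), (7, Int.negSucc 0), (11, Int.negSucc 0), (12, Int.negSucc 0), (13, Int.negSucc 0), (14, Int.negSucc 1), (15, Int.negSucc 0), (18, Int.negSucc 0), (19, Int.negSucc 0), (20, Int.negSucc 3), (21, Int.negSucc 3), (22, Int.negSucc 4), (23, Int.negSucc 5), (25, Int.negSucc 0), (26, Int.negSucc 0), (27, Int.negSucc 0), (28, Int.negSucc 0), (29, Int.negSucc 0), (30, Int.negSucc 0), (31, Int.negSucc 6), (32, Int.negSucc 0), (33, Int.negSucc 3), (34, Int.negSucc 0), (35, Int.negSucc 9), (36, Int.negSucc 2), (37, Int.negSucc 3), (38, Int.negSucc 9), (39, Int.negSucc 10), (40, Int.negSucc 16), (41, Int.negSucc 14), (42, Int.negSucc 15), (43, Int.negSucc 21), (44, Int.negSucc 14), (45, Int.negSucc 21), (46, Int.negSucc 31), (47, Int.negSucc 22), (48, Int.negSucc 16), (49, Int.negSucc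 26), (50, Int.negSucc 44), (51, Int.negSucc 27), (52, Int.negSucc 28), (53, Int.negSucc 24), (54, Int.negSucc 26), (55, Int.negSucc 25)],
  [(3, Int.negSucc 0), (5, Int.negSucc 0), (6, Int.negSucc 0), (7, Int.negSucc 1), (11, Int.negSucc 0), (12, Int.negSucc 0), (13, Int.negSucc 0), (14, Int.negSucc 1), (15, Int.negSucc 1), (19, Int.negSucc 0), (20, Int.negSucc 5), (21, Int.negSucc 4), (22, Int.negSucc 5), (23, Int.negSucc 7), (25, Int.negSucc 0), (26, Int.negSucc 0), (27, Int.negSucc 0), (28, Int.negSucc 0), (29, Int.negSucc 0), (30, Int.negSucc 1), (31, Int.negSucc 6), (32, Int.negSucc 0), (33, Int.negSucc 4), (34, Int.negSucc 1), (35, Int.negSucc 12), (36, Int.negSucc 2), (37, Int.negSucc 5), (38, Int.negSucc 11), (39, Int.negSucc 14), (40, Int.negSucc 19), (41, Int.negSucc 17), (42, Int.negSucc 18), (43, Int.negSucc 25), (44, Int.negSucc 18), (45, Int.negSucc 26), (46,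 Int.negSucc 37), (47, Int.negSucc 26), (48, Int.negSucc 20), (49, Int.negSucc 32), (50, Int.negSucc 54), (51, Int.negSucc 34), (52, Int.negSucc 35), (53, Int.negSucc 29), (54, Int.negSucc 32), (55, Int.negSucc 31)],
  [(12, Int.negSucc 0), (13, Int.negSucc 0), (14, Int.negSucc 0), (15, Int.negSucc 0), (20, Int.negSucc 1), (21, Int.negSucc 1), (22, Int.negSucc 1), (23, Int.negSucc 1), (25, Int.negSucc 0), (29, Int.negSucc 0), (30, Int.negSucc 0), (31, Int.negSucc 3), (33, Int.negSucc 1), (34, Int.negSucc 0), (35, Int.negSucc 5), (36, Int.negSucc 0), (37, Int.negSucc 2), (38, Int.negSucc 4), (39, Int.negSucc 5), (40, Int.negSucc 7), (41, Int.negSucc 6), (42, Int.negSucc 6), (43, Int.negSucc 9), (44, Int.negSucc 5), (45, Int.negSucc 8), (46, Int.negSucc 14), (47, Int.negSucc 8), (48, Int.negSucc 7), (49, Int.negSucc 10), (50, Int.negSucc 19), (51, Int.negSucc 12), (52, Int.negSucc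 13), (53, Int.negSucc 9), (54, Int.negSucc 12), (55, Int.negSucc 10)],
  [(0, Int.ofNat 1), (3, Int.negSucc 0), (5, Int.negSucc 0), (7, Int.negSucc 0), (12, Int.negSucc 0), (13, Int.negSucc 0), (14, Int.negSucc 1), (15, Int.negSucc 0), (18, Int.negSucc 0), (19, Int.negSucc 1), (20, Int.negSucc 3), (21, Int.negSucc 3), (22, Int.negSucc 3), (23, Int.negSucc 5), (25, Int.negSucc 0), (26, Int.negSucc 0), (29, Int.negSucc 0), (30, Int.negSucc 1), (31, Int.negSucc 4), (32, Int.negSucc 0), (33, Int.negSucc 2), (34, Int.negSucc 0), (35, Int.negSucc 9), (36, Int.negSucc 2), (37, Int.negSucc 3), (38, Int.negSucc 8), (39, Int.negSucc 9), (40, Int.negSucc 15), (41, Int.negSucc 13), (42, Int.negSucc 14), (43, Int.negSucc 20), (44, Int.negSucc 13), (45, Int.negSucc 20), (46, Int.negSucc 29), (47, Int.negSucc 19), (48, Int.negSucc 15), (49, Int.negSucc 24), (50, Int.negSucc 41), (51, Int.negSucc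 25), (52, Int.negSucc 26), (53, Int.negSucc 23), (54, Int.negSucc 25), (55, Int.negSucc 22)],
  [(1, Int.ofNat 1), (3, Int.negSucc 0), (5, Int.negSucc 0), (6, Int.negSucc 0), (7, Int.negSucc 0), (11, Int.negSucc 0), (12, Int.negSucc 0), (13, Int.negSucc 0), (14, Int.negSucc 1), (15, Int.negSucc 0), (18, Int.negSucc 0), (19, Int.negSucc 1), (20, Int.negSucc 3), (21, Int.negSucc 3), (22, Int.negSucc 4), (23, Int.negSucc 5), (25, Int.negSucc 0), (26, Int.negSucc 0), (27, Int.negSucc 0), (28, Int.negSucc 0), (30, Int.negSucc 1), (31, Int.negSucc 6), (33, Int.negSucc 2), (34, Int.negSucc 0), (35, Int.negSucc 9), (36, Int.negSucc 1), (37, Int.negSucc 3), (38, Int.negSucc 8), (39, Int.negSucc 10), (40, Int.negSucc 15), (41, Int.negSucc 13), (42, Int.negSucc 14), (43, Int.negSucc 20), (44, Int.negSucc 14), (45, Int.negSucc 21), (46, Int.negSucc 29), (47, Int.negSucc 21), (48, Int.negSucc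 16), (49, Int.negSucc 25), (50, Int.negSucc 42), (51, Int.negSucc 26), (52, Int.negSucc 26), (53, Int.negSucc 23), (54, Int.negSucc 25), (55, Int.negSucc 24)],
  [(2, Int.ofNat 1), (3, Int.negSucc 0), (6, Int.negSucc 0), (7, Int.negSucc 0), (14, Int.negSucc 0), (15, Int.negSucc 1), (17, Int.negSucc 0), (19, Int.negSucc 0), (20, Int.negSucc 2), (21, Int.negSucc 1), (22, Int.negSucc 1), (23, Int.negSucc 2), (28, Int.negSucc 0), (30, Int.negSucc 0), (31, Int.negSucc 2), (32, Int.negSucc 0), (33, Int.negSucc 2), (34, Int.negSucc 0), (35, Int.negSucc 5), (36, Int.negSucc 1), (37, Int.negSucc 2), (38, Int.negSucc 4), (39, Int.negSucc 6), (40, Int.negSucc 9), (41, Int.negSucc 9), (42, Int.negSucc 9), (43, Int.negSucc 13), (44, Int.negSucc 8), (45, Int.negSucc 13), (46, Int.negSucc 17), (47, Int.negSucc 12), (48, Int.negSucc 9), (49, Int.negSucc 16), (50, Int.negSucc 27), (51, Int.negSucc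 16), (52, Int.negSucc 18), (53, Int.negSucc 13), (54, Int.negSucc 16), (55, Int.negSucc 14)],
  [(3, Int.ofNat 2), (7, Int.ofNat 1), (12, Int.negSucc 0), (13, Int.negSucc 0), (15, Int.ofNat 1), (19, Int.ofNat 1), (21, Int.ofNat 1), (22, Int.ofNat 1), (23, Int.ofNat 1), (26, Int.ofNat 1), (27, Int.negSucc 0), (29, Int.negSucc 0), (30, Int.ofNat 1), (31, Int.negSucc 0), (32, Int.negSucc 0), (34, Int.negSucc 0), (35, Int.ofNat 1), (37, Int.negSucc 0), (40, Int.ofNat 1), (41, Int.ofNat 1), (42, Int.ofNat 2), (43, Int.ofNat 2), (44, Int.ofNat 2), (45, Int.ofNat 2), (46, Int.ofNat 3), (47, Int.ofNat 3), (48, Int.ofNat 3), (49, Int.ofNat 2), (50, Int.ofNat 3), (51, Int.ofNat 3), (52, Int.ofNat 2), (53, Int.ofNat 4), (54, Int.ofNat 2), (55, Int.ofNat 3)],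
  [(4, Int.ofNat 1), (5, Int.negSucc 0), (6, Int.negSucc 0), (7, Int.negSucc 0), (11, Int.negSucc 0), (12, Int.negSucc 0), (13, Int.negSucc 0), (14, Int.negSucc 1), (17, Int.negSucc 0), (19, Int.negSucc 0), (20, Int.negSucc 3), (21, Int.negSucc 2), (22, Int.negSucc 3), (23, Int.negSucc 4), (26, Int.negSucc 0), (27, Int.negSucc 0), (28, Int.negSucc 0), (29, Int.negSucc 0), (30, Int.negSucc 0), (31, Int.negSucc 4), (33, Int.negSucc 2), (34, Int.negSucc 0), (35, Int.negSucc 8), (36, Int.negSucc 1), (37, Int.negSucc 3), (38, Int.negSucc 7), (39, Int.negSucc 8), (40, Int.negSucc 12), (41, Int.negSucc 11), (42, Int.negSucc 11), (43, Int.negSucc 16), (44, Int.negSucc 11), (45, Int.negSucc 17), (46, Int.negSucc 25), (47, Int.negSucc 16), (48, Int.negSucc 13), (49, Int.negSucc 21), (50, Int.negSucc 35), (51, Int.negSucc 21), (52, Int.negSucc 23), (53, Int.negSucc 18), (54, Int.negSucc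 22), (55, Int.negSucc 18)],
  [(5, Int.ofNat 2), (7, Int.ofNat 1), (11, Int.ofNat 1), (12, Int.negSucc 0), (13, Int.negSucc 0), (19, Int.ofNat 1), (20, Int.ofNat 1), (22, Int.ofNat 1), (23, Int.ofNat 1), (25, Int.negSucc 0), (26, Int.ofNat 1), (27, Int.negSucc 0), (29, Int.negSucc 0), (30, Int.ofNat 1), (31, Int.negSucc 0), (32, Int.negSucc 0), (35, Int.ofNat 2), (37, Int.ofNat 1), (39, Int.ofNat 1), (40, Int.ofNat 2), (41, Int.ofNat 2), (42, Int.ofNat 2), (43, Int.ofNat 3), (44, Int.ofNat 2), (45, Int.ofNat 4), (46, Int.ofNat 4), (47, Int.ofNat 3), (48, Int.ofNat 3), (49, Int.ofNat 3), (50, Int.ofNat 6), (51, Int.ofNat 5), (52, Int.ofNat 3), (53, Int.ofNat 3), (54, Int.ofNat 4), (55, Int.ofNat 3)],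
  [(6, Int.ofNat 2), (7, Int.ofNat 1), (11, Int.ofNat 1), (12, Int.negSucc 0), (15, Int.ofNat 1), (20, Int.ofNat 2), (21, Int.ofNat 1), (22, Int.ofNat 1), (23, Int.ofNat 2), (25, Int.negSucc 0), (27, Int.negSucc 0), (28, Int.ofNat 1), (29, Int.negSucc 0), (30, Int.ofNat 1), (31, Int.ofNat 1), (32, Int.negSucc 0), (33, Int.ofNat 1), (34, Int.negSucc 0), (35, Int.ofNat 2), (37, Int.ofNat 2), (39, Int.ofNat 1), (40, Int.ofNat 4), (41, Int.ofNat 3), (42, Int.ofNat 4), (43, Int.ofNat 6), (44, Int.ofNat 4), (45, Int.ofNat 6), (46, Int.ofNat 6), (47, Int.ofNat 7), (48, Int.ofNat 4), (49, Int.ofNat 4), (50, Int.ofNat 11), (51, Int.ofNat 7), (52, Int.ofNat 6), (53, Int.ofNat 4), (54, Int.ofNat 5), (55, Int.ofNat 5)],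
  [(7, Int.ofNat 1), (12, Int.negSucc 0), (13, Int.negSucc 0), (14, Int.negSucc 0), (20, Int.negSucc 0), (21, Int.negSucc 0), (22, Int.negSucc 0), (23, Int.negSucc 0), (25, Int.negSucc 0), (27, Int.negSucc 0), (29, Int.negSucc 0), (31, Int.negSucc 2), (32, Int.negSucc 0), (33, Int.negSucc 0), (34, Int.negSucc 0), (35, Int.negSucc 2), (36, Int.negSucc 0), (37, Int.negSucc 0), (38, Int.negSucc 2), (39, Int.negSucc 2), (40, Int.negSucc 4), (41, Int.negSucc 2), (42, Int.negSucc 3), (43, Int.negSucc 4), (44, Int.negSucc 2), (45, Int.negSucc 3), (46, Int.negSucc 7), (47, Int.negSucc 4), (48, Int.negSucc 3), (49, Int.negSucc 6), (50, Int.negSucc 10), (51, Int.negSucc 6), (52, Int.negSucc 7), (53, Int.negSucc 5), (54, Int.negSucc 6), (55, Int.negSucc 6)],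
  [(8, Int.ofNat 1), (15, Int.ofNat 1), (20, Int.ofNat 1), (21, Int.ofNat 1), (22, Int.ofNat 1), (23, Int.ofNat 1), (27, Int.ofNat 1), (31, Int.ofNat 1), (35, Int.ofNat 1), (38, Int.ofNat 1), (39, Int.ofNat 1), (40, Int.ofNat 2), (42, Int.ofNat 1), (43, Int.ofNat 1), (44, Int.ofNat 2), (45, Int.ofNat 2), (46, Int.ofNat 2), (47, Int.ofNat 3), (48, Int.ofNat 2), (49, Int.ofNat 3), (50, Int.ofNat 5), (51, Int.ofNat 3), (52, Int.ofNat 2), (53, Int.ofNat 3), (54, Int.ofNat 3), (55, Int.ofNat 4)],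
  [(9, Int.ofNat 1), (12, Int.negSucc 0), (25, Int.negSucc 0), (29, Int.negSucc 0), (31, Int.negSucc 1), (38, Int.negSucc 0), (40, Int.negSucc 0), (41, Int.negSucc 1), (42, Int.negSucc 0), (43, Int.negSucc 1), (44, Int.negSucc 1), (45, Int.negSucc 1), (46, Int.negSucc 3), (47, Int.negSucc 0), (48, Int.negSucc 0), (49, Int.negSucc 2), (50, Int.negSucc 3), (51, Int.negSucc 0), (52, Int.negSucc 1), (53, Int.negSucc 1), (54, Int.negSucc 2), (55, Int.negSucc 1)],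
  [(10, Int.ofNat 1), (32, Int.negSucc 0), (33, Int.negSucc 0), (34, Int.negSucc 0), (35, Int.negSucc 0), (38, Int.negSucc 0), (39, Int.negSucc 0), (40, Int.negSucc 0), (41, Int.negSucc 0), (42, Int.negSucc 1), (43, Int.negSucc 1), (45, Int.negSucc 0), (46, Int.negSucc 1), (47, Int.negSucc 0), (49, Int.negSucc 0), (50, Int.negSucc 1), (51, Int.negSucc 1), (52, Int.negSucc 1), (53, Int.negSucc 0), (54, Int.negSucc 0), (55, Int.negSucc 0)],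
  [(11, Int.ofNat 1), (15, Int.negSucc 0), (27, Int.negSucc 0), (30, Int.negSucc 0), (31, Int.negSucc 0), (32, Int.negSucc 0), (33, Int.negSucc 0), (34, Int.negSucc 0), (35, Int.negSucc 0), (36, Int.negSucc 0), (37, Int.negSucc 0), (38, Int.negSucc 1), (39, Int.negSucc 1), (40, Int.negSucc 2), (41, Int.negSucc 2), (42, Int.negSucc 2), (43, Int.negSucc 2), (44, Int.negSucc 1), (45, Int.negSucc 2), (46, Int.negSucc 4), (47, Int.negSucc 1), (48, Int.negSucc 1), (49, Int.negSucc 3), (50, Int.negSucc 7), (51, Int.negSucc 4), (52, Int.negSucc 4), (53, Int.negSucc 2), (54, Int.negSucc 3), (55, Int.negSucc 3)],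
  [(12, Int.ofNat 2), (13, Int.ofNat 1), (14, Int.ofNat 1), (20, Int.ofNat 2), (21, Int.ofNat 2), (22, Int.ofNat 2), (23, Int.ofNat 2), (25, Int.ofNat 1), (29, Int.ofNat 1), (31, Int.ofNat 3), (33, Int.ofNat 1), (34, Int.ofNat 1), (35, Int.ofNat 4), (36, Int.ofNat 1), (37, Int.ofNat 1), (38, Int.ofNat 4), (39, Int.ofNat 4), (40, Int.ofNat 5), (41, Int.ofNat 4), (42, Int.ofNat 4), (43, Int.ofNat 6), (44, Int.ofNat 4), (45, Int.ofNat 6), (46, Int.ofNat 10), (47, Int.ofNat 6), (48, Int.ofNat 6), (49, Int.ofNat 9), (50, Int.ofNat 13), (51, Int.ofNat 8), (52, Int.ofNat 10), (53, Int.ofNat 8), (54, Int.ofNat 9), (55, Int.ofNat 8)],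
  [(13, Int.ofNat 1), (15, Int.negSucc 0), (27, Int.negSucc 0), (31, Int.negSucc 0), (32, Int.negSucc 0), (33, Int.negSucc 0), (34, Int.negSucc 0), (35, Int.negSucc 0), (36, Int.negSucc 0), (38, Int.negSucc 1), (39, Int.negSucc 1), (40, Int.negSucc 1), (41, Int.negSucc 1), (42, Int.negSucc 1), (43, Int.negSucc 1), (44, Int.negSucc 1), (45, Int.negSucc 2), (46, Int.negSucc 2), (47, Int.negSucc 1), (48, Int.negSucc 0), (49, Int.negSucc 3), (50, Int.negSucc 5), (51, Int.negSucc 2), (52, Int.negSucc 2), (53, Int.negSucc 2), (54, Int.negSucc 2), (55, Int.negSucc 3)],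
  [(14, Int.ofNat 1), (15, Int.negSucc 0), (30, Int.negSucc 0), (31, Int.negSucc 0), (32, Int.negSucc 0), (33, Int.negSucc 0), (34, Int.negSucc 0), (35, Int.negSucc 0), (36, Int.negSucc 0), (37, Int.negSucc 0), (38, Int.negSucc 1), (39, Int.negSucc 1), (40, Int.negSucc 2), (41, Int.negSucc 1), (42, Int.negSucc 1), (43, Int.negSucc 1), (44, Int.negSucc 1), (45, Int.negSucc 2), (46, Int.negSucc 2), (47, Int.negSucc 1), (48, Int.negSucc 1), (49, Int.negSucc 2), (50, Int.negSucc 6), (51, Int.negSucc 4), (52, Int.negSucc 3), (53, Int.negSucc 2), (54, Int.negSucc 2), (55, Int.negSucc 3)],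
  [(15, Int.ofNat 2), (20, Int.ofNat 1), (21, Int.ofNat 1), (22, Int.ofNat 1), (23, Int.ofNat 1), (31, Int.ofNat 1), (33, Int.ofNat 1), (35, Int.ofNat 2), (37, Int.ofNat 1), (38, Int.ofNat 1), (39, Int.ofNat 2), (40, Int.ofNat 3), (41, Int.ofNat 2), (42, Int.ofNat 2), (43, Int.ofNat 3), (44, Int.ofNat 2), (45, Int.ofNat 3), (46, Int.ofNat 4), (47, Int.ofNat 3), (48, Int.ofNat 3), (49, Int.ofNat 3), (50, Int.ofNat 7), (51, Int.ofNat 5), (52, Int.ofNat 4), (53, Int.ofNat 3), (54, Int.ofNat 5), (55, Int.ofNat 5)],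
  [(16, Int.ofNat 1), (17, Int.negSucc 0), (18, Int.negSucc 0), (19, Int.negSucc 0), (20, Int.negSucc 0), (22, Int.negSucc 0), (23, Int.negSucc 1), (32, Int.negSucc 0), (33, Int.negSucc 1), (34, Int.negSucc 0), (35, Int.negSucc 2), (36, Int.negSucc 0), (37, Int.negSucc 0), (38, Int.negSucc 2), (39, Int.negSucc 2), (40, Int.negSucc 3), (41, Int.negSucc 4), (42, Int.negSucc 4), (43, Int.negSucc 5), (44, Int.negSucc 2), (45, Int.negSucc 5), (46, Int.negSucc 7), (47, Int.negSucc 4), (48, Int.negSucc 3), (49, Int.negSucc 6), (50, Int.negSucc 11), (51, Int.negSucc 6), (52, Int.negSucc 8), (53, Int.negSucc 5), (54, Int.negSucc 6), (55, Int.negSucc 5)],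
  [(17, Int.ofNat 2), (19, Int.ofNat 1), (20, Int.ofNat 1), (30, Int.negSucc 0), (31, Int.negSucc 0), (32, Int.negSucc 0), (35, Int.ofNat 1), (36, Int.negSucc 0), (37, Int.ofNat 1), (39, Int.ofNat 1), (40, Int.negSucc 0), (44, Int.negSucc 0), (45, Int.negSucc 0), (47, Int.negSucc 0), (48, Int.ofNat 1), (49, Int.ofNat 1), (52, Int.ofNat 2), (53, Int.negSucc 0), (54, Int.ofNat 2), (55, Int.negSucc 0)],
  [(18, Int.ofNat 2), (19, Int.ofNat 1), (22, Int.ofNat 1), (23, Int.ofNat 1), (27, Int.negSucc 0), (32, Int.negSucc 0), (34, Int.negSucc 0), (35, Int.ofNat 1), (40, Int.ofNat 1), (41, Int.ofNat 1), (42, Int.ofNat 2), (43, Int.ofNat 2), (45, Int.ofNat 1), (46, Int.ofNat 3), (47, Int.ofNat 2), (48, Int.ofNat 2), (50, Int.ofNat 3), (51, Int.ofNat 2), (52, Int.ofNat 1), (53, Int.ofNat 2), (54, Int.ofNat 2), (55, Int.ofNat 1)],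
  [(19, Int.ofNat 1), (30, Int.negSucc 0), (31, Int.negSucc 0), (41, Int.negSucc 0), (42, Int.negSucc 0), (43, Int.negSucc 0), (46, Int.negSucc 1), (47, Int.negSucc 0), (50, Int.negSucc 0), (51, Int.negSucc 0), (52, Int.negSucc 0)],
  [(20, Int.ofNat 1), (32, Int.negSucc 0), (33, Int.negSucc 0), (34, Int.negSucc 0), (36, Int.negSucc 0), (38, Int.negSucc 0), (39, Int.negSucc 0), (40, Int.negSucc 1), (41, Int.negSucc 1), (42, Int.negSucc 1), (43, Int.negSucc 1), (44, Int.negSucc 1), (45, Int.negSucc 1), (46, Int.negSucc 2), (47, Int.negSucc 1), (48, Int.negSucc 0), (49, Int.negSucc 2), (50, Int.negSucc 4), (51, Int.negSucc 2), (52, Int.negSucc 2), (53, Int.negSucc 2), (54, Int.negSucc 1), (55, Int.negSucc 2)],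
  [(21, Int.ofNat 1), (27, Int.negSucc 0), (30, Int.negSucc 0), (31, Int.negSucc 0), (38, Int.negSucc 0), (42, Int.negSucc 0), (46, Int.negSucc 0), (50, Int.negSucc 0), (51, Int.negSucc 0)],
  [(22, Int.ofNat 1), (27, Int.negSucc 0), (30, Int.negSucc 0), (31, Int.negSucc 0), (32, Int.negSucc 0), (33, Int.negSucc 0), (34, Int.negSucc 0), (35, Int.negSucc 0), (36, Int.negSucc 0), (38, Int.negSucc 1), (39, Int.negSucc 0), (40, Int.negSucc 1), (41, Int.negSucc 0), (42, Int.negSucc 1), (43, Int.negSucc 1), (44, Int.negSucc 0), (45, Int.negSucc 0), (46, Int.negSucc 1), (47, Int.negSucc 0), (48, Int.negSucc 0), (49, Int.negSucc 2), (50, Int.negSucc 4), (51, Int.negSucc 2), (52, Int.negSucc 2), (53, Int.negSucc 1), (54, Int.negSucc 1), (55, Int.negSucc 2)],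
  [(23, Int.ofNat 1)],
  [(24, Int.ofNat 1), (27, Int.ofNat 1), (30, Int.ofNat 1), (31, Int.ofNat 1), (32, Int.negSucc 0), (33, Int.negSucc 0), (34, Int.negSucc 0), (36, Int.negSucc 0), (37, Int.negSucc 0), (39, Int.negSucc 0), (40, Int.negSucc 0), (41, Int.negSucc 1), (42, Int.negSucc 1), (43, Int.negSucc 1), (44, Int.negSucc 0), (45, Int.negSucc 1), (46, Int.negSucc 2), (47, Int.negSucc 0), (48, Int.negSucc 0), (49, Int.negSucc 1), (50, Int.negSucc 2), (51, Int.negSucc 1), (52, Int.negSucc 3), (53, Int.negSucc 1), (54, Int.negSucc 0), (55, Int.negSucc 0)],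
  [(25, Int.ofNat 1), (27, Int.negSucc 0), (30, Int.negSucc 0), (31, Int.negSucc 0), (32, Int.negSucc 0), (33, Int.negSucc 0), (34, Int.negSucc 0), (35, Int.negSucc 0), (36, Int.negSucc 0), (38, Int.negSucc 1), (39, Int.negSucc 0), (40, Int.negSucc 1), (41, Int.negSucc 0), (42, Int.negSucc 0), (43, Int.negSucc 0), (44, Int.negSucc 1), (45, Int.negSucc 1), (46, Int.negSucc 1), (47, Int.negSucc 1), (48, Int.negSucc 0), (49, Int.negSucc 2), (50, Int.negSucc 4), (51, Int.negSucc 2), (52, Int.negSucc 1), (53, Int.negSucc 1), (54, Int.negSucc 1), (55, Int.negSucc 2)],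
  [(26, Int.ofNat 1), (27, Int.negSucc 0), (30, Int.negSucc 0), (31, Int.negSucc 0), (38, Int.negSucc 0), (41, Int.negSucc 0), (43, Int.negSucc 0), (44, Int.negSucc 0), (45, Int.negSucc 0), (46, Int.negSucc 0), (47, Int.negSucc 0), (49, Int.negSucc 0), (50, Int.negSucc 1), (54, Int.negSucc 0), (55, Int.negSucc 0)],
  [(27, Int.ofNat 2), (31, Int.ofNat 1), (38, Int.ofNat 1), (39, Int.ofNat 1), (49, Int.ofNat 1), (50, Int.ofNat 1), (54, Int.ofNat 1), (55, Int.ofNat 1)],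
  [(28, Int.ofNat 1), (30, Int.negSucc 0), (32, Int.negSucc 0), (33, Int.negSucc 0), (34, Int.negSucc 0), (35, Int.negSucc 0), (36, Int.negSucc 0), (38, Int.negSucc 1), (39, Int.negSucc 0), (40, Int.negSucc 1), (41, Int.negSucc 1), (42, Int.negSucc 1), (43, Int.negSucc 1), (44, Int.negSucc 1), (45, Int.negSucc 2), (46, Int.negSucc 2), (47, Int.negSucc 1), (48, Int.negSucc 0), (49, Int.negSucc 2), (50, Int.negSucc 4), (51, Int.negSucc 2), (52, Int.negSucc 2), (53, Int.negSucc 2), (54, Int.negSucc 1), (55, Int.negSucc 2)],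
  [(29, Int.ofNat 1), (32, Int.negSucc 0), (33, Int.negSucc 0), (34, Int.negSucc 0), (36, Int.negSucc 0), (38, Int.negSucc 0), (39, Int.negSucc 0), (40, Int.negSucc 1), (41, Int.negSucc 0), (42, Int.negSucc 1), (43, Int.negSucc 1), (44, Int.negSucc 1), (45, Int.negSucc 1), (46, Int.negSucc 2), (47, Int.negSucc 1), (48, Int.negSucc 0), (49, Int.negSucc 2), (50, Int.negSucc 3), (51, Int.negSucc 2), (52, Int.negSucc 2), (53, Int.negSucc 2), (54, Int.negSucc 0), (55, Int.negSucc 2)],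
  [(30, Int.ofNat 2), (31, Int.ofNat 1), (35, Int.ofNat 1), (38, Int.ofNat 1), (40, Int.ofNat 1), (41, Int.ofNat 1), (42, Int.ofNat 1), (43, Int.ofNat 1), (44, Int.ofNat 1), (45, Int.ofNat 1), (46, Int.ofNat 2), (47, Int.ofNat 1), (48, Int.ofNat 1), (49, Int.ofNat 1), (50, Int.ofNat 3), (51, Int.ofNat 2), (52, Int.ofNat 1), (53, Int.ofNat 1), (54, Int.ofNat 1), (55, Int.ofNat 1)],
  [(31, Int.ofNat 1)],
  [(32, Int.ofNat 2), (33, Int.ofNat 1), (34, Int.ofNat 1), (36, Int.ofNat 1), (38, Int.ofNat 1), (39, Int.ofNat 1), (40, Int.ofNat 2), (41, Int.ofNat 2), (42, Int.ofNat 1), (43, Int.ofNat 1), (44, Int.ofNat 2), (45, Int.ofNat 3), (46, Int.ofNat 2), (47, Int.ofNat 1), (48, Int.ofNat 1), (49, Int.ofNat 4), (50, Int.ofNat 5), (51, Int.ofNat 3), (52, Int.ofNat 3), (53, Int.ofNat 3), (54, Int.ofNat 2), (55, Int.ofNat 3)],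
  [(33, Int.ofNat 1), (37, Int.negSucc 0), (41, Int.negSucc 0), (42, Int.negSucc 0), (43, Int.negSucc 0), (44, Int.negSucc 0), (45, Int.negSucc 0), (46, Int.negSucc 1), (47, Int.negSucc 0), (49, Int.negSucc 0), (50, Int.negSucc 1), (51, Int.negSucc 0), (52, Int.negSucc 0), (53, Int.negSucc 0), (54, Int.negSucc 0)],
  [(34, Int.ofNat 1), (42, Int.negSucc 0), (43, Int.negSucc 0), (44, Int.negSucc 0), (45, Int.negSucc 0), (46, Int.negSucc 0), (47, Int.negSucc 0), (50, Int.negSucc 0), (53, Int.negSucc 0)],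
  [(35, Int.ofNat 1)],
  [(36, Int.ofNat 1), (37, Int.negSucc 0), (39, Int.negSucc 0), (41, Int.negSucc 0), (42, Int.negSucc 0), (43, Int.negSucc 0), (45, Int.negSucc 0), (46, Int.negSucc 0), (47, Int.negSucc 0), (50, Int.negSucc 0), (51, Int.negSucc 0), (52, Int.negSucc 0), (54, Int.negSucc 0)],
  [(37, Int.ofNat 2), (39, Int.ofNat 1), (40, Int.ofNat 1), (41, Int.ofNat 1), (42, Int.ofNat 1), (43, Int.ofNat 1), (44, Int.ofNat 1), (45, Int.ofNat 1), (46, Int.ofNat 2), (47, Int.ofNat 1), (48, Int.ofNat 1), (49, Int.ofNat 1), (50, Int.ofNat 3), (51, Int.ofNat 2), (52, Int.ofNat 2), (53, Int.ofNat 1), (54, Int.ofNat 2), (55, Int.ofNat 1)],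
  [(38, Int.ofNat 1)],
  [(39, Int.ofNat 1)],
  [(40, Int.ofNat 1), (41, Int.negSucc 0), (42, Int.negSucc 0), (43, Int.negSucc 0), (44, Int.negSucc 0), (45, Int.negSucc 0), (46, Int.negSucc 1), (47, Int.negSucc 0), (49, Int.negSucc 0), (50, Int.negSucc 0), (52, Int.negSucc 0), (53, Int.negSucc 0)],
  [(41, Int.ofNat 2), (43, Int.ofNat 1), (45, Int.ofNat 1), (46, Int.ofNat 1), (49, Int.ofNat 1), (50, Int.ofNat 1), (52, Int.ofNat 1), (54, Int.ofNat 1)],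
  [(42, Int.ofNat 2), (43, Int.ofNat 1), (46, Int.ofNat 1), (47, Int.ofNat 1), (50, Int.ofNat 1), (51, Int.ofNat 1), (52, Int.ofNat 1), (53, Int.ofNat 1)],
  [(43, Int.ofNat 1)],
  [(44, Int.ofNat 2), (45, Int.ofNat 1), (46, Int.ofNat 1), (47, Int.ofNat 1), (49, Int.ofNat 1), (50, Int.ofNat 1), (53, Int.ofNat 1), (55, Int.ofNat 1)],
  [(45, Int.ofNat 1)],
  [(46, Int.ofNat 1)],
  [(47, Int.ofNat 1)]]

def certTable : List (List (ℕ × ℤ)) := [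
  [(0, Int.ofNat 4), (7, Int.ofNat 2), (11, Int.ofNat 2), (15, Int.ofNat 2), (20, Int.ofNat 3), (21, Int.ofNat 3), (22, Int.ofNat 5), (23, Int.ofNat 6), (27, Int.ofNat 2), (28, Int.ofNat 2), (31, Int.ofNat 4), (33, Int.ofNat 5), (34, Int.ofNat 2), (35, Int.ofNat 7), (37, Int.ofNat 3), (38, Int.ofNat 7), (39, Int.ofNat 12), (40, Int.ofNat 11), (41, Int.ofNat 12), (42, Int.ofNat 10), (43, Int.ofNat 14), (44, Int.ofNat 12), (45, Int.ofNat 17), (46, Int.ofNat 22), (47, Int.ofNat 17), (48, Int.ofNat 14), (49, Int.ofNat 21), (50, Int.ofNat 34), (51, Int.ofNat 23), (52, Int.ofNat 21), (53, Int.ofNat 17), (54, Int.ofNat 21), (55, Int.ofNat 24)],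
  [(1, Int.negSucc 0), (2, Int.ofNat 1), (4, Int.ofNat 1), (6, Int.ofNat 1), (7, Int.ofNat 1), (11, Int.ofNat 1), (13, Int.ofNat 1), (15, Int.ofNat 1), (19, Int.ofNat 1), (20, Int.ofNat 3), (21, Int.ofNat 3), (22, Int.ofNat 2), (23, Int.ofNat 5), (24, Int.ofNat 1), (25, Int.ofNat 1), (26, Int.ofNat 1), (28, Int.ofNat 1), (29, Int.ofNat 1), (30, Int.ofNat 1), (31, Int.ofNat 5), (33, Int.ofNat 2), (35, Int.ofNat 6), (37, Int.ofNat 3), (38, Int.ofNat 6), (39, Int.ofNat 6), (40, Int.ofNat 11), (41, Int.ofNat 9), (42, Int.ofNat 9), (43, Int.ofNat 14), (44, Int.ofNat 9), (45, Int.ofNat 14), (46, Int.ofNat 17), (47, Int.ofNat 15), (48, Int.ofNat 10), (49, Int.ofNat 16), (50, Int.ofNat 28), (51, Int.ofNat 18), (52, Int.ofNat 17), (53, Int.ofNat 14), (54, Int.ofNat 16), (55, Int.ofNat 16)],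
  [(1, Int.negSucc 0), (2, Int.ofNat 1), (4, Int.negSucc 0), (6, Int.negSucc 0), (7, Int.negSucc 0), (13, Int.negSucc 0), (14, Int.negSucc 0), (15, Int.negSucc 0), (20, Int.negSucc 2), (21, Int.negSucc 1), (22, Int.negSucc 1), (23, Int.negSucc 2), (24, Int.ofNat 1), (29, Int.ofNat 1), (31, Int.negSucc 1), (33, Int.negSucc 2), (34, Int.negSucc 0), (35, Int.negSucc 4), (36, Int.negSucc 0), (37, Int.negSucc 2), (38, Int.negSucc 3), (39, Int.negSucc 5), (40, Int.negSucc 6), (41, Int.negSucc 6), (42, Int.negSucc 5), (43, Int.negSucc 9), (44, Int.negSucc 5), (45, Int.negSucc 8), (46, Int.negSucc 12), (47, Int.negSucc 8), (48, Int.negSucc 6), (49, Int.negSucc 10), (50, Int.negSucc 17), (51, Int.negSucc 10), (52, Int.negSucc 13), (53, Int.negSucc 7), (54, Int.negSucc 10), (55, Int.negSucc 10)],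
  [(1, Int.negSucc 0), (2, Int.negSucc 0), (4, Int.ofNat 1), (6, Int.negSucc 0), (7, Int.negSucc 0), (11, Int.negSucc 0), (13, Int.negSucc 0), (14, Int.negSucc 0), (20, Int.negSucc 2), (21, Int.negSucc 1), (22, Int.negSucc 2), (23, Int.negSucc 3), (24, Int.ofNat 1), (29, Int.negSucc 0), (31, Int.negSucc 1), (33, Int.negSucc 1), (35, Int.negSucc 4), (36, Int.negSucc 0), (37, Int.negSucc 2), (38, Int.negSucc 3), (39, Int.negSucc 4), (40, Int.negSucc 6), (41, Int.negSucc 5), (42, Int.negSucc 5), (43, Int.negSucc 8), (44, Int.negSucc 6), (45, Int.negSucc 9), (46, Int.negSucc 14), (47, Int.negSucc 9), (48, Int.negSucc 7), (49, Int.negSucc 9), (50, Int.negSucc 18), (51, Int.negSucc 11), (52, Int.negSucc 12), (53, Int.negSucc 9), (54, Int.negSucc 11), (55, Int.negSucc 9)],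
  [(1, Int.negSucc 0), (2, Int.negSucc 0), (4, Int.negSucc 0), (6, Int.ofNat 1), (7, Int.negSucc 0), (13, Int.negSucc 0), (19, Int.negSucc 0), (20, Int.negSucc 1), (21, Int.negSucc 1), (22, Int.negSucc 1), (23, Int.negSucc 3), (24, Int.ofNat 1), (25, Int.negSucc 0), (26, Int.negSucc 0), (28, Int.ofNat 1), (29, Int.negSucc 0), (30, Int.negSucc 0), (31, Int.negSucc 1), (33, Int.negSucc 1), (34, Int.negSucc 0), (35, Int.negSucc 4), (37, Int.negSucc 1), (38, Int.negSucc 5), (39, Int.negSucc 5), (40, Int.negSucc 5), (41, Int.negSucc 5), (42, Int.negSucc 4), (43, Int.negSucc 6), (44, Int.negSucc 5), (45, Int.negSucc 7), (46, Int.negSucc 12), (47, Int.negSucc 7), (48, Int.negSucc 6), (49, Int.negSucc 9), (50, Int.negSucc 15), (51, Int.negSucc 10), (52, Int.negSucc 10), (53, Int.negSucc 8), (54, Int.negSucc 9), (55, Int.negSucc 9)],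
  [(0, Int.ofNat 1), (2, Int.ofNat 1), (4, Int.ofNat 1), (6, Int.ofNat 1), (7, Int.ofNat 2), (8, Int.ofNat 1), (11, Int.ofNat 2), (13, Int.ofNat 2), (15, Int.ofNat 2), (16, Int.ofNat 1), (18, Int.negSucc 0), (19, Int.ofNat 1), (20, Int.ofNat 6), (21, Int.ofNat 6), (22, Int.ofNat 5), (23, Int.ofNat 9), (25, Int.ofNat 1), (26, Int.ofNat 1), (27, Int.ofNat 1), (28, Int.ofNat 1), (29, Int.ofNat 1), (30, Int.ofNat 2), (31, Int.ofNat 8), (32, Int.ofNat 1), (33, Int.ofNat 5), (34, Int.ofNat 2), (35, Int.ofNat 12), (36, Int.ofNat 1), (37, Int.ofNat 7), (38, Int.ofNat 12), (39, Int.ofNat 15), (40, Int.ofNat 20), (41, Int.ofNat 18), (42, Int.ofNat 16), (43, Int.ofNat 24), (44, Int.ofNat 20), (45, Int.ofNat 28), (46, Int.ofNat 35), (47, Int.ofNat 28), (48, Int.ofNat 20), (49, Int.ofNat 33), (50, Int.ofNat 55), (51, Int.ofNat 35), (52, Int.ofNat 34), (53, Int.ofNat 28), (54, Int.ofNat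 31), (55, Int.ofNat 32)],
  [(0, Int.ofNat 1), (2, Int.ofNat 1), (4, Int.ofNat 1), (6, Int.ofNat 1), (7, Int.ofNat 2), (10, Int.negSucc 0), (11, Int.ofNat 1), (13, Int.ofNat 2), (15, Int.ofNat 1), (19, Int.ofNat 1), (20, Int.ofNat 4), (21, Int.ofNat 4), (22, Int.ofNat 4), (23, Int.ofNat 7), (24, Int.negSucc 0), (30, Int.ofNat 1), (31, Int.ofNat 3), (33, Int.ofNat 4), (34, Int.ofNat 1), (35, Int.ofNat 8), (37, Int.ofNat 4), (38, Int.ofNat 7), (39, Int.ofNat 9), (40, Int.ofNat 11), (41, Int.ofNat 11), (42, Int.ofNat 10), (43, Int.ofNat 15), (44, Int.ofNat 11), (45, Int.ofNat 16), (46, Int.ofNat 22), (47, Int.ofNat 17), (48, Int.ofNat 12), (49, Int.ofNat 17), (50, Int.ofNat 31), (51, Int.ofNat 20), (52, Int.ofNat 20), (53, Int.ofNat 15), (54, Int.ofNat 18), (55, Int.ofNat 18)],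
  [(0, Int.ofNat 1), (2, Int.ofNat 1), (4, Int.ofNat 1), (6, Int.ofNat 1), (7, Int.ofNat 2), (11, Int.ofNat 2), (12, Int.negSucc 0), (13, Int.ofNat 1), (15, Int.ofNat 1), (19, Int.ofNat 1), (20, Int.ofNat 4), (21, Int.ofNat 4), (22, Int.ofNat 3), (23, Int.ofNat 7), (25, Int.ofNat 1), (28, Int.ofNat 1), (30, Int.ofNat 1), (31, Int.ofNat 4), (33, Int.ofNat 4), (35, Int.ofNat 7), (37, Int.ofNat 4), (38, Int.ofNat 7), (39, Int.ofNat 9), (40, Int.ofNat 13), (41, Int.ofNat 12), (42, Int.ofNat 11), (43, Int.ofNat 17), (44, Int.ofNat 12), (45, Int.ofNat 18), (46, Int.ofNat 22), (47, Int.ofNat 19), (48, Int.ofNat 13), (49, Int.ofNat 20), (50, Int.ofNat 35), (51, Int.ofNat 22), (52, Int.ofNat 21), (53, Int.ofNat 17), (54, Int.ofNat 20), (55, Int.ofNat 21)],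
  [(0, Int.ofNat 1), (2, Int.ofNat 1), (4, Int.negSucc 0), (6, Int.negSucc 0), (10, Int.ofNat 1), (11, Int.ofNat 1), (21, Int.ofNat 1), (22, Int.ofNat 2), (23, Int.ofNat 2), (24, Int.negSucc 0), (30, Int.negSucc 0), (31, Int.negSucc 0), (39, Int.ofNat 2), (40, Int.ofNat 1), (43, Int.negSucc 0), (44, Int.ofNat 1), (45, Int.ofNat 1), (46, Int.ofNat 2), (47, Int.ofNat 2), (48, Int.ofNat 3), (49, Int.ofNat 1), (50, Int.ofNat 2), (51, Int.ofNat 3), (52, Int.ofNat 1), (53, Int.ofNat 3), (54, Int.ofNat 2), (55, Int.ofNat 3)],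
  [(0, Int.ofNat 1), (2, Int.ofNat 1), (4, Int.negSucc 0), (6, Int.negSucc 0), (12, Int.negSucc 0), (13, Int.negSucc 0), (14, Int.negSucc 0), (15, Int.negSucc 0), (20, Int.negSucc 2), (21, Int.negSucc 1), (22, Int.negSucc 0), (23, Int.negSucc 1), (26, Int.ofNat 1), (30, Int.negSucc 0), (31, Int.negSucc 2), (32, Int.negSucc 0), (33, Int.negSucc 1), (34, Int.negSucc 0), (35, Int.negSucc 4), (36, Int.negSucc 0), (37, Int.negSucc 2), (38, Int.negSucc 3), (39, Int.negSucc 3), (40, Int.negSucc 6), (41, Int.negSucc 5), (42, Int.negSucc 4), (43, Int.negSucc 8), (44, Int.negSucc 5), (45, Int.negSucc 8), (46, Int.negSucc 10), (47, Int.negSucc 7), (48, Int.negSucc 5), (49, Int.negSucc 10), (50, Int.negSucc 17), (51, Int.negSucc 9), (52, Int.negSucc 11), (53, Int.negSucc 7), (54, Int.negSucc 10), (55, Int.negSucc 9)],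
  [(0, Int.ofNat 1), (2, Int.ofNat 1), (4, Int.negSucc 0), (6, Int.negSucc 0), (8, Int.ofNat 1), (11, Int.ofNat 1), (17, Int.negSucc 0), (21, Int.ofNat 1), (22, Int.ofNat 2), (23, Int.ofNat 2), (26, Int.ofNat 1), (27, Int.ofNat 1), (28, Int.ofNat 1), (29, Int.ofNat 1), (31, Int.ofNat 2), (34, Int.negSucc 0), (35, Int.ofNat 1), (38, Int.ofNat 1), (39, Int.ofNat 2), (40, Int.ofNat 3), (41, Int.ofNat 2), (42, Int.ofNat 2), (43, Int.ofNat 2), (44, Int.ofNat 3), (45, Int.ofNat 4), (46, Int.ofNat 5), (47, Int.ofNat 4), (48, Int.ofNat 4), (49, Int.ofNat 4), (50, Int.ofNat 8), (51, Int.ofNat 6), (52, Int.ofNat 3), (53, Int.ofNat 6), (54, Int.ofNat 5), (55, Int.ofNat 5)],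
  [(0, Int.ofNat 1), (2, Int.ofNat 1), (4, Int.negSucc 0), (6, Int.negSucc 0), (9, Int.negSucc 0), (13, Int.negSucc 0), (14, Int.negSucc 0), (16, Int.ofNat 1), (18, Int.ofNat 1), (19, Int.ofNat 1), (20, Int.negSucc 1), (21, Int.negSucc 0), (29, Int.ofNat 1), (30, Int.negSucc 0), (31, Int.negSucc 0), (33, Int.negSucc 0), (35, Int.negSucc 2), (37, Int.negSucc 0), (38, Int.negSucc 0), (39, Int.negSucc 0), (40, Int.negSucc 1), (41, Int.negSucc 0), (42, Int.negSucc 1), (43, Int.negSucc 2), (44, Int.negSucc 0), (45, Int.negSucc 0), (46, Int.negSucc 1), (47, Int.negSucc 2), (48, Int.negSucc 0), (49, Int.negSucc 1), (50, Int.negSucc 2), (51, Int.negSucc 1), (52, Int.negSucc 4), (53, Int.negSucc 0), (54, Int.negSucc 0), (55, Int.negSucc 1)],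
  [(0, Int.ofNat 1), (2, Int.negSucc 0), (4, Int.ofNat 1), (6, Int.negSucc 0), (9, Int.negSucc 0), (11, Int.negSucc 0), (13, Int.negSucc 0), (14, Int.negSucc 0), (20, Int.negSucc 1), (21, Int.negSucc 1), (22, Int.negSucc 1), (23, Int.negSucc 1), (26, Int.negSucc 0), (29, Int.negSucc 0), (30, Int.negSucc 0), (31, Int.negSucc 2), (33, Int.negSucc 0), (34, Int.ofNat 1), (35, Int.negSucc 4), (36, Int.negSucc 0), (37, Int.negSucc 1), (38, Int.negSucc 2), (39, Int.negSucc 2), (40, Int.negSucc 6), (41, Int.negSucc 4), (42, Int.negSucc 5), (43, Int.negSucc 7), (44, Int.negSucc 4), (45, Int.negSucc 7), (46, Int.negSucc 11), (47, Int.negSucc 8), (48, Int.negSucc 6), (49, Int.negSucc 7), (50, Int.negSucc 16), (51, Int.negSucc 10), (52, Int.negSucc 10), (53, Int.negSucc 9), (54, Int.negSucc 9), (55, Int.negSucc 7)],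
  [(0, Int.ofNat 1), (2, Int.negSucc 0), (4, Int.ofNat 1), (6, Int.negSucc 0), (8, Int.negSucc 0), (11, Int.negSucc 0), (13, Int.negSucc 0), (20, Int.negSucc 1), (21, Int.negSucc 1), (22, Int.negSucc 1), (23, Int.negSucc 2), (26, Int.negSucc 0), (29, Int.negSucc 0), (30, Int.negSucc 0), (31, Int.negSucc 2), (34, Int.ofNat 1), (35, Int.negSucc 3), (36, Int.negSucc 0), (37, Int.negSucc 1), (38, Int.negSucc 2), (39, Int.negSucc 1), (40, Int.negSucc 6), (41, Int.negSucc 3), (42, Int.negSucc 4), (43, Int.negSucc 6), (44, Int.negSucc 4), (45, Int.negSucc 7), (46, Int.negSucc 9), (47, Int.negSucc 8), (48, Int.negSucc 5), (49, Int.negSucc 6), (50, Int.negSucc 15), (51, Int.negSucc 9), (52, Int.negSucc 8), (53, Int.negSucc 8), (54, Int.negSucc 8), (55, Int.negSucc 6)],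
  [(0, Int.ofNat 1), (2, Int.negSucc 0), (4, Int.ofNat 1), (6, Int.negSucc 0), (12, Int.negSucc 0), (13, Int.negSucc 0), (14, Int.negSucc 0), (16, Int.ofNat 1), (18, Int.ofNat 1), (19, Int.ofNat 1), (20, Int.negSucc 1), (21, Int.negSucc 0), (22, Int.negSucc 0), (23, Int.negSucc 0), (26, Int.negSucc 0), (29, Int.negSucc 0), (30, Int.negSucc 0), (31, Int.negSucc 1), (34, Int.ofNat 1), (35, Int.negSucc 2), (37, Int.negSucc 0), (38, Int.negSucc 0), (40, Int.negSucc 2), (41, Int.negSucc 0), (42, Int.negSucc 1), (43, Int.negSucc 2), (44, Int.negSucc 1), (45, Int.negSucc 1), (46, Int.negSucc 4), (47, Int.negSucc 2), (48, Int.negSucc 2), (49, Int.negSucc 1), (50, Int.negSucc 5), (51, Int.negSucc 3), (52, Int.negSucc 4), (53, Int.negSucc 2), (54, Int.negSucc 3), (55, Int.negSucc 1)],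
  [(0, Int.ofNat 1), (2, Int.negSucc 0), (4, Int.ofNat 1), (6, Int.negSucc 0), (10, Int.ofNat 1), (13, Int.negSucc 0), (15, Int.ofNat 1), (17, Int.negSucc 0), (20, Int.negSucc 0), (24, Int.ofNat 1), (25, Int.ofNat 1), (27, Int.ofNat 1), (28, Int.ofNat 1), (31, Int.ofNat 2), (32, Int.ofNat 1), (33, Int.ofNat 1), (34, Int.ofNat 1), (36, Int.ofNat 1), (38, Int.ofNat 2), (39, Int.ofNat 3), (40, Int.ofNat 3), (41, Int.ofNat 3), (42, Int.ofNat 3), (43, Int.ofNat 3), (44, Int.ofNat 4), (45, Int.ofNat 4), (46, Int.ofNat 4), (47, Int.ofNat 4), (48, Int.ofNat 2), (49, Int.ofNat 7), (50, Int.ofNat 9), (51, Int.ofNat 5), (52, Int.ofNat 4), (53, Int.ofNat 6), (54, Int.ofNat 4), (55, Int.ofNat 8)],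
  [(0, Int.ofNat 1), (2, Int.negSucc 0), (4, Int.negSucc 0), (6, Int.ofNat 1), (11, Int.ofNat 1), (12, Int.ofNat 1), (14, Int.ofNat 1), (15, Int.ofNat 1), (17, Int.negSucc 0), (19, Int.negSucc 1), (20, Int.ofNat 1), (21, Int.ofNat 1), (22, Int.ofNat 2), (25, Int.negSucc 0), (26, Int.negSucc 0), (27, Int.ofNat 1), (28, Int.ofNat 1), (31, Int.ofNat 2), (33, Int.ofNat 1), (35, Int.ofNat 2), (36, Int.ofNat 1), (37, Int.ofNat 1), (39, Int.ofNat 2), (40, Int.ofNat 2), (41, Int.ofNat 2), (42, Int.ofNat 2), (43, Int.ofNat 3), (44, Int.ofNat 2), (45, Int.ofNat 3), (46, Int.ofNat 5), (47, Int.ofNat 3), (48, Int.ofNat 3), (49, Int.ofNat 3), (50, Int.ofNat 7), (51, Int.ofNat 4), (52, Int.ofNat 4), (53, Int.ofNat 3), (54, Int.ofNat 5), (55, Int.ofNat 5)],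
  [(0, Int.ofNat 1), (2, Int.negSucc 0), (4, Int.negSucc 0), (6, Int.ofNat 1), (10, Int.negSucc 0), (13, Int.negSucc 0), (16, Int.negSucc 0), (18, Int.ofNat 1), (19, Int.negSucc 0), (20, Int.negSucc 0), (21, Int.negSucc 1), (23, Int.negSucc 1), (24, Int.negSucc 0), (25, Int.negSucc 1), (26, Int.negSucc 0), (27, Int.negSucc 0), (29, Int.negSucc 0), (30, Int.negSucc 0), (31, Int.negSucc 3), (34, Int.negSucc 0), (35, Int.negSucc 2), (37, Int.negSucc 1), (38, Int.negSucc 4), (39, Int.negSucc 4), (40, Int.negSucc 5), (41, Int.negSucc 3), (42, Int.negSucc 3), (43, Int.negSucc 5), (44, Int.negSucc 5), (45, Int.negSucc 6), (46, Int.negSucc 8), (47, Int.negSucc 7), (48, Int.negSucc 4), (49, Int.negSucc 10), (50, Int.negSucc 14), (51, Int.negSucc 9), (52, Int.negSucc 8), (53, Int.negSucc 8), (54, Int.negSucc 7), (55, Int.negSucc 8)],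
  [(0, Int.ofNat 1), (2, Int.negSucc 0), (4, Int.negSucc 0), (6, Int.ofNat 1), (9, Int.negSucc 0), (13, Int.negSucc 0), (15, Int.ofNat 1), (19, Int.negSucc 0), (20, Int.negSucc 0), (21, Int.negSucc 0), (22, Int.negSucc 0), (23, Int.negSucc 1), (25, Int.negSucc 0), (26, Int.negSucc 0), (28, Int.ofNat 1), (29, Int.negSucc 0), (30, Int.negSucc 0), (31, Int.negSucc 0), (32, Int.ofNat 1), (35, Int.negSucc 2), (36, Int.ofNat 1), (38, Int.negSucc 3), (39, Int.negSucc 1), (40, Int.negSucc 1), (41, Int.negSucc 0), (42, Int.negSucc 0), (43, Int.negSucc 1), (44, Int.negSucc 0), (45, Int.negSucc 1), (46, Int.negSucc 2), (47, Int.negSucc 2), (48, Int.negSucc 1), (49, Int.negSucc 1), (50, Int.negSucc 2), (51, Int.negSucc 2), (52, Int.negSucc 2), (53, Int.negSucc 2), (54, Int.negSucc 1), (55, Int.negSucc 1)],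
  [(0, Int.ofNat 1), (2, Int.negSucc 0), (4, Int.negSucc 0), (6, Int.ofNat 1), (8, Int.ofNat 1), (11, Int.ofNat 1), (14, Int.ofNat 1), (15, Int.ofNat 1), (19, Int.negSucc 0), (20, Int.ofNat 2), (21, Int.ofNat 1), (22, Int.ofNat 2), (23, Int.ofNat 1), (25, Int.negSucc 0), (27, Int.ofNat 1), (28, Int.ofNat 2), (31, Int.ofNat 3), (33, Int.ofNat 1), (35, Int.ofNat 3), (36, Int.ofNat 1), (37, Int.ofNat 2), (38, Int.ofNat 1), (39, Int.ofNat 3), (40, Int.ofNat 5), (41, Int.ofNat 4), (42, Int.ofNat 4), (43, Int.ofNat 6), (44, Int.ofNat 4), (45, Int.ofNat 6), (46, Int.ofNat 8), (47, Int.ofNat 6), (48, Int.ofNat 6), (49, Int.ofNat 8), (50, Int.ofNat 14), (51, Int.ofNat 9), (52, Int.ofNat 9), (53, Int.ofNat 6), (54, Int.ofNat 9), (55, Int.ofNat 8)]]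

def certTest : List (List (ℕ × ℤ)) := [
  [(0, Int.ofNat 4), (7, Int.ofNat 2), (11, Int.ofNat 2), (15, Int.ofNat 2), (20, Int.ofNat 3), (21, Int.ofNat 3), (22, Int.ofNat 5), (23, Int.ofNat 6), (27, Int.ofNat 2), (28, Int.ofNat 2), (31, Int.ofNat 4), (33, Int.ofNat 5), (34, Int.ofNat 2), (35, Int.ofNat 7), (37, Int.ofNat 3), (38, Int.ofNat 7), (39, Int.ofNat 12), (40, Int.ofNat 11), (41, Int.ofNat 12), (42, Int.ofNat 10), (43, Int.ofNat 14), (44, Int.ofNat 12), (45, Int.ofNat 17), (46, Int.ofNat 22), (47, Int.ofNat 17), (48, Int.ofNat 14), (49, Int.ofNat 21), (50, Int.ofNat 34), (51, Int.ofNat 23), (52, Int.ofNat 21), (53, Int.ofNat 17), (54, Int.ofNat 21), (55, Int.ofNat 24)],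
  [(0, Int.ofNat 4), (1, Int.ofNat 4), (7, Int.ofNat 4), (11, Int.ofNat 2), (13, Int.ofNat 2), (14, Int.ofNat 2), (15, Int.ofNat 2), (20, Int.ofNat 8), (21, Int.ofNat 6), (22, Int.ofNat 10), (23, Int.ofNat 12), (25, Int.ofNat 2), (26, Int.ofNat 2), (27, Int.ofNat 4), (28, Int.ofNat 2), (29, Int.ofNat 2), (30, Int.ofNat 2), (31, Int.ofNat 12), (33, Int.ofNat 10), (34, Int.ofNat 4), (35, Int.ofNat 19), (36, Int.ofNat 2), (37, Int.ofNat 8), (38, Int.ofNat 19), (39, Int.ofNat 26), (40, Int.ofNat 28), (41, Int.ofNat 28), (42, Int.ofNat 24), (43, Int.ofNat 35), (44, Int.ofNat 28), (45, Int.ofNat 39), (46, Int.ofNat 56), (47, Int.ofNat 38), (48, Int.ofNat 32), (49, Int.ofNat 49), (50, Int.ofNat 79), (51, Int.ofNat 52), (52, Int.ofNat 52), (53, Int.ofNat 41), (54, Int.ofNat 50), (55, Int.ofNat 51)],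
  [(2, Int.ofNat 4), (7, Int.ofNat 2), (11, Int.ofNat 2), (13, Int.ofNat 2), (19, Int.ofNat 2), (20, Int.ofNat 5), (21, Int.ofNat 5), (22, Int.ofNat 5), (23, Int.ofNat 10), (25, Int.ofNat 2), (26, Int.ofNat 2), (29, Int.ofNat 2), (30, Int.ofNat 2), (31, Int.ofNat 6), (33, Int.ofNat 3), (35, Int.ofNat 10), (37, Int.ofNat 5), (38, Int.ofNat 11), (39, Int.ofNat 11), (40, Int.ofNat 17), (41, Int.ofNat 14), (42, Int.ofNat 14), (43, Int.ofNat 20), (44, Int.ofNat 16), (45, Int.ofNat 23), (46, Int.ofNat 31), (47, Int.ofNat 24), (48, Int.ofNat 18), (49, Int.ofNat 25), (50, Int.ofNat 45), (51, Int.ofNat 30), (52, Int.ofNat 27), (53, Int.ofNat 25), (54, Int.ofNat 26), (55, Int.ofNat 25)],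
  [(2, Int.ofNat 4), (3, Int.ofNat 4), (7, Int.ofNat 4), (11, Int.ofNat 2), (13, Int.ofNat 2), (14, Int.ofNat 2), (15, Int.ofNat 2), (19, Int.ofNat 4), (20, Int.ofNat 8), (21, Int.ofNat 10), (22, Int.ofNat 10), (23, Int.ofNat 16), (25, Int.ofNat 4), (26, Int.ofNat 4), (29, Int.ofNat 2), (30, Int.ofNat 4), (31, Int.ofNat 10), (33, Int.ofNat 6), (35, Int.ofNat 19), (36, Int.ofNat 2), (37, Int.ofNat 8), (38, Int.ofNat 19), (39, Int.ofNat 22), (40, Int.ofNat 32), (41, Int.ofNat 28), (42, Int.ofNat 30), (43, Int.ofNat 41), (44, Int.ofNat 30), (45, Int.ofNat 43), (46, Int.ofNat 62), (47, Int.ofNat 46), (48, Int.ofNat 36), (49, Int.ofNat 50), (50, Int.ofNat 85), (51, Int.ofNat 57), (52, Int.ofNat 55), (53, Int.ofNat 51), (54, Int.ofNat 52), (55, Int.ofNat 50)],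
  [(4, Int.ofNat 4), (7, Int.ofNat 2), (13, Int.ofNat 2), (15, Int.ofNat 2), (19, Int.ofNat 2), (20, Int.ofNat 5), (21, Int.ofNat 5), (22, Int.ofNat 3), (23, Int.ofNat 8), (25, Int.ofNat 2), (30, Int.ofNat 2), (31, Int.ofNat 6), (33, Int.ofNat 5), (34, Int.ofNat 2), (35, Int.ofNat 10), (37, Int.ofNat 5), (38, Int.ofNat 12), (39, Int.ofNat 12), (40, Int.ofNat 16), (41, Int.ofNat 15), (42, Int.ofNat 13), (43, Int.ofNat 21), (44, Int.ofNat 15), (45, Int.ofNat 21), (46, Int.ofNat 27), (47, Int.ofNat 22), (48, Int.ofNat 15), (49, Int.ofNat 26), (50, Int.ofNat 42), (51, Int.ofNat 26), (52, Int.ofNat 27), (53, Int.ofNat 20), (54, Int.ofNat 24), (55, Int.ofNat 26)],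
  [(4, Int.ofNat 4), (5, Int.ofNat 4), (7, Int.ofNat 4), (11, Int.ofNat 2), (13, Int.ofNat 2), (14, Int.ofNat 2), (15, Int.ofNat 2), (19, Int.ofNat 4), (20, Int.ofNat 10), (21, Int.ofNat 8), (22, Int.ofNat 8), (23, Int.ofNat 14), (25, Int.ofNat 2), (26, Int.ofNat 2), (30, Int.ofNat 4), (31, Int.ofNat 10), (33, Int.ofNat 8), (34, Int.ofNat 4), (35, Int.ofNat 21), (36, Int.ofNat 2), (37, Int.ofNat 10), (38, Int.ofNat 21), (39, Int.ofNat 24), (40, Int.ofNat 32), (41, Int.ofNat 28), (42, Int.ofNat 26), (43, Int.ofNat 41), (44, Int.ofNat 30), (45, Int.ofNat 43), (46, Int.ofNat 56), (47, Int.ofNat 42), (48, Int.ofNat 32), (49, Int.ofNat 52), (50, Int.ofNat 84), (51, Int.ofNat 54), (52, Int.ofNat 53), (53, Int.ofNat 43), (54, Int.ofNat 51), (55, Int.ofNat 51)],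
  [(0, Int.ofNat 2), (2, Int.ofNat 2), (4, Int.ofNat 4), (5, Int.ofNat 2), (6, Int.ofNat 2), (7, Int.ofNat 6), (8, Int.ofNat 2), (9, Int.ofNat 2), (10, Int.ofNat 2), (11, Int.ofNat 8), (13, Int.ofNat 6), (14, Int.ofNat 4), (15, Int.ofNat 6), (19, Int.ofNat 4), (20, Int.ofNat 22), (21, Int.ofNat 20), (22, Int.ofNat 20), (23, Int.ofNat 32), (25, Int.ofNat 4), (26, Int.ofNat 4), (27, Int.ofNat 4), (28, Int.ofNat 4), (29, Int.ofNat 2), (30, Int.ofNat 6), (31, Int.ofNat 28), (33, Int.ofNat 19), (34, Int.ofNat 5), (35, Int.ofNat 46), (36, Int.ofNat 5), (37, Int.ofNat 22), (38, Int.ofNat 44), (39, Int.ofNat 53), (40, Int.ofNat 73), (41, Int.ofNat 61), (42, Int.ofNat 59), (43, Int.ofNat 87), (44, Int.ofNat 65), (45, Int.ofNat 94), (46, Int.ofNat 123), (47, Int.ofNat 98), (48, Int.ofNat 74), (49, Int.ofNat 113), (50, Int.ofNat 190), (51, Int.ofNat 123), (52, Int.ofNat 121), (53, Int.ofNat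 99), (54, Int.ofNat 113), (55, Int.ofNat 116)],
  [(0, Int.ofNat 4), (1, Int.ofNat 2), (2, Int.ofNat 4), (3, Int.ofNat 2), (4, Int.ofNat 2), (7, Int.ofNat 8), (8, Int.ofNat 2), (9, Int.ofNat 2), (10, Int.ofNat 2), (11, Int.ofNat 8), (13, Int.ofNat 6), (14, Int.ofNat 4), (15, Int.ofNat 6), (19, Int.ofNat 4), (20, Int.ofNat 22), (21, Int.ofNat 22), (22, Int.ofNat 24), (23, Int.ofNat 36), (25, Int.ofNat 6), (26, Int.ofNat 6), (27, Int.ofNat 6), (28, Int.ofNat 4), (29, Int.ofNat 4), (30, Int.ofNat 6), (31, Int.ofNat 30), (33, Int.ofNat 21), (34, Int.ofNat 5), (35, Int.ofNat 49), (36, Int.ofNat 5), (37, Int.ofNat 22), (38, Int.ofNat 49), (39, Int.ofNat 61), (40, Int.ofNat 78), (41, Int.ofNat 68), (42, Int.ofNat 66), (43, Int.ofNat 94), (44, Int.ofNat 72), (45, Int.ofNat 103), (46, Int.ofNat 140), (47, Int.ofNat 108), (48, Int.ofNat 84), (49, Int.ofNat 125), (50, Int.ofNat 208),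 (51, Int.ofNat 137), (52, Int.ofNat 134), (53, Int.ofNat 114), (54, Int.ofNat 126), (55, Int.ofNat 129)],
  [(8, Int.ofNat 4), (11, Int.ofNat 2), (13, Int.ofNat 2), (15, Int.ofNat 2), (20, Int.ofNat 5), (21, Int.ofNat 5), (22, Int.ofNat 5), (23, Int.ofNat 7), (26, Int.ofNat 2), (27, Int.ofNat 2), (28, Int.ofNat 2), (29, Int.ofNat 2), (31, Int.ofNat 9), (33, Int.ofNat 3), (35, Int.ofNat 10), (36, Int.ofNat 2), (37, Int.ofNat 5), (38, Int.ofNat 9), (39, Int.ofNat 10), (40, Int.ofNat 17), (41, Int.ofNat 12), (42, Int.ofNat 12), (43, Int.ofNat 17), (44, Int.ofNat 14), (45, Int.ofNat 20), (46, Int.ofNat 25), (47, Int.ofNat 21), (48, Int.ofNat 17), (49, Int.ofNat 25), (50, Int.ofNat 43), (51, Int.ofNat 27), (52, Int.ofNat 27), (53, Int.ofNat 23), (54, Int.ofNat 26), (55, Int.ofNat 25)],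
  [(8, Int.ofNat 4), (9, Int.ofNat 4), (11, Int.ofNat 4), (13, Int.ofNat 4), (14, Int.ofNat 2), (15, Int.ofNat 2), (20, Int.ofNat 10), (21, Int.ofNat 10), (22, Int.ofNat 10), (23, Int.ofNat 12), (26, Int.ofNat 4), (27, Int.ofNat 4), (28, Int.ofNat 2), (29, Int.ofNat 2), (30, Int.ofNat 2), (31, Int.ofNat 14), (33, Int.ofNat 8), (34, Int.ofNat 2), (35, Int.ofNat 24), (36, Int.ofNat 4), (37, Int.ofNat 8), (38, Int.ofNat 20), (39, Int.ofNat 24), (40, Int.ofNat 32), (41, Int.ofNat 24), (42, Int.ofNat 26), (43, Int.ofNat 35), (44, Int.ofNat 26), (45, Int.ofNat 38), (46, Int.ofNat 51), (47, Int.ofNat 42), (48, Int.ofNat 32), (49, Int.ofNat 48), (50, Int.ofNat 80), (51, Int.ofNat 53), (52, Int.ofNat 55), (53, Int.ofNat 46), (54, Int.ofNat 47), (55, Int.ofNat 49)],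
  [(10, Int.ofNat 4), (11, Int.ofNat 2), (14, Int.ofNat 2), (15, Int.ofNat 2), (20, Int.ofNat 3), (21, Int.ofNat 3), (22, Int.ofNat 3), (23, Int.ofNat 5), (25, Int.ofNat 2), (27, Int.ofNat 2), (28, Int.ofNat 2), (31, Int.ofNat 7), (33, Int.ofNat 3), (35, Int.ofNat 6), (36, Int.ofNat 2), (37, Int.ofNat 5), (38, Int.ofNat 7), (39, Int.ofNat 10), (40, Int.ofNat 15), (41, Int.ofNat 10), (42, Int.ofNat 10), (43, Int.ofNat 14), (44, Int.ofNat 12), (45, Int.ofNat 16), (46, Int.ofNat 21), (47, Int.ofNat 18), (48, Int.ofNat 15), (49, Int.ofNat 22), (50, Int.ofNat 36), (51, Int.ofNat 23), (52, Int.ofNat 22), (53, Int.ofNat 19), (54, Int.ofNat 22), (55, Int.ofNat 24)],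
  [(10, Int.ofNat 4), (11, Int.ofNat 4), (14, Int.ofNat 2), (15, Int.ofNat 2), (20, Int.ofNat 4), (21, Int.ofNat 4), (22, Int.ofNat 4), (23, Int.ofNat 6), (25, Int.ofNat 2), (27, Int.ofNat 2), (28, Int.ofNat 2), (31, Int.ofNat 8), (33, Int.ofNat 4), (35, Int.ofNat 8), (36, Int.ofNat 2), (37, Int.ofNat 6), (38, Int.ofNat 8), (39, Int.ofNat 12), (40, Int.ofNat 18), (41, Int.ofNat 12), (42, Int.ofNat 12), (43, Int.ofNat 17), (44, Int.ofNat 14), (45, Int.ofNat 20), (46, Int.ofNat 25), (47, Int.ofNat 22), (48, Int.ofNat 18), (49, Int.ofNat 26), (50, Int.ofNat 43), (51, Int.ofNat 28), (52, Int.ofNat 26), (53, Int.ofNat 23), (54, Int.ofNat 27), (55, Int.ofNat 29)],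
  [(0, Int.ofNat 4), (1, Int.ofNat 2), (2, Int.ofNat 2), (3, Int.ofNat 2), (4, Int.ofNat 2), (7, Int.ofNat 6), (10, Int.ofNat 2), (11, Int.ofNat 4), (12, Int.ofNat 2), (13, Int.ofNat 4), (14, Int.ofNat 4), (15, Int.ofNat 6), (19, Int.ofNat 3), (20, Int.ofNat 16), (21, Int.ofNat 16), (22, Int.ofNat 18), (23, Int.ofNat 26), (24, Int.ofNat 2), (25, Int.ofNat 8), (26, Int.ofNat 4), (27, Int.ofNat 6), (28, Int.ofNat 4), (29, Int.ofNat 4), (30, Int.ofNat 6), (31, Int.ofNat 28), (33, Int.ofNat 16), (34, Int.ofNat 5), (35, Int.ofNat 38), (36, Int.ofNat 4), (37, Int.ofNat 17), (38, Int.ofNat 40), (39, Int.ofNat 49), (40, Int.ofNat 62), (41, Int.ofNat 57), (42, Int.ofNat 53), (43, Int.ofNat 76), (44, Int.ofNat 59), (45, Int.ofNat 82), (46, Int.ofNat 115), (47, Int.ofNat 84), (48, Int.ofNat 67), (49, Int.ofNat 104), (50, Int.ofNat 169), (51, Int.ofNat 109), (52, Int.ofNat 108), (53,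 Int.ofNat 91), (54, Int.ofNat 104), (55, Int.ofNat 106)],
  [(0, Int.ofNat 2), (2, Int.ofNat 2), (3, Int.ofNat 2), (4, Int.ofNat 4), (5, Int.ofNat 2), (7, Int.ofNat 6), (10, Int.ofNat 4), (11, Int.ofNat 6), (13, Int.ofNat 4), (14, Int.ofNat 4), (15, Int.ofNat 6), (19, Int.ofNat 5), (20, Int.ofNat 17), (21, Int.ofNat 17), (22, Int.ofNat 17), (23, Int.ofNat 28), (24, Int.ofNat 2), (25, Int.ofNat 8), (26, Int.ofNat 4), (27, Int.ofNat 4), (28, Int.ofNat 4), (29, Int.ofNat 2), (30, Int.ofNat 6), (31, Int.ofNat 27), (33, Int.ofNat 16), (34, Int.ofNat 4), (35, Int.ofNat 38), (36, Int.ofNat 4), (37, Int.ofNat 19), (38, Int.ofNat 40), (39, Int.ofNat 49), (40, Int.ofNat 67), (41, Int.ofNat 57), (42, Int.ofNat 55), (43, Int.ofNat 80), (44, Int.ofNat 61), (45, Int.ofNat 86), (46, Int.ofNat 115), (47, Int.ofNat 90), (48, Int.ofNat 69), (49, Int.ofNat 107), (50, Int.ofNat 175), (51, Int.ofNat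 114), (52, Int.ofNat 110), (53, Int.ofNat 94), (54, Int.ofNat 106), (55, Int.ofNat 110)],
  [(0, Int.ofNat 2), (4, Int.ofNat 2), (7, Int.ofNat 2), (8, Int.ofNat 2), (10, Int.ofNat 2), (11, Int.ofNat 4), (13, Int.ofNat 2), (14, Int.ofNat 2), (15, Int.ofNat 4), (19, Int.ofNat 1), (20, Int.ofNat 9), (21, Int.ofNat 9), (22, Int.ofNat 9), (23, Int.ofNat 14), (24, Int.ofNat 2), (25, Int.ofNat 4), (26, Int.ofNat 2), (27, Int.ofNat 4), (28, Int.ofNat 4), (29, Int.ofNat 2), (30, Int.ofNat 2), (31, Int.ofNat 18), (33, Int.ofNat 9), (34, Int.ofNat 2), (35, Int.ofNat 20), (36, Int.ofNat 2), (37, Int.ofNat 10), (38, Int.ofNat 21), (39, Int.ofNat 26), (40, Int.ofNat 36), (41, Int.ofNat 30), (42, Int.ofNat 28), (43, Int.ofNat 41), (44, Int.ofNat 32), (45, Int.ofNat 45), (46, Int.ofNat 58), (47, Int.ofNat 47), (48, Int.ofNat 36), (49, Int.ofNat 58), (50, Int.ofNat 94), (51, Int.ofNat 60),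 (52, Int.ofNat 58), (53, Int.ofNat 49), (54, Int.ofNat 57), (55, Int.ofNat 60)],
  [(0, Int.ofNat 4), (1, Int.ofNat 2), (4, Int.ofNat 4), (5, Int.ofNat 2), (7, Int.ofNat 6), (8, Int.ofNat 4), (9, Int.ofNat 2), (10, Int.ofNat 2), (11, Int.ofNat 8), (13, Int.ofNat 6), (14, Int.ofNat 4), (15, Int.ofNat 8), (19, Int.ofNat 3), (20, Int.ofNat 23), (21, Int.ofNat 21), (22, Int.ofNat 23), (23, Int.ofNat 33), (24, Int.ofNat 2), (25, Int.ofNat 6), (26, Int.ofNat 6), (27, Int.ofNat 8), (28, Int.ofNat 6), (29, Int.ofNat 4), (30, Int.ofNat 6), (31, Int.ofNat 36), (33, Int.ofNat 22), (34, Int.ofNat 7), (35, Int.ofNat 52), (36, Int.ofNat 6), (37, Int.ofNat 23), (38, Int.ofNat 51), (39, Int.ofNat 63), (40, Int.ofNat 82), (41, Int.ofNat 70), (42, Int.ofNat 66), (43, Int.ofNat 96), (44, Int.ofNat 74), (45, Int.ofNat 105), (46, Int.ofNat 139), (47, Int.ofNat 108), (48, Int.ofNat 84), (49, Int.ofNat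 132), (50, Int.ofNat 216), (51, Int.ofNat 140), (52, Int.ofNat 138), (53, Int.ofNat 114), (54, Int.ofNat 131), (55, Int.ofNat 136)],
  [(16, Int.ofNat 4), (19, Int.ofNat 2), (21, Int.ofNat 2), (23, Int.ofNat 1), (31, Int.ofNat 2), (34, Int.ofNat 2), (35, Int.ofNat 2), (36, Int.ofNat 2), (37, Int.ofNat 2), (38, Int.ofNat 3), (39, Int.ofNat 5), (40, Int.ofNat 4), (41, Int.ofNat 6), (42, Int.ofNat 4), (43, Int.ofNat 7), (44, Int.ofNat 6), (45, Int.ofNat 9), (46, Int.ofNat 11), (47, Int.ofNat 7), (48, Int.ofNat 4), (49, Int.ofNat 12), (50, Int.ofNat 14), (51, Int.ofNat 8), (52, Int.ofNat 8), (53, Int.ofNat 9), (54, Int.ofNat 7), (55, Int.ofNat 6)],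
  [(16, Int.ofNat 4), (17, Int.ofNat 4), (19, Int.ofNat 4), (20, Int.ofNat 2), (21, Int.ofNat 2), (23, Int.ofNat 2), (31, Int.ofNat 2), (33, Int.ofNat 2), (34, Int.ofNat 4), (35, Int.ofNat 6), (36, Int.ofNat 2), (37, Int.ofNat 4), (38, Int.ofNat 7), (39, Int.ofNat 9), (40, Int.ofNat 7), (41, Int.ofNat 11), (42, Int.ofNat 7), (43, Int.ofNat 11), (44, Int.ofNat 9), (45, Int.ofNat 14), (46, Int.ofNat 18), (47, Int.ofNat 10), (48, Int.ofNat 9), (49, Int.ofNat 22), (50, Int.ofNat 26), (51, Int.ofNat 15), (52, Int.ofNat 19), (53, Int.ofNat 13), (54, Int.ofNat 16), (55, Int.ofNat 11)],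
  [(2, Int.ofNat 4), (3, Int.ofNat 2), (4, Int.ofNat 4), (5, Int.ofNat 2), (7, Int.ofNat 6), (8, Int.ofNat 2), (9, Int.ofNat 2), (11, Int.ofNat 5), (13, Int.ofNat 6), (14, Int.ofNat 3), (15, Int.ofNat 4), (16, Int.ofNat 2), (18, Int.ofNat 2), (19, Int.ofNat 8), (20, Int.ofNat 19), (21, Int.ofNat 20), (22, Int.ofNat 19), (23, Int.ofNat 32), (24, Int.ofNat 2), (25, Int.ofNat 7), (26, Int.ofNat 7), (27, Int.ofNat 3), (28, Int.ofNat 2), (29, Int.ofNat 4), (30, Int.ofNat 8), (31, Int.ofNat 29), (32, Int.ofNat 2), (33, Int.ofNat 18), (34, Int.ofNat 6), (35, Int.ofNat 47), (36, Int.ofNat 7), (37, Int.ofNat 20), (38, Int.ofNat 49), (39, Int.ofNat 55), (40, Int.ofNat 77), (41, Int.ofNat 68), (42, Int.ofNat 66), (43, Int.ofNat 95), (44, Int.ofNat 70), (45, Int.ofNat 102), (46, Int.ofNat 136), (47, Int.ofNat 103), (48, Int.ofNat 76), (49, Int.ofNat 123), (50, Int.ofNat 202), (51, Int.ofNat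 130), (52, Int.ofNat 128), (53, Int.ofNat 112), (54, Int.ofNat 118), (55, Int.ofNat 119)],
  [(2, Int.ofNat 2), (4, Int.ofNat 2), (7, Int.ofNat 2), (8, Int.ofNat 2), (9, Int.ofNat 2), (11, Int.ofNat 3), (13, Int.ofNat 4), (14, Int.ofNat 1), (15, Int.ofNat 2), (16, Int.ofNat 4), (17, Int.ofNat 2), (19, Int.ofNat 6), (20, Int.ofNat 11), (21, Int.ofNat 12), (22, Int.ofNat 9), (23, Int.ofNat 17), (24, Int.ofNat 2), (25, Int.ofNat 4), (26, Int.ofNat 4), (27, Int.ofNat 3), (28, Int.ofNat 2), (29, Int.ofNat 3), (30, Int.ofNat 4), (31, Int.ofNat 19), (32, Int.ofNat 2), (33, Int.ofNat 11), (34, Int.ofNat 6), (35, Int.ofNat 29), (36, Int.ofNat 5), (37, Int.ofNat 13), (38, Int.ofNat 31), (39, Int.ofNat 35), (40, Int.ofNat 46), (41, Int.ofNat 43), (42, Int.ofNat 39), (43, Int.ofNat 56), (44, Int.ofNat 43), (45, Int.ofNat 63), (46, Int.ofNat 81), (47, Int.ofNat 61), (48, Int.ofNat 44),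 (49, Int.ofNat 80), (50, Int.ofNat 124), (51, Int.ofNat 78), (52, Int.ofNat 80), (53, Int.ofNat 68), (54, Int.ofNat 71), (55, Int.ofNat 70)],
  [(0, Int.ofNat 4), (1, Int.ofNat 2), (2, Int.ofNat 2), (4, Int.ofNat 2), (5, Int.ofNat 2), (7, Int.ofNat 6), (8, Int.ofNat 2), (10, Int.ofNat 4), (11, Int.ofNat 8), (13, Int.ofNat 4), (14, Int.ofNat 4), (15, Int.ofNat 6), (16, Int.ofNat 2), (19, Int.ofNat 4), (20, Int.ofNat 20), (21, Int.ofNat 18), (22, Int.ofNat 20), (23, Int.ofNat 31), (25, Int.ofNat 5), (26, Int.ofNat 4), (27, Int.ofNat 6), (28, Int.ofNat 5), (29, Int.ofNat 3), (30, Int.ofNat 4), (31, Int.ofNat 29), (33, Int.ofNat 18), (34, Int.ofNat 6), (35, Int.ofNat 42), (36, Int.ofNat 6), (37, Int.ofNat 22), (38, Int.ofNat 43), (39, Int.ofNat 55), (40, Int.ofNat 72), (41, Int.ofNat 62), (42, Int.ofNat 56), (43, Int.ofNat 84), (44, Int.ofNat 66), (45, Int.ofNat 95), (46, Int.ofNat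 124), (47, Int.ofNat 95), (48, Int.ofNat 75), (49, Int.ofNat 117), (50, Int.ofNat 190), (51, Int.ofNat 123), (52, Int.ofNat 119), (53, Int.ofNat 100), (54, Int.ofNat 116), (55, Int.ofNat 118)],
  [(0, Int.ofNat 2), (2, Int.ofNat 4), (3, Int.ofNat 2), (4, Int.ofNat 2), (5, Int.ofNat 2), (7, Int.ofNat 6), (8, Int.ofNat 4), (9, Int.ofNat 2), (10, Int.ofNat 2), (11, Int.ofNat 8), (13, Int.ofNat 6), (14, Int.ofNat 4), (15, Int.ofNat 6), (16, Int.ofNat 4), (17, Int.ofNat 2), (19, Int.ofNat 8), (20, Int.ofNat 23), (21, Int.ofNat 25), (22, Int.ofNat 23), (23, Int.ofNat 37), (25, Int.ofNat 5), (26, Int.ofNat 7), (27, Int.ofNat 5), (28, Int.ofNat 4), (29, Int.ofNat 4), (30, Int.ofNat 6), (31, Int.ofNat 32), (33, Int.ofNat 19), (34, Int.ofNat 7), (35, Int.ofNat 53), (36, Int.ofNat 8), (37, Int.ofNat 25), (38, Int.ofNat 52), (39, Int.ofNat 64), (40, Int.ofNat 85), (41, Int.ofNat 74),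 (42, Int.ofNat 70), (43, Int.ofNat 102), (44, Int.ofNat 78), (45, Int.ofNat 113), (46, Int.ofNat 150), (47, Int.ofNat 115), (48, Int.ofNat 89), (49, Int.ofNat 140), (50, Int.ofNat 226), (51, Int.ofNat 146), (52, Int.ofNat 145), (53, Int.ofNat 124), (54, Int.ofNat 136), (55, Int.ofNat 134)],
  [(0, Int.ofNat 4), (1, Int.ofNat 2), (4, Int.ofNat 4), (5, Int.ofNat 2), (7, Int.ofNat 6), (8, Int.ofNat 2), (10, Int.ofNat 2), (11, Int.ofNat 5), (13, Int.ofNat 4), (14, Int.ofNat 3), (15, Int.ofNat 6), (16, Int.ofNat 4), (17, Int.ofNat 2), (19, Int.ofNat 6), (20, Int.ofNat 18), (21, Int.ofNat 17), (22, Int.ofNat 18), (23, Int.ofNat 28), (24, Int.ofNat 2), (25, Int.ofNat 6), (26, Int.ofNat 4), (27, Int.ofNat 6), (28, Int.ofNat 5), (29, Int.ofNat 3), (30, Int.ofNat 5), (31, Int.ofNat 30), (32, Int.ofNat 2), (33, Int.ofNat 20), (34, Int.ofNat 10), (35, Int.ofNat 43), (36, Int.ofNat 7),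 (37, Int.ofNat 22), (38, Int.ofNat 47), (39, Int.ofNat 59), (40, Int.ofNat 72), (41, Int.ofNat 68), (42, Int.ofNat 60), (43, Int.ofNat 88), (44, Int.ofNat 70), (45, Int.ofNat 99), (46, Int.ofNat 130), (47, Int.ofNat 96), (48, Int.ofNat 74), (49, Int.ofNat 127), (50, Int.ofNat 198), (51, Int.ofNat 126), (52, Int.ofNat 126), (53, Int.ofNat 104), (54, Int.ofNat 118), (55, Int.ofNat 120)],
  [(0, Int.ofNat 2), (4, Int.ofNat 2), (7, Int.ofNat 2), (8, Int.ofNat 4), (9, Int.ofNat 2), (10, Int.ofNat 4), (11, Int.ofNat 7), (13, Int.ofNat 4), (14, Int.ofNat 3), (15, Int.ofNat 6), (16, Int.ofNat 2), (19, Int.ofNat 2), (20, Int.ofNat 15), (21, Int.ofNat 16), (22, Int.ofNat 15), (23, Int.ofNat 23), (24, Int.ofNat 2), (25, Int.ofNat 5), (26, Int.ofNat 4), (27, Int.ofNat 7), (28, Int.ofNat 6), (29, Int.ofNat 3), (30, Int.ofNat 3), (31, Int.ofNat 29), (32, Int.ofNat 2), (33, Int.ofNat 16),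 (34, Int.ofNat 5), (35, Int.ofNat 36), (36, Int.ofNat 7), (37, Int.ofNat 18), (38, Int.ofNat 37), (39, Int.ofNat 47), (40, Int.ofNat 63), (41, Int.ofNat 52), (42, Int.ofNat 50), (43, Int.ofNat 70), (44, Int.ofNat 56), (45, Int.ofNat 79), (46, Int.ofNat 102), (47, Int.ofNat 82), (48, Int.ofNat 62), (49, Int.ofNat 102), (50, Int.ofNat 164), (51, Int.ofNat 105), (52, Int.ofNat 104), (53, Int.ofNat 89), (54, Int.ofNat 96), (55, Int.ofNat 102)],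
  [(24, Int.ofNat 4), (25, Int.ofNat 2), (26, Int.ofNat 2), (27, Int.ofNat 2), (28, Int.ofNat 2), (29, Int.ofNat 2), (30, Int.ofNat 2), (31, Int.ofNat 7), (35, Int.ofNat 3), (38, Int.ofNat 4), (39, Int.ofNat 3), (40, Int.ofNat 6), (41, Int.ofNat 6), (42, Int.ofNat 6), (43, Int.ofNat 8), (44, Int.ofNat 6), (45, Int.ofNat 8), (46, Int.ofNat 10), (47, Int.ofNat 8), (48, Int.ofNat 4), (49, Int.ofNat 12), (50, Int.ofNat 18), (51, Int.ofNat 11), (52, Int.ofNat 9), (53, Int.ofNat 10), (54, Int.ofNat 10), (55, Int.ofNat 10)],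
  [(24, Int.ofNat 4), (25, Int.ofNat 4), (26, Int.ofNat 2), (27, Int.ofNat 2), (28, Int.ofNat 2), (29, Int.ofNat 2), (30, Int.ofNat 2), (31, Int.ofNat 8), (35, Int.ofNat 3), (38, Int.ofNat 5), (39, Int.ofNat 4), (40, Int.ofNat 7), (41, Int.ofNat 7), (42, Int.ofNat 7), (43, Int.ofNat 9), (44, Int.ofNat 7), (45, Int.ofNat 9), (46, Int.ofNat 12), (47, Int.ofNat 9), (48, Int.ofNat 5), (49, Int.ofNat 14), (50, Int.ofNat 20), (51, Int.ofNat 12), (52, Int.ofNat 11), (53, Int.ofNat 12), (54, Int.ofNat 11), (55, Int.ofNat 12)],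
  [(0, Int.ofNat 4), (1, Int.ofNat 2), (2, Int.ofNat 2), (3, Int.ofNat 2), (4, Int.ofNat 4), (5, Int.ofNat 2), (7, Int.ofNat 8), (8, Int.ofNat 2), (9, Int.ofNat 2), (11, Int.ofNat 6), (13, Int.ofNat 6), (14, Int.ofNat 4), (15, Int.ofNat 6), (19, Int.ofNat 5), (20, Int.ofNat 22), (21, Int.ofNat 21), (22, Int.ofNat 23), (23, Int.ofNat 34), (24, Int.ofNat 2), (25, Int.ofNat 6), (26, Int.ofNat 8), (27, Int.ofNat 6), (28, Int.ofNat 4), (29, Int.ofNat 4), (30, Int.ofNat 8), (31, Int.ofNat 32), (33, Int.ofNat 21), (34, Int.ofNat 7), (35, Int.ofNat 52), (36, Int.ofNat 5), (37, Int.ofNat 21), (38, Int.ofNat 51), (39, Int.ofNat 62), (40, Int.ofNat 79), (41, Int.ofNat 71), (42, Int.ofNat 68), (43, Int.ofNat 98), (44, Int.ofNat 74), (45, Int.ofNat 105), (46, Int.ofNat 143), (47, Int.ofNat 108), (48, Int.ofNat 83), (49, Int.ofNat 130), (50, Int.ofNat 212), (51, Int.ofNat 139), (52, Int.ofNat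 137), (53, Int.ofNat 115), (54, Int.ofNat 128), (55, Int.ofNat 131)],
  [(0, Int.ofNat 2), (2, Int.ofNat 2), (3, Int.ofNat 2), (4, Int.ofNat 2), (7, Int.ofNat 4), (8, Int.ofNat 2), (9, Int.ofNat 2), (11, Int.ofNat 4), (13, Int.ofNat 4), (14, Int.ofNat 2), (15, Int.ofNat 4), (19, Int.ofNat 3), (20, Int.ofNat 13), (21, Int.ofNat 14), (22, Int.ofNat 14), (23, Int.ofNat 21), (24, Int.ofNat 4), (25, Int.ofNat 6), (26, Int.ofNat 6), (27, Int.ofNat 6), (28, Int.ofNat 4), (29, Int.ofNat 4), (30, Int.ofNat 6), (31, Int.ofNat 25), (33, Int.ofNat 12), (34, Int.ofNat 3), (35, Int.ofNat 33), (36, Int.ofNat 3), (37, Int.ofNat 12), (38, Int.ofNat 34), (39, Int.ofNat 39), (40, Int.ofNat 52), (41, Int.ofNat 46), (42, Int.ofNat 46), (43, Int.ofNat 64), (44, Int.ofNat 48), (45, Int.ofNat 68), (46, Int.ofNat 92), (47, Int.ofNat 72), (48, Int.ofNat 53), (49, Int.ofNat 86), (50, Int.ofNat 140),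 (51, Int.ofNat 91), (52, Int.ofNat 89), (53, Int.ofNat 78), (54, Int.ofNat 83), (55, Int.ofNat 86)],
  [(2, Int.ofNat 2), (4, Int.ofNat 4), (5, Int.ofNat 2), (7, Int.ofNat 4), (8, Int.ofNat 4), (9, Int.ofNat 2), (10, Int.ofNat 4), (11, Int.ofNat 8), (13, Int.ofNat 6), (14, Int.ofNat 4), (15, Int.ofNat 6), (19, Int.ofNat 4), (20, Int.ofNat 21), (21, Int.ofNat 20), (22, Int.ofNat 19), (23, Int.ofNat 31), (24, Int.ofNat 2), (25, Int.ofNat 6), (26, Int.ofNat 6), (27, Int.ofNat 6), (28, Int.ofNat 6), (29, Int.ofNat 4), (30, Int.ofNat 6), (31, Int.ofNat 34), (33, Int.ofNat 17), (34, Int.ofNat 4), (35, Int.ofNat 46), (36, Int.ofNat 6), (37, Int.ofNat 22), (38, Int.ofNat 46), (39, Int.ofNat 53), (40, Int.ofNat 77), (41, Int.ofNat 61), (42, Int.ofNat 60), (43, Int.ofNat 87), (44, Int.ofNat 67), (45, Int.ofNat 95), (46, Int.ofNat 124), (47, Int.ofNat 100), (48, Int.ofNat 76), (49,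 Int.ofNat 119), (50, Int.ofNat 197), (51, Int.ofNat 127), (52, Int.ofNat 124), (53, Int.ofNat 105), (54, Int.ofNat 117), (55, Int.ofNat 120)],
  [(2, Int.ofNat 4), (3, Int.ofNat 2), (4, Int.ofNat 2), (7, Int.ofNat 4), (8, Int.ofNat 2), (10, Int.ofNat 2), (11, Int.ofNat 4), (13, Int.ofNat 4), (14, Int.ofNat 2), (15, Int.ofNat 4), (19, Int.ofNat 4), (20, Int.ofNat 13), (21, Int.ofNat 14), (22, Int.ofNat 13), (23, Int.ofNat 23), (24, Int.ofNat 4), (25, Int.ofNat 8), (26, Int.ofNat 6), (27, Int.ofNat 4), (28, Int.ofNat 4), (29, Int.ofNat 6), (30, Int.ofNat 6), (31, Int.ofNat 27), (33, Int.ofNat 10), (34, Int.ofNat 1), (35, Int.ofNat 31), (36, Int.ofNat 3), (37, Int.ofNat 14), (38, Int.ofNat 34), (39, Int.ofNat 36), (40, Int.ofNat 55), (41, Int.ofNat 46), (42, Int.ofNat 46), (43, Int.ofNat 65), (44, Int.ofNat 50), (45, Int.ofNat 70), (46, Int.ofNat 94), (47, Int.ofNat 74), (48,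 Int.ofNat 55), (49, Int.ofNat 87), (50, Int.ofNat 145), (51, Int.ofNat 93), (52, Int.ofNat 89), (53, Int.ofNat 80), (54, Int.ofNat 86), (55, Int.ofNat 86)],
  [(0, Int.ofNat 2), (2, Int.ofNat 2), (7, Int.ofNat 2), (8, Int.ofNat 2), (10, Int.ofNat 4), (11, Int.ofNat 6), (13, Int.ofNat 2), (14, Int.ofNat 2), (15, Int.ofNat 4), (19, Int.ofNat 1), (20, Int.ofNat 10), (21, Int.ofNat 10), (22, Int.ofNat 11), (23, Int.ofNat 17), (24, Int.ofNat 4), (25, Int.ofNat 6), (26, Int.ofNat 4), (27, Int.ofNat 6), (28, Int.ofNat 6), (29, Int.ofNat 4), (30, Int.ofNat 4), (31, Int.ofNat 25), (33, Int.ofNat 9), (34, Int.ofNat 1), (35, Int.ofNat 24), (36, Int.ofNat 3), (37, Int.ofNat 12), (38, Int.ofNat 26), (39, Int.ofNat 31), (40, Int.ofNat 46), (41, Int.ofNat 37), (42, Int.ofNat 36), (43, Int.ofNat 50), (44, Int.ofNat 41), (45, Int.ofNat 57), (46, Int.ofNat 74), (47, Int.ofNat 60), (48, Int.ofNat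 46), (49, Int.ofNat 73), (50, Int.ofNat 121), (51, Int.ofNat 78), (52, Int.ofNat 72), (53, Int.ofNat 65), (54, Int.ofNat 72), (55, Int.ofNat 75)],
  [(0, Int.ofNat 4), (1, Int.ofNat 2), (2, Int.ofNat 4), (3, Int.ofNat 2), (7, Int.ofNat 6), (8, Int.ofNat 4), (9, Int.ofNat 2), (10, Int.ofNat 2), (11, Int.ofNat 8), (13, Int.ofNat 6), (14, Int.ofNat 4), (15, Int.ofNat 6), (19, Int.ofNat 3), (20, Int.ofNat 21), (21, Int.ofNat 21), (22, Int.ofNat 24), (23, Int.ofNat 34), (24, Int.ofNat 2), (25, Int.ofNat 6), (26, Int.ofNat 8), (27, Int.ofNat 8), (28, Int.ofNat 6), (29, Int.ofNat 6), (30, Int.ofNat 6), (31, Int.ofNat 35), (33, Int.ofNat 19), (34, Int.ofNat 4), (35, Int.ofNat 49), (36, Int.ofNat 6), (37, Int.ofNat 21), (38, Int.ofNat 48), (39, Int.ofNat 59), (40, Int.ofNat 79), (41, Int.ofNat 67), (42, Int.ofNat 66), (43, Int.ofNat 92), (44, Int.ofNat 72), (45, Int.ofNat 102), (46,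 Int.ofNat 139), (47, Int.ofNat 107), (48, Int.ofNat 84), (49, Int.ofNat 126), (50, Int.ofNat 210), (51, Int.ofNat 138), (52, Int.ofNat 134), (53, Int.ofNat 116), (54, Int.ofNat 127), (55, Int.ofNat 129)],
  [(32, Int.ofNat 4), (33, Int.ofNat 2), (34, Int.ofNat 2), (35, Int.ofNat 1), (36, Int.ofNat 2), (37, Int.ofNat 2), (38, Int.ofNat 2), (39, Int.ofNat 4), (40, Int.ofNat 5), (41, Int.ofNat 5), (42, Int.ofNat 5), (43, Int.ofNat 5), (44, Int.ofNat 5), (45, Int.ofNat 7), (46, Int.ofNat 8), (47, Int.ofNat 5), (48, Int.ofNat 3), (49, Int.ofNat 9), (50, Int.ofNat 14), (51, Int.ofNat 9), (52, Int.ofNat 9), (53, Int.ofNat 8), (54, Int.ofNat 6), (55, Int.ofNat 7)],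
  [(32, Int.ofNat 4), (33, Int.ofNat 4), (34, Int.ofNat 2), (35, Int.ofNat 2), (36, Int.ofNat 2), (37, Int.ofNat 2), (38, Int.ofNat 3), (39, Int.ofNat 5), (40, Int.ofNat 6), (41, Int.ofNat 6), (42, Int.ofNat 6), (43, Int.ofNat 6), (44, Int.ofNat 6), (45, Int.ofNat 8), (46, Int.ofNat 10), (47, Int.ofNat 6), (48, Int.ofNat 4), (49, Int.ofNat 10), (50, Int.ofNat 16), (51, Int.ofNat 10), (52, Int.ofNat 11), (53, Int.ofNat 9), (54, Int.ofNat 7), (55, Int.ofNat 9)],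
  [(0, Int.ofNat 2), (2, Int.ofNat 2), (3, Int.ofNat 2), (4, Int.ofNat 4), (5, Int.ofNat 2), (7, Int.ofNat 6), (8, Int.ofNat 4), (9, Int.ofNat 2), (10, Int.ofNat 2), (11, Int.ofNat 7), (13, Int.ofNat 6), (14, Int.ofNat 4), (15, Int.ofNat 7), (16, Int.ofNat 2), (17, Int.ofNat 2), (19, Int.ofNat 7), (20, Int.ofNat 23), (21, Int.ofNat 23), (22, Int.ofNat 22), (23, Int.ofNat 35), (24, Int.ofNat 2), (25, Int.ofNat 7), (26, Int.ofNat 7), (27, Int.ofNat 6), (28, Int.ofNat 5), (29, Int.ofNat 4), (30, Int.ofNat 7), (31, Int.ofNat 35), (32, Int.ofNat 2), (33, Int.ofNat 21), (34, Int.ofNat 9), (35, Int.ofNat 54), (36, Int.ofNat 8), (37, Int.ofNat 25), (38, Int.ofNat 55), (39, Int.ofNat 66), (40, Int.ofNat 87), (41, Int.ofNat 76), (42, Int.ofNat 73), (43, Int.ofNat 104), (44, Int.ofNat 80), (45, Int.ofNat 114), (46, Int.ofNat 151), (47, Int.ofNat 116), (48, Int.ofNat 89), (49, Int.ofNat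 145), (50, Int.ofNat 232), (51, Int.ofNat 150), (52, Int.ofNat 150), (53, Int.ofNat 126), (54, Int.ofNat 138), (55, Int.ofNat 140)],
  [(0, Int.ofNat 4), (1, Int.ofNat 2), (2, Int.ofNat 2), (3, Int.ofNat 2), (4, Int.ofNat 2), (7, Int.ofNat 6), (8, Int.ofNat 2), (10, Int.ofNat 4), (11, Int.ofNat 7), (13, Int.ofNat 4), (14, Int.ofNat 4), (15, Int.ofNat 7), (16, Int.ofNat 2), (17, Int.ofNat 2), (19, Int.ofNat 5), (20, Int.ofNat 19), (21, Int.ofNat 19), (22, Int.ofNat 20), (23, Int.ofNat 31), (24, Int.ofNat 2), (25, Int.ofNat 8), (26, Int.ofNat 5), (27, Int.ofNat 7), (28, Int.ofNat 6), (29, Int.ofNat 4), (30, Int.ofNat 5), (31, Int.ofNat 33), (32, Int.ofNat 4), (33, Int.ofNat 22), (34, Int.ofNat 8), (35, Int.ofNat 46), (36, Int.ofNat 8), (37, Int.ofNat 24), (38, Int.ofNat 49), (39, Int.ofNat 63), (40, Int.ofNat 81), (41, Int.ofNat 73), (42, Int.ofNat 68), (43, Int.ofNat 95),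 (44, Int.ofNat 76), (45, Int.ofNat 107), (46, Int.ofNat 143), (47, Int.ofNat 107), (48, Int.ofNat 84), (49, Int.ofNat 137), (50, Int.ofNat 219), (51, Int.ofNat 141), (52, Int.ofNat 140), (53, Int.ofNat 118), (54, Int.ofNat 131), (55, Int.ofNat 134)],
  [(0, Int.ofNat 2), (2, Int.ofNat 4), (3, Int.ofNat 2), (4, Int.ofNat 2), (5, Int.ofNat 2), (7, Int.ofNat 6), (8, Int.ofNat 2), (9, Int.ofNat 2), (10, Int.ofNat 2), (11, Int.ofNat 8), (13, Int.ofNat 5), (14, Int.ofNat 4), (15, Int.ofNat 5), (19, Int.ofNat 5), (20, Int.ofNat 20), (21, Int.ofNat 20), (22, Int.ofNat 21), (23, Int.ofNat 32), (25, Int.ofNat 5), (26, Int.ofNat 6), (27, Int.ofNat 4), (28, Int.ofNat 3), (29, Int.ofNat 3), (30, Int.ofNat 6), (31, Int.ofNat 26), (32, Int.ofNat 4), (33, Int.ofNat 20), (34, Int.ofNat 6), (35, Int.ofNat 46), (36, Int.ofNat 8), (37, Int.ofNat 22), (38, Int.ofNat 46), (39, Int.ofNat 57), (40,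 Int.ofNat 78), (41, Int.ofNat 66), (42, Int.ofNat 65), (43, Int.ofNat 91), (44, Int.ofNat 70), (45, Int.ofNat 101), (46, Int.ofNat 134), (47, Int.ofNat 103), (48, Int.ofNat 79), (49, Int.ofNat 122), (50, Int.ofNat 203), (51, Int.ofNat 133), (52, Int.ofNat 130), (53, Int.ofNat 112), (54, Int.ofNat 120), (55, Int.ofNat 123)],
  [(0, Int.ofNat 4), (1, Int.ofNat 2), (2, Int.ofNat 2), (4, Int.ofNat 2), (5, Int.ofNat 2), (7, Int.ofNat 6), (8, Int.ofNat 2), (9, Int.ofNat 2), (10, Int.ofNat 2), (11, Int.ofNat 8), (13, Int.ofNat 5), (14, Int.ofNat 4), (15, Int.ofNat 5), (19, Int.ofNat 3), (20, Int.ofNat 20), (21, Int.ofNat 18), (22, Int.ofNat 21), (23, Int.ofNat 30), (25, Int.ofNat 4), (26, Int.ofNat 5), (27, Int.ofNat 6), (28, Int.ofNat 4), (29, Int.ofNat 3), (30, Int.ofNat 5), (31, Int.ofNat 27), (32, Int.ofNat 2), (33, Int.ofNat 20), (34, Int.ofNat 7), (35, Int.ofNat 45), (36,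 Int.ofNat 6), (37, Int.ofNat 22), (38, Int.ofNat 44), (39, Int.ofNat 57), (40, Int.ofNat 73), (41, Int.ofNat 63), (42, Int.ofNat 59), (43, Int.ofNat 85), (44, Int.ofNat 66), (45, Int.ofNat 95), (46, Int.ofNat 126), (47, Int.ofNat 96), (48, Int.ofNat 75), (49, Int.ofNat 116), (50, Int.ofNat 192), (51, Int.ofNat 126), (52, Int.ofNat 123), (53, Int.ofNat 102), (54, Int.ofNat 116), (55, Int.ofNat 119)],
  [(2, Int.ofNat 2), (4, Int.ofNat 2), (7, Int.ofNat 2), (8, Int.ofNat 4), (9, Int.ofNat 2), (10, Int.ofNat 2), (11, Int.ofNat 5), (13, Int.ofNat 5), (14, Int.ofNat 2), (15, Int.ofNat 4), (16, Int.ofNat 2), (17, Int.ofNat 2), (19, Int.ofNat 4), (20, Int.ofNat 15), (21, Int.ofNat 15), (22, Int.ofNat 13), (23, Int.ofNat 22), (24, Int.ofNat 2), (25, Int.ofNat 5), (26, Int.ofNat 5), (27, Int.ofNat 5), (28, Int.ofNat 4), (29, Int.ofNat 4), (30, Int.ofNat 4), (31, Int.ofNat 26), (32,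 Int.ofNat 2), (33, Int.ofNat 13), (34, Int.ofNat 5), (35, Int.ofNat 35), (36, Int.ofNat 6), (37, Int.ofNat 17), (38, Int.ofNat 37), (39, Int.ofNat 42), (40, Int.ofNat 59), (41, Int.ofNat 50), (42, Int.ofNat 47), (43, Int.ofNat 67), (44, Int.ofNat 52), (45, Int.ofNat 75), (46, Int.ofNat 97), (47, Int.ofNat 76), (48, Int.ofNat 57), (49, Int.ofNat 96), (50, Int.ofNat 154), (51, Int.ofNat 98), (52, Int.ofNat 99), (53, Int.ofNat 83), (54, Int.ofNat 90), (55, Int.ofNat 90)],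
  [(2, Int.ofNat 4), (3, Int.ofNat 2), (4, Int.ofNat 4), (5, Int.ofNat 2), (7, Int.ofNat 6), (8, Int.ofNat 2), (10, Int.ofNat 4), (11, Int.ofNat 7), (13, Int.ofNat 5), (14, Int.ofNat 4), (15, Int.ofNat 6), (16, Int.ofNat 2), (17, Int.ofNat 2), (19, Int.ofNat 8), (20, Int.ofNat 21), (21, Int.ofNat 21), (22, Int.ofNat 19), (23, Int.ofNat 34), (24, Int.ofNat 2), (25, Int.ofNat 9), (26, Int.ofNat 6), (27, Int.ofNat 4), (28, Int.ofNat 4), (29, Int.ofNat 4), (30, Int.ofNat 7), (31, Int.ofNat 33), (32, Int.ofNat 4), (33, Int.ofNat 20), (34, Int.ofNat 7), (35, Int.ofNat 48), (36, Int.ofNat 8), (37, Int.ofNat 26), (38, Int.ofNat 52), (39, Int.ofNat 62), (40, Int.ofNat 87), (41, Int.ofNat 75), (42, Int.ofNat 71), (43, Int.ofNat 102), (44, Int.ofNat 79), (45, Int.ofNat 113), (46, Int.ofNat 148), (47, Int.ofNat 113), (48, Int.ofNat 86), (49, Int.ofNat 141), (50, Int.ofNat 228), (51,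 Int.ofNat 146), (52, Int.ofNat 144), (53, Int.ofNat 123), (54, Int.ofNat 135), (55, Int.ofNat 135)],
  [(40, Int.ofNat 2), (43, Int.ofNat 1), (45, Int.ofNat 1), (47, Int.ofNat 1), (50, Int.ofNat 1), (51, Int.ofNat 1), (54, Int.ofNat 1), (55, Int.ofNat 1)],
  [(40, Int.ofNat 2), (41, Int.ofNat 2), (43, Int.ofNat 2), (45, Int.ofNat 2), (46, Int.ofNat 1), (47, Int.ofNat 1), (49, Int.ofNat 1), (50, Int.ofNat 2), (51, Int.ofNat 1), (52, Int.ofNat 1), (54, Int.ofNat 2), (55, Int.ofNat 1)],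
  [(0, Int.ofNat 2), (2, Int.ofNat 2), (7, Int.ofNat 2), (8, Int.ofNat 4), (9, Int.ofNat 2), (10, Int.ofNat 2), (11, Int.ofNat 6), (13, Int.ofNat 4), (14, Int.ofNat 2), (15, Int.ofNat 4), (16, Int.ofNat 2), (17, Int.ofNat 2), (19, Int.ofNat 3), (20, Int.ofNat 14), (21, Int.ofNat 14), (22, Int.ofNat 14), (23, Int.ofNat 21), (24, Int.ofNat 2), (25, Int.ofNat 4), (26, Int.ofNat 5), (27, Int.ofNat 6), (28, Int.ofNat 5), (29, Int.ofNat 4), (30, Int.ofNat 3), (31, Int.ofNat 25), (33, Int.ofNat 12), (34, Int.ofNat 4), (35, Int.ofNat 33), (36, Int.ofNat 5), (37, Int.ofNat 15), (38, Int.ofNat 33), (39, Int.ofNat 40), (40, Int.ofNat 55), (41, Int.ofNat 46), (42, Int.ofNat 44), (43, Int.ofNat 62), (44, Int.ofNat 48), (45, Int.ofNat 70), (46, Int.ofNat 91), (47, Int.ofNat 72), (48, Int.ofNat 55), (49, Int.ofNat 89), (50, Int.ofNat 144), (51, Int.ofNat 93), (52, Int.ofNat 92), (53, Int.ofNat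 78), (54, Int.ofNat 86), (55, Int.ofNat 86)],
  [(0, Int.ofNat 4), (1, Int.ofNat 2), (2, Int.ofNat 4), (3, Int.ofNat 2), (7, Int.ofNat 6), (8, Int.ofNat 2), (10, Int.ofNat 4), (11, Int.ofNat 8), (13, Int.ofNat 4), (14, Int.ofNat 4), (15, Int.ofNat 6), (16, Int.ofNat 2), (17, Int.ofNat 2), (19, Int.ofNat 5), (20, Int.ofNat 19), (21, Int.ofNat 19), (22, Int.ofNat 21), (23, Int.ofNat 32), (24, Int.ofNat 2), (25, Int.ofNat 8), (26, Int.ofNat 6), (27, Int.ofNat 7), (28, Int.ofNat 6), (29, Int.ofNat 5), (30, Int.ofNat 5), (31, Int.ofNat 33), (33, Int.ofNat 18), (34, Int.ofNat 5), (35, Int.ofNat 44), (36, Int.ofNat 6), (37, Int.ofNat 22), (38, Int.ofNat 46), (39, Int.ofNat 58), (40, Int.ofNat 77), (41, Int.ofNat 67), (42, Int.ofNat 63), (43, Int.ofNat 90), (44, Int.ofNat 71), (45, Int.ofNat 101), (46, Int.ofNat 136), (47, Int.ofNat 103), (48, Int.ofNat 82), (49, Int.ofNat 127),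 (50, Int.ofNat 206), (51, Int.ofNat 134), (52, Int.ofNat 130), (53, Int.ofNat 112), (54, Int.ofNat 126), (55, Int.ofNat 126)],
  [(2, Int.ofNat 2), (3, Int.ofNat 2), (7, Int.ofNat 2), (8, Int.ofNat 4), (9, Int.ofNat 2), (10, Int.ofNat 2), (11, Int.ofNat 5), (13, Int.ofNat 4), (14, Int.ofNat 3), (15, Int.ofNat 4), (16, Int.ofNat 2), (17, Int.ofNat 2), (19, Int.ofNat 4), (20, Int.ofNat 14), (21, Int.ofNat 15), (22, Int.ofNat 14), (23, Int.ofNat 21), (24, Int.ofNat 2), (25, Int.ofNat 5), (26, Int.ofNat 6), (27, Int.ofNat 5), (28, Int.ofNat 4), (29, Int.ofNat 4), (30, Int.ofNat 4), (31, Int.ofNat 25), (32, Int.ofNat 2), (33, Int.ofNat 13), (34, Int.ofNat 4), (35, Int.ofNat 35), (36, Int.ofNat 7), (37, Int.ofNat 16), (38, Int.ofNat 35), (39, Int.ofNat 42), (40, Int.ofNat 59), (41, Int.ofNat 49), (42, Int.ofNat 49), (43, Int.ofNat 67), (44, Int.ofNat 53), (45, Int.ofNat 75), (46,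 Int.ofNat 100), (47, Int.ofNat 77), (48, Int.ofNat 59), (49, Int.ofNat 96), (50, Int.ofNat 154), (51, Int.ofNat 99), (52, Int.ofNat 100), (53, Int.ofNat 87), (54, Int.ofNat 91), (55, Int.ofNat 91)],
  [(2, Int.ofNat 2), (3, Int.ofNat 2), (7, Int.ofNat 2), (8, Int.ofNat 2), (10, Int.ofNat 4), (11, Int.ofNat 5), (13, Int.ofNat 2), (14, Int.ofNat 3), (15, Int.ofNat 4), (16, Int.ofNat 2), (17, Int.ofNat 2), (19, Int.ofNat 4), (20, Int.ofNat 11), (21, Int.ofNat 12), (22, Int.ofNat 11), (23, Int.ofNat 18), (24, Int.ofNat 2), (25, Int.ofNat 6), (26, Int.ofNat 4), (27, Int.ofNat 4), (28, Int.ofNat 4), (29, Int.ofNat 3), (30, Int.ofNat 3), (31, Int.ofNat 22), (32, Int.ofNat 2), (33, Int.ofNat 11), (34, Int.ofNat 3), (35, Int.ofNat 27), (36, Int.ofNat 6), (37, Int.ofNat 15), (38, Int.ofNat 29), (39, Int.ofNat 36), (40, Int.ofNat 53), (41, Int.ofNat 44), (42, Int.ofNat 42), (43, Int.ofNat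 59), (44, Int.ofNat 46), (45, Int.ofNat 67), (46, Int.ofNat 87), (47, Int.ofNat 67), (48, Int.ofNat 52), (49, Int.ofNat 85), (50, Int.ofNat 136), (51, Int.ofNat 87), (52, Int.ofNat 86), (53, Int.ofNat 75), (54, Int.ofNat 82), (55, Int.ofNat 81)],
  [(0, Int.ofNat 2), (2, Int.ofNat 2), (4, Int.ofNat 2), (5, Int.ofNat 2), (7, Int.ofNat 4), (11, Int.ofNat 3), (13, Int.ofNat 2), (14, Int.ofNat 1), (15, Int.ofNat 2), (19, Int.ofNat 3), (20, Int.ofNat 9), (21, Int.ofNat 8), (22, Int.ofNat 9), (23, Int.ofNat 15), (25, Int.ofNat 2), (26, Int.ofNat 2), (27, Int.ofNat 1), (28, Int.ofNat 1), (29, Int.ofNat 1), (30, Int.ofNat 3), (31, Int.ofNat 10), (32, Int.ofNat 2), (33, Int.ofNat 10), (34, Int.ofNat 4), (35, Int.ofNat 20), (36, Int.ofNat 2), (37, Int.ofNat 10), (38, Int.ofNat 21), (39, Int.ofNat 26), (40, Int.ofNat 34), (41, Int.ofNat 30), (42, Int.ofNat 28), (43, Int.ofNat 41), (44,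 Int.ofNat 32), (45, Int.ofNat 46), (46, Int.ofNat 60), (47, Int.ofNat 45), (48, Int.ofNat 34), (49, Int.ofNat 54), (50, Int.ofNat 90), (51, Int.ofNat 59), (52, Int.ofNat 56), (53, Int.ofNat 47), (54, Int.ofNat 53), (55, Int.ofNat 55)],
  [(0, Int.ofNat 4), (1, Int.ofNat 2), (2, Int.ofNat 4), (3, Int.ofNat 2), (4, Int.ofNat 2), (5, Int.ofNat 2), (7, Int.ofNat 8), (11, Int.ofNat 5), (13, Int.ofNat 4), (14, Int.ofNat 3), (15, Int.ofNat 4), (19, Int.ofNat 5), (20, Int.ofNat 17), (21, Int.ofNat 16), (22, Int.ofNat 19), (23, Int.ofNat 29), (25, Int.ofNat 5), (26, Int.ofNat 5), (27, Int.ofNat 3), (28, Int.ofNat 2), (29, Int.ofNat 3), (30, Int.ofNat 6), (31, Int.ofNat 21), (32, Int.ofNat 2), (33, Int.ofNat 18), (34, Int.ofNat 6), (35, Int.ofNat 39), (36, Int.ofNat 4), (37, Int.ofNat 18), (38, Int.ofNat 40), (39, Int.ofNat 50), (40, Int.ofNat 65), (41, Int.ofNat 59), (42, Int.ofNat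 55), (43, Int.ofNat 80), (44, Int.ofNat 61), (45, Int.ofNat 88), (46, Int.ofNat 119), (47, Int.ofNat 88), (48, Int.ofNat 68), (49, Int.ofNat 104), (50, Int.ofNat 173), (51, Int.ofNat 114), (52, Int.ofNat 110), (53, Int.ofNat 93), (54, Int.ofNat 105), (55, Int.ofNat 106)],
  [(48, Int.ofNat 2), (49, Int.ofNat 1), (50, Int.ofNat 1), (51, Int.ofNat 1), (52, Int.ofNat 1), (53, Int.ofNat 1), (54, Int.ofNat 1), (55, Int.ofNat 1)],
  [(0, Int.ofNat 2), (1, Int.ofNat 2), (7, Int.ofNat 2), (8, Int.ofNat 2), (9, Int.ofNat 2), (11, Int.ofNat 3), (13, Int.ofNat 3), (14, Int.ofNat 2), (15, Int.ofNat 2), (16, Int.ofNat 2), (17, Int.ofNat 2), (19, Int.ofNat 2), (20, Int.ofNat 10), (21, Int.ofNat 9), (22, Int.ofNat 10), (23, Int.ofNat 13), (24, Int.ofNat 2), (25, Int.ofNat 3), (26, Int.ofNat 4), (27, Int.ofNat 5), (28, Int.ofNat 3), (29, Int.ofNat 3), (30, Int.ofNat 3), (31, Int.ofNat 18),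 (32, Int.ofNat 2), (33, Int.ofNat 12), (34, Int.ofNat 6), (35, Int.ofNat 27), (36, Int.ofNat 5), (37, Int.ofNat 11), (38, Int.ofNat 27), (39, Int.ofNat 34), (40, Int.ofNat 41), (41, Int.ofNat 39), (42, Int.ofNat 35), (43, Int.ofNat 49), (44, Int.ofNat 38), (45, Int.ofNat 55), (46, Int.ofNat 74), (47, Int.ofNat 53), (48, Int.ofNat 42), (49, Int.ofNat 73), (50, Int.ofNat 112), (51, Int.ofNat 72), (52, Int.ofNat 75), (53, Int.ofNat 61), (54, Int.ofNat 67), (55, Int.ofNat 67)],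
  [(0, Int.ofNat 2), (1, Int.ofNat 2), (2, Int.ofNat 4), (3, Int.ofNat 2), (4, Int.ofNat 4), (5, Int.ofNat 2), (7, Int.ofNat 8), (8, Int.ofNat 2), (10, Int.ofNat 2), (11, Int.ofNat 6), (13, Int.ofNat 6), (14, Int.ofNat 4), (15, Int.ofNat 6), (19, Int.ofNat 6), (20, Int.ofNat 22), (21, Int.ofNat 21), (22, Int.ofNat 22), (23, Int.ofNat 36), (24, Int.ofNat 2), (25, Int.ofNat 9), (26, Int.ofNat 7), (27, Int.ofNat 5), (28, Int.ofNat 4), (29, Int.ofNat 5), (30, Int.ofNat 8), (31, Int.ofNat 34), (32, Int.ofNat 2), (33, Int.ofNat 21), (34, Int.ofNat 6), (35, Int.ofNat 50), (36, Int.ofNat 6), (37, Int.ofNat 24), (38, Int.ofNat 53), (39, Int.ofNat 62), (40, Int.ofNat 85), (41, Int.ofNat 74), (42, Int.ofNat 71), (43, Int.ofNat 102), (44, Int.ofNat 79), (45, Int.ofNat 111), (46, Int.ofNat 150), (47, Int.ofNat 113), (48, Int.ofNat 88), (49, Int.ofNat 137), (50, Int.ofNat 226), (51, Int.ofNat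 146), (52, Int.ofNat 143), (53, Int.ofNat 122), (54, Int.ofNat 135), (55, Int.ofNat 137)],
  [(2, Int.ofNat 2), (4, Int.ofNat 2), (7, Int.ofNat 2), (8, Int.ofNat 2), (10, Int.ofNat 4), (11, Int.ofNat 5), (13, Int.ofNat 3), (14, Int.ofNat 2), (15, Int.ofNat 4), (16, Int.ofNat 2), (17, Int.ofNat 2), (19, Int.ofNat 4), (20, Int.ofNat 12), (21, Int.ofNat 12), (22, Int.ofNat 10), (23, Int.ofNat 19), (25, Int.ofNat 4), (26, Int.ofNat 2), (27, Int.ofNat 3), (28, Int.ofNat 3), (29, Int.ofNat 2), (30, Int.ofNat 2), (31, Int.ofNat 19), (33, Int.ofNat 10), (34, Int.ofNat 3), (35, Int.ofNat 25), (36, Int.ofNat 4), (37, Int.ofNat 15), (38, Int.ofNat 27), (39, Int.ofNat 32), (40, Int.ofNat 46), (41, Int.ofNat 38), (42, Int.ofNat 34), (43, Int.ofNat 51), (44, Int.ofNat 40), (45, Int.ofNat 58), (46, Int.ofNat 74), (47, Int.ofNat 59), (48, Int.ofNat 47), (49, Int.ofNat 74), (50, Int.ofNat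 119), (51, Int.ofNat 76), (52, Int.ofNat 75), (53, Int.ofNat 62), (54, Int.ofNat 72), (55, Int.ofNat 71)],
  [(2, Int.ofNat 4), (3, Int.ofNat 2), (4, Int.ofNat 4), (5, Int.ofNat 2), (7, Int.ofNat 6), (8, Int.ofNat 2), (9, Int.ofNat 2), (10, Int.ofNat 2), (11, Int.ofNat 7), (13, Int.ofNat 6), (14, Int.ofNat 4), (15, Int.ofNat 5), (16, Int.ofNat 2), (17, Int.ofNat 2), (19, Int.ofNat 8), (20, Int.ofNat 22), (21, Int.ofNat 22), (22, Int.ofNat 20), (23, Int.ofNat 34), (25, Int.ofNat 6), (26, Int.ofNat 6), (27, Int.ofNat 3), (28, Int.ofNat 2), (29, Int.ofNat 3), (30, Int.ofNat 7), (31, Int.ofNat 28), (33, Int.ofNat 18), (34, Int.ofNat 6), (35, Int.ofNat 49), (36, Int.ofNat 6), (37, Int.ofNat 23), (38, Int.ofNat 49), (39, Int.ofNat 57), (40, Int.ofNat 77), (41, Int.ofNat 66), (42, Int.ofNat 64), (43, Int.ofNat 93), (44, Int.ofNat 70), (45, Int.ofNat 101), (46, Int.ofNat 135), (47,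 Int.ofNat 104), (48, Int.ofNat 81), (49, Int.ofNat 125), (50, Int.ofNat 203), (51, Int.ofNat 132), (52, Int.ofNat 132), (53, Int.ofNat 111), (54, Int.ofNat 122), (55, Int.ofNat 121)],
  [(0, Int.ofNat 2), (1, Int.ofNat 2), (2, Int.ofNat 2), (4, Int.ofNat 2), (7, Int.ofNat 4), (10, Int.ofNat 2), (11, Int.ofNat 4), (13, Int.ofNat 3), (14, Int.ofNat 2), (15, Int.ofNat 3), (19, Int.ofNat 2), (20, Int.ofNat 11), (21, Int.ofNat 10), (22, Int.ofNat 11), (23, Int.ofNat 18), (24, Int.ofNat 2), (25, Int.ofNat 6), (26, Int.ofNat 3), (27, Int.ofNat 4), (28, Int.ofNat 3), (29, Int.ofNat 3), (30, Int.ofNat 4), (31, Int.ofNat 20), (32, Int.ofNat 2), (33, Int.ofNat 13), (34, Int.ofNat 4), (35, Int.ofNat 26), (36, Int.ofNat 3), (37, Int.ofNat 13), (38, Int.ofNat 29), (39, Int.ofNat 35), (40, Int.ofNat 47), (41, Int.ofNat 42), (42, Int.ofNat 38), (43, Int.ofNat 55), (44, Int.ofNat 43), (45,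 Int.ofNat 61), (46, Int.ofNat 81), (47, Int.ofNat 61), (48, Int.ofNat 47), (49, Int.ofNat 76), (50, Int.ofNat 124), (51, Int.ofNat 80), (52, Int.ofNat 78), (53, Int.ofNat 66), (54, Int.ofNat 74), (55, Int.ofNat 77)],
  [(0, Int.ofNat 2), (1, Int.ofNat 2), (4, Int.ofNat 2), (5, Int.ofNat 2), (7, Int.ofNat 4), (8, Int.ofNat 2), (10, Int.ofNat 4), (11, Int.ofNat 6), (13, Int.ofNat 3), (14, Int.ofNat 4), (15, Int.ofNat 5), (19, Int.ofNat 2), (20, Int.ofNat 15), (21, Int.ofNat 13), (22, Int.ofNat 15), (23, Int.ofNat 22), (25, Int.ofNat 4), (26, Int.ofNat 3), (27, Int.ofNat 5), (28, Int.ofNat 4), (29, Int.ofNat 2), (30, Int.ofNat 3), (31, Int.ofNat 23), (33, Int.ofNat 14), (34, Int.ofNat 4), (35, Int.ofNat 32), (36, Int.ofNat 5), (37, Int.ofNat 17), (38, Int.ofNat 32), (39, Int.ofNat 41), (40, Int.ofNat 56), (41, Int.ofNat 46), (42, Int.ofNat 42), (43, Int.ofNat 63), (44, Int.ofNat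 49), (45, Int.ofNat 70), (46, Int.ofNat 92), (47, Int.ofNat 71), (48, Int.ofNat 58), (49, Int.ofNat 88), (50, Int.ofNat 144), (51, Int.ofNat 93), (52, Int.ofNat 91), (53, Int.ofNat 75), (54, Int.ofNat 90), (55, Int.ofNat 91)],
  [(4, Int.ofNat 2), (5, Int.ofNat 2), (7, Int.ofNat 2), (8, Int.ofNat 2), (10, Int.ofNat 2), (11, Int.ofNat 3), (13, Int.ofNat 2), (14, Int.ofNat 2), (15, Int.ofNat 3), (16, Int.ofNat 2), (17, Int.ofNat 2), (19, Int.ofNat 4), (20, Int.ofNat 10), (21, Int.ofNat 9), (22, Int.ofNat 8), (23, Int.ofNat 14), (24, Int.ofNat 2), (25, Int.ofNat 4), (26, Int.ofNat 3), (27, Int.ofNat 3), (28, Int.ofNat 3), (29, Int.ofNat 2), (30, Int.ofNat 3), (31, Int.ofNat 18), (32, Int.ofNat 2), (33, Int.ofNat 10), (34, Int.ofNat 5), (35, Int.ofNat 24), (36, Int.ofNat 5), (37, Int.ofNat 13), (38, Int.ofNat 26), (39, Int.ofNat 31), (40, Int.ofNat 42), (41, Int.ofNat 37), (42,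 Int.ofNat 34), (43, Int.ofNat 49), (44, Int.ofNat 39), (45, Int.ofNat 55), (46, Int.ofNat 71), (47, Int.ofNat 53), (48, Int.ofNat 42), (49, Int.ofNat 73), (50, Int.ofNat 113), (51, Int.ofNat 71), (52, Int.ofNat 72), (53, Int.ofNat 60), (54, Int.ofNat 67), (55, Int.ofNat 67)]]

def parityRows : List (ℕ × List ℤ) := [
  (28860155224428674, [1, 1, 0, 0, 0, 0, 0, 0, 0, 0, 0, 0, 0, 0, 0, 0, 0, 0, 0, 0, 0, 0, 0, 0, 0, 0, 0, 0, 0, 0, 0, 0, 0, 0, 0, 0, 0, 0, 0, 0, 0, 0, 0, 0, 0, 0, 0, 0, 0, 0, 0, 0, 0, 0, 0, 0]),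
  (5832482576674952, [0, 0, 1, 1, 0, 0, 0, 0, 0, 0, 0, 0, 0, 0, 0, 0, 0, 0, 0, 0, 0, 0, 0, 0, 0, 0, 0, 0, 0, 0, 0, 0, 0, 0, 0, 0, 0, 0, 0, 0, 0, 0, 0, 0, 0, 0, 0, 0, 0, 0, 0, 0, 0, 0, 0, 0]),
  (59884574732492896, [0, 0, 0, 0, 1, 1, 0, 0, 0, 0, 0, 0, 0, 0, 0, 0, 0, 0, 0, 0, 0, 0, 0, 0, 0, 0, 0, 0, 0, 0, 0, 0, 0, 0, 0, 0, 0, 0, 0, 0, 0, 0, 0, 0, 0, 0, 0, 0, 0, 0, 0, 0, 0, 0, 0, 0]),
  (5089040658105024, [0, 0, 0, 0, 0, 0, 0, 0, 1, 1, 0, 0, 0, 0, 0, 0, 0, 0, 0, 0, 0, 0, 0, 0, 0, 0, 0, 0, 0, 0, 0, 0, 0, 0, 0, 0, 0, 0, 0, 0, 0, 0, 0, 0, 0, 0, 0, 0, 0, 0, 0, 0, 0, 0, 0, 0]),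
  (33821769296046272, [0, 0, 0, 0, 0, 0, 0, 0, 0, 0, 1, 1, 0, 0, 0, 0, 0, 0, 0, 0, 0, 0, 0, 0, 0, 0, 0, 0, 0, 0, 0, 0, 0, 0, 0, 0, 0, 0, 0, 0, 0, 0, 0, 0, 0, 0, 0, 0, 0, 0, 0, 0, 0, 0, 0, 0]),
  (43413993291382784, [0, 0, 0, 0, 0, 0, 0, 0, 0, 0, 0, 0, 0, 0, 0, 0, 1, 1, 0, 0, 0, 0, 0, 0, 0, 0, 0, 0, 0, 0, 0, 0, 0, 0, 0, 0, 0, 0, 0, 0, 0, 0, 0, 0, 0, 0, 0, 0, 0, 0, 0, 0, 0, 0, 0, 0]),
  (46791694796779520, [0, 0, 0, 0, 0, 0, 0, 0, 0, 0, 0, 0, 0, 0, 0, 0, 0, 0, 0, 0, 0, 0, 0, 0, 1, 1, 0, 0, 0, 0, 0, 0, 0, 0, 0, 0, 0, 0, 0, 0, 0, 0, 0, 0, 0, 0, 0, 0, 0, 0, 0, 0, 0, 0, 0, 0]),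
  (46989390362968064, [0, 0, 0, 0, 0, 0, 0, 0, 0, 0, 0, 0, 0, 0, 0, 0, 0, 0, 0, 0, 0, 0, 0, 0, 0, 0, 0, 0, 0, 0, 0, 0, 1, 1, 0, 0, 0, 0, 0, 0, 0, 0, 0, 0, 0, 0, 0, 0, 0, 0, 0, 0, 0, 0, 0, 0]),
  (30019897257623552, [0, 0, 0, 0, 0, 0, 0, 0, 0, 0, 0, 0, 0, 0, 0, 0, 0, 0, 0, 0, 0, 0, 0, 0, 0, 0, 0, 0, 0, 0, 0, 0, 0, 0, 0, 0, 0, 0, 0, 0, 1, 1, 0, 0, 0, 0, 0, 0, 0, 0, 0, 0, 0, 0, 0, 0])]

def pairRows : List (ℕ × List ℤ) := [
  (224561508446403, [1, 0, 0, 0, 0, 0, 0, 0, 0, 0, 0, 0, 0, 0, 0, 0, 0, 0, 0, 0, 0, 0, 0, 0, 0, 0, 0, 0, 0, 0, 0, 0, 0, 0, 0, 0, 0, 0, 0, 0, 0, 0, 0, 0, 0, 0, 0, 0, 0, 0, 0, 0, 0, 0, 0, 0]),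
  (17113833797320908, [0, 0, 1, 0, 0, 0, 0, 0, 0, 0, 0, 0, 0, 0, 0, 0, 0, 0, 0, 0, 0, 0, 0, 0, 0, 0, 0, 0, 0, 0, 0, 0, 0, 0, 0, 0, 0, 0, 0, 0, 0, 0, 0, 0, 0, 0, 0, 0, 0, 0, 0, 0, 0, 0, 0, 0]),
  (16889375796031728, [0, 0, 0, 0, 1, 0, 0, 0, 0, 0, 0, 0, 0, 0, 0, 0, 0, 0, 0, 0, 0, 0, 0, 0, 0, 0, 0, 0, 0, 0, 0, 0, 0, 0, 0, 0, 0, 0, 0, 0, 0, 0, 0, 0, 0, 0, 0, 0, 0, 0, 0, 0, 0, 0, 0, 0]),
  (57487746162279168, [0, 0, 0, 0, 0, 0, 0, 0, 1, 0, 0, 0, 0, 0, 0, 0, 0, 0, 0, 0, 0, 0, 0, 0, 0, 0, 0, 0, 0, 0, 0, 0, 0, 0, 0, 0, 0, 0, 0, 0, 0, 0, 0, 0, 0, 0, 0, 0, 0, 0, 0, 0, 0, 0, 0, 0]),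
  (57487746162244608, [0, 0, 0, 0, 0, 0, 0, 0, 0, 0, 1, 0, 0, 0, 0, 0, 0, 0, 0, 0, 0, 0, 0, 0, 0, 0, 0, 0, 0, 0, 0, 0, 0, 0, 0, 0, 0, 0, 0, 0, 0, 0, 0, 0, 0, 0, 0, 0, 0, 0, 0, 0, 0, 0, 0, 0]),
  (16711680, [0, 0, 0, 0, 0, 0, 0, 0, 0, 0, 0, 0, 0, 0, 0, 0, 1, 0, 0, 0, 0, 0, 0, 0, 0, 0, 0, 0, 0, 0, 0, 0, 0, 0, 0, 0, 0, 0, 0, 0, 0, 0, 0, 0, 0, 0, 0, 0, 0, 0, 0, 0, 0, 0, 0, 0]),
  (4278190080, [0, 0, 0, 0, 0, 0, 0, 0, 0, 0, 0, 0, 0, 0, 0, 0, 0, 0, 0, 0, 0, 0, 0, 0, 1, 0, 0, 0, 0, 0, 0, 0, 0, 0, 0, 0, 0, 0, 0, 0, 0, 0, 0, 0, 0, 0, 0, 0, 0, 0, 0, 0, 0, 0, 0, 0]),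
  (1095216660480, [0, 0, 0, 0, 0, 0, 0, 0, 0, 0, 0, 0, 0, 0, 0, 0, 0, 0, 0, 0, 0, 0, 0, 0, 0, 0, 0, 0, 0, 0, 0, 0, 1, 0, 0, 0, 0, 0, 0, 0, 0, 0, 0, 0, 0, 0, 0, 0, 0, 0, 0, 0, 0, 0, 0, 0]),
  (280375465082880, [0, 0, 0, 0, 0, 0, 0, 0, 0, 0, 0, 0, 0, 0, 0, 0, 0, 0, 0, 0, 0, 0, 0, 0, 0, 0, 0, 0, 0, 0, 0, 0, 0, 0, 0, 0, 0, 0, 0, 0, 1, 0, 0, 0, 0, 0, 0, 0, 0, 0, 0, 0, 0, 0, 0, 0]),
  (71776119061217280, [0, 0, 0, 0, 0, 0, 0, 0, 0, 0, 0, 0, 0, 0, 0, 0, 0, 0, 0, 0, 0, 0, 0, 0, 0, 0, 0, 0, 0, 0, 0, 0, 0, 0, 0, 0, 0, 0, 0, 0, 0, 0, 0, 0, 0, 0, 0, 0, 1, 0, 0, 0, 0, 0, 0, 0])]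

end CfsgLib.RuEven
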